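import Cfsg.Agent.H906.WeightsF
import Cfsg.Agent.H906.ZLemma
import Cfsg.Prelude.Def_CaseTheorems

/-!
2-rank of perfect irreducible subgroups of `GL_3(F)`, `F` of odd characteristic, modulo scalars
(towards socle_odd).
-/

set_option autoImplicit false

namespace Cfsg.Agent.H890.Y1

open Cfsg Cfsg.Geo Cfsg.Agent.H906 Module Module.End
open scoped MatrixGroups Matrix commutatorElement

section Diag

variable {K : Type*} [Field K] [IsAlgClosed K]

/-- Simultaneous diagonalisation. -/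
theorem exists_basis {A : Subgroup (GL (Fin 3) K)} (hcomm : ∀ a ∈ A, ∀ b ∈ A, a * b = b * a)
    (hss : ∀ a ∈ A, ∃ n : ℕ, (n : K) ≠ 0 ∧ a ^ n = 1) :
    ∃ (b : Basis (Fin 3) K (Fin 3 → K)) (χ : Fin 3 → A → K), ∀ (a : A) (i : Fin 3),
      en (a : GL (Fin 3) K) (b i) = χ i a • b i := by
  classical
  have hint : DirectSum.IsInternal (fun χ : A → K => wt A χ) :=
    DirectSum.isInternal_submodule_of_iSupIndep_of_iSup_eq_top (indep_wt hcomm hss)
      (iSup_wt hcomm hss)
  let v : ∀ χ : A → K, Basis (Fin (finrank K (wt A χ))) K (wt A χ) := fun χ =>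
    Module.finBasis K (wt A χ)
  let B := hint.collectedBasis v
  have hfin : Fintype (Σ χ : A → K, Fin (finrank K (wt A χ))) :=
    FiniteDimensional.fintypeBasisIndex B
  have hcard : Fintype.card (Σ χ : A → K, Fin (finrank K (wt A χ))) = 3 := by
    rw [← Module.finrank_eq_card_basis B, Module.finrank_fin_fun]
  let e := Fintype.equivFinOfCardEq hcard
  refine ⟨B.reindex e, fun i => (e.symm i).1, fun a i => ?_⟩
  rw [Basis.reindex_apply]
  have h1 : B (e.symm i) ∈ wt A (e.symm i).1 := by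
    have := hint.collectedBasis_mem v (e.symm i)
    exact this
  exact mem_wt.1 h1 a

theorem card_le_four {A : Subgroup (GL (Fin 3) K)} (h2 : (2 : K) ≠ 0)
    (hcomm : ∀ a ∈ A, ∀ b ∈ A, a * b = b * a) (hsq : ∀ a ∈ A, a ^ 2 = 1)
    (hdet : A ≤ specialLinear (Fin 3) K) : Nat.card A ≤ 4 := by
  classical
  obtain ⟨b, χ, hb⟩ := exists_basis hcomm (fun a ha => ⟨2, by exact_mod_cast h2, hsq a ha⟩)
  have hpm : ∀ i a, χ i a = 1 ∨ χ i a = -1 := by
    intro i a
    apply sq_eq_one_iff_of_side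
    have h1 : en ((a : GL (Fin 3) K) ^ 2) (b i) = b i := by
      rw [hsq a a.2, en_one, Module.End.one_apply]
    rw [pow_two, en_mul, Module.End.mul_apply, hb, map_smul, hb, smul_smul] at h1
    have h3 : (χ i a * χ i a - 1) • b i = 0 := by rw [sub_smul, h1, one_smul, sub_self]
    have h4 := (smul_eq_zero.1 h3).resolve_right (b.ne_zero i)
    rw [pow_two]
    exact sub_eq_zero.1 h4
  have hprod : ∀ a, χ 0 a * χ 1 a * χ 2 a = 1 := by
    intro a
    have h1 : ((a : GL (Fin 3) K) : Matrix (Fin 3) (Fin 3) K).det = 1 := by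
      have := hdet a.2
      exact congrArg Units.val (MonoidHom.mem_ker.1 this)
    have h3 : LinearMap.toMatrix b b (en (a : GL (Fin 3) K)) = Matrix.diagonal (fun i => χ i a) := by
      ext i j
      rw [LinearMap.toMatrix_apply, hb, map_smul, Basis.repr_self, Finsupp.smul_single,
        smul_eq_mul, mul_one, Finsupp.single_apply, Matrix.diagonal_apply]
      by_cases hij : i = j
      · subst hij; simp
      · rw [if_neg (fun h => hij h.symm), if_neg hij]
    have h4 : LinearMap.det (en (a : GL (Fin 3) K)) = 1 := by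
      unfold en
      rw [LinearMap.det_toLin', h1]
    rw [← LinearMap.det_toMatrix b, h3, Matrix.det_diagonal, Fin.prod_univ_three] at h4
    exact h4
  let S : Finset K := {1, -1}
  have hS : ∀ i a, χ i a ∈ S := by
    intro i a
    rcases hpm i a with h | h <;> simp [S, h]
  let f : A → S × S := fun a => (⟨χ 0 a, hS 0 a⟩, ⟨χ 1 a, hS 1 a⟩)
  have hf : Function.Injective f := by
    intro a a' h
    have h0 : χ 0 a = χ 0 a' := congrArg (fun x : S × S => (x.1 : K)) h
    have h1 : χ 1 a = χ 1 a' := congrArg (fun x : S × S => (x.2 : K)) h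
    have h2' : χ 2 a = χ 2 a' := by
      have h3 := hprod a
      have h4 := hprod a'
      rw [h0, h1] at h3
      have h5 : χ 0 a' * χ 1 a' ≠ 0 := left_ne_zero_of_mul_eq_one h4
      exact mul_left_cancel₀ h5 (h3.trans h4.symm)
    apply Subtype.ext
    apply en_injective
    apply b.ext
    intro i
    rw [hb, hb]
    fin_cases i
    · exact congrArg (· • b 0) h0
    · exact congrArg (· • b 1) h1
    · exact congrArg (· • b 2) h2'
  have h1 := Nat.card_le_card_of_injective f hf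
  refine h1.trans ?_
  rw [Nat.card_prod]
  have h3 : Nat.card S ≤ 2 := by
    rw [Nat.card_eq_fintype_card, Fintype.card_coe]
    exact Finset.card_le_two
  calc Nat.card S * Nat.card S ≤ 2 * 2 := Nat.mul_le_mul h3 h3
    _ = 4 := rfl

end Diag

section Lift

variable {F : Type*} [Field F] {P : Subgroup (GL (Fin 3) F)}

/-- The projection modulo scalars. -/
abbrev mkP (P : Subgroup (GL (Fin 3) F)) : P →* P ⧸ (scalars (Fin 3) F).subgroupOf P :=
  QuotientGroup.mk' _

theorem mkP_eq_one {g : P} : mkP P g = 1 ↔ (g : GL (Fin 3) F) ∈ scalars (Fin 3) F :=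
  QuotientGroup.eq_one_iff g

theorem mkP_surj : Function.Surjective (mkP P) := QuotientGroup.mk'_surjective _

variable (hperf : ⁅P, P⁆ = P)
include hperf

theorem pow_three_of_scalar {z : P} (hz : mkP P z = 1) : z ^ 3 = 1 :=
  Subtype.ext (scalar_pow_three (le_specialLinear hperf) z.2 (mkP_eq_one.1 hz))

omit hperf in
theorem comm_of_scalar' {z : P} (hz : mkP P z = 1) (g : P) : g * z = z * g :=
  Subgroup.mem_center_iff.1 (scalars_le_center (Subgroup.mem_subgroupOf.2 (mkP_eq_one.1 hz))) g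

/-- Lifting elements of order prime to three. -/
theorem exists_lift_coprime {r : ℕ} (hr : Nat.Coprime 3 r) {u : P ⧸ (scalars (Fin 3) F).subgroupOf P}
    (hu : u ^ r = 1) : ∃ g : P, g ^ r = 1 ∧ mkP P g = u := by
  obtain ⟨g, rfl⟩ := mkP_surj u
  obtain ⟨m, hm⟩ := exists_pow_eq_self_of_coprime (x := mkP P g) (n := 3)
    (hr.of_dvd_right (orderOf_dvd_of_pow_eq_one hu))
  refine ⟨(g ^ 3) ^ m, ?_, ?_⟩
  · rw [← map_pow] at hu
    rw [← pow_mul, ← pow_mul, mul_comm m r, mul_comm 3, mul_assoc, pow_mul, mul_comm m 3, pow_mul,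
      pow_three_of_scalar hperf hu, one_pow]
  · rw [map_pow, map_pow]
    exact hm

/-- Uniqueness of such lifts. -/
theorem lift_unique {r : ℕ} (hr : Nat.Coprime 3 r) {g h : P} (hg : g ^ r = 1) (hh : h ^ r = 1)
    (hgh : mkP P g = mkP P h) : g = h := by
  have hz : mkP P (h⁻¹ * g) = 1 := by rw [map_mul, map_inv, hgh, inv_mul_cancel]
  have h3 := pow_three_of_scalar hperf hz
  have hc : Commute h (h⁻¹ * g) := comm_of_scalar' hz h
  have h1 : g ^ r = h ^ r * (h⁻¹ * g) ^ r := by
    rw [← hc.mul_pow]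
    congr 1
    group
  rw [hg, hh, one_mul] at h1
  have h4 : (h⁻¹ * g) ^ Nat.gcd 3 r = 1 := by
    rw [pow_gcd_eq_one, h3, ← h1]
    exact ⟨rfl, rfl⟩
  rw [hr, pow_one] at h4
  exact (inv_mul_eq_one.1 h4).symm

theorem lift_conj {r : ℕ} (hr : Nat.Coprime 3 r) {g y h : P} (hg : g ^ r = 1) (hh : h ^ r = 1)
    (hgh : mkP P (y * g * y⁻¹) = mkP P h) : y * g * y⁻¹ = h := by
  refine lift_unique hperf hr ?_ hh hgh
  rw [conj_pow, hg, mul_one, mul_inv_cancel]

/-- **2-rank at most two.** -/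
theorem pRankLE (h2 : (2 : F) ≠ 0) :
    PRankLE 2 2 (P ⧸ (scalars (Fin 3) F).subgroupOf P) := by
  intro A hA hsq
  have hcop : Nat.Coprime 3 2 := by decide
  have hAc : ∀ a ∈ A, ∀ b ∈ A, a * b = b * a := fun a ha b hb =>
    congrArg Subtype.val (hA.1.1 (⟨a, ha⟩ : A) ⟨b, hb⟩)
  have hcomm : ∀ g h : P, mkP P g ∈ A → mkP P h ∈ A → h ^ 2 = 1 → g * h = h * g := by
    intro g h hg hh h2'
    have h1 := lift_conj hperf hcop (g := h) (y := g) (h := h) h2' h2' (by
      rw [map_mul, map_mul, map_inv, hAc _ hg _ hh, mul_inv_cancel_right])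
    rwa [mul_inv_eq_iff_eq_mul] at h1
  let B : Subgroup P :=
    { carrier := {g | g ^ 2 = 1 ∧ mkP P g ∈ A}
      one_mem' := ⟨one_pow 2, by rw [map_one]; exact A.one_mem⟩
      mul_mem' := by
        rintro a b ⟨ha, ha'⟩ ⟨hb, hb'⟩
        have hc : Commute a b := hcomm a b ha' hb' hb
        exact ⟨by rw [hc.mul_pow, ha, hb, one_mul], by rw [map_mul]; exact A.mul_mem ha' hb'⟩
      inv_mem' := by
        rintro a ⟨ha, ha'⟩
        exact ⟨by rw [inv_pow, ha, inv_one], by rw [map_inv]; exact A.inv_mem ha'⟩ }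
  let f : B → A := fun g => ⟨mkP P g, g.2.2⟩
  have hf : Function.Bijective f := by
    constructor
    · intro g h hgh
      exact Subtype.ext (lift_unique hperf hcop g.2.1 h.2.1 (congrArg Subtype.val hgh))
    · rintro ⟨u, hu⟩
      obtain ⟨g, hg, hgu⟩ := exists_lift_coprime hperf hcop (hsq u hu)
      exact ⟨⟨g, hg, by rw [hgu]; exact hu⟩, Subtype.ext hgu⟩
  have hcard : Nat.card B = Nat.card A := Nat.card_congr (Equiv.ofBijective f hf)
  let C : Subgroup (GL (Fin 3) (AlgebraicClosure F)) := (B.map P.subtype).map (ac F)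
  have hC : Nat.card C = Nat.card B := by
    have h1 : Nat.card C = Nat.card (B.map P.subtype) :=
      Nat.card_image_of_injective ac_injective _
    have h3 : Nat.card (B.map P.subtype) = Nat.card B :=
      Nat.card_image_of_injective P.subtype_injective _
    rw [h1, h3]
  rw [← hcard, ← hC]
  refine card_le_four (ac_ne_zero (n := 2) (by exact_mod_cast h2)) ?_ ?_ ?_
  · rintro _ ⟨_, ⟨a, ha, rfl⟩, rfl⟩ _ ⟨_, ⟨b, hb, rfl⟩, rfl⟩
    rw [← map_mul, ← map_mul, ← map_mul, ← map_mul, hcomm a b ha.2 hb.2 hb.1]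
  · rintro _ ⟨_, ⟨a, ha, rfl⟩, rfl⟩
    rw [← map_pow, ← map_pow, ha.1, map_one, map_one]
  · rintro _ ⟨_, ⟨a, ha, rfl⟩, rfl⟩
    have h1 : Matrix.GeneralLinearGroup.det (a : GL (Fin 3) F) = 1 := le_specialLinear hperf a.2
    apply Units.ext
    show (((a : GL (Fin 3) F) : Matrix (Fin 3) (Fin 3) F).map (algebraMap F (AlgebraicClosure F))).det = 1
    have h3 := congrArg Units.val h1
    have h4 := RingHom.map_det (algebraMap F (AlgebraicClosure F)) ((a : GL (Fin 3) F) : Matrix (Fin 3) (Fin 3) F)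
    rw [RingHom.mapMatrix_apply] at h4
    rw [← h4]
    have h5 : ((a : GL (Fin 3) F) : Matrix (Fin 3) (Fin 3) F).det = 1 := h3
    rw [h5, map_one]

end Lift

end Cfsg.Agent.H890.Y1
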