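import Cfsg.Agent.SporadicStructure.M22Syl11
import Cfsg.Agent.SporadicA.M11Facts
import Cfsg.Prelude.Def_Spor_Mathieu

/-!
Elements of order 11 or 5 that are conjugate to a power of themselves, in the Mathieu groups and in
the alternating groups of degree at least 7 (facts X3, X4, X5).
-/

set_option autoImplicit false

namespace Cfsg.Agent.H890.XSpor

open Cfsg Cfsg.Agent.SporadicA.GolayBase Cfsg.Agent.SporadicStructure.M22Syl11

theorem twist_conj_f11 : cubeTwist * f11 * cubeTwist⁻¹ = f11 ^ 3 := by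
  have := twist_conj 1
  rwa [pow_one, pow_one] at this

theorem twist_zero' : cubeTwist (some 0) = some 0 := twist_zero

/-- The general transport. -/
theorem of_subgroup {G Ω : Type*} [Group G] [Group Ω] {H : Subgroup Ω} (e : G ≃* H) {n k : ℕ}
    {x y : Ω} (hx : x ∈ H) (hy : y ∈ H) (ho : orderOf x = n) (hxy : y * x * y⁻¹ = x ^ k) :
    ∃ x y : G, orderOf x = n ∧ y * x * y⁻¹ = x ^ k := by
  refine ⟨e.symm ⟨x, hx⟩, e.symm ⟨y, hy⟩, ?_, ?_⟩
  · rw [← ho]
    have h1 : orderOf (e.symm ⟨x, hx⟩) = orderOf (⟨x, hx⟩ : H) :=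
      orderOf_injective e.symm.toMonoidHom e.symm.injective _
    rw [h1, Subgroup.orderOf_mk]
  · rw [← map_mul, ← map_inv, ← map_mul, ← map_pow]
    congr 1
    exact Subtype.ext hxy

theorem exists_eleven_M22 {G : Type*} [Group G] (h : Cfsg.Spor.IsoM22 G) :
    ∃ x y : G, orderOf x = 11 ∧ y * x * y⁻¹ = x ^ 3 := by
  obtain ⟨e⟩ := h
  exact of_subgroup e (x := f11) (y := cubeTwist) ⟨⟨f11_mem_G0.1, f11_mem_G0.2.1⟩, f11_mem_G0.2.2⟩
    ⟨⟨twist_mem_G0.1, twist_mem_G0.2.1⟩, twist_mem_G0.2.2⟩ orderOf_f11 twist_conj_f11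

theorem exists_eleven_M23 {G : Type*} [Group G] (h : Cfsg.Spor.IsoM23 G) :
    ∃ x y : G, orderOf x = 11 ∧ y * x * y⁻¹ = x ^ 3 := by
  obtain ⟨e⟩ := h
  exact of_subgroup e (x := f11) (y := cubeTwist) ⟨f11_mem_G0.1, f11_mem_G0.2.1⟩
    ⟨twist_mem_G0.1, twist_mem_G0.2.1⟩ orderOf_f11 twist_conj_f11

theorem exists_eleven_M24 {G : Type*} [Group G] (h : Cfsg.Spor.IsoM24 G) :
    ∃ x y : G, orderOf x = 11 ∧ y * x * y⁻¹ = x ^ 3 := by
  obtain ⟨e⟩ := h
  exact of_subgroup e (x := f11) (y := cubeTwist) f11_mem_G0.1 twist_mem_G0.1 orderOf_f11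
    twist_conj_f11

theorem exists_of_isConj {G : Type*} [Group G] {x : G} {n k : ℕ} (ho : orderOf x = n)
    (h : IsConj x (x ^ k)) : ∃ x y : G, orderOf x = n ∧ y * x * y⁻¹ = x ^ k := by
  obtain ⟨y, hy⟩ := isConj_iff.1 h
  exact ⟨x, y, ho, hy⟩

theorem exists_eleven_M11 {G : Type*} [Group G] (h : Cfsg.IsM11 G) :
    ∃ x y : G, orderOf x = 11 ∧ y * x * y⁻¹ = x ^ 3 := by
  have : Finite G := Nat.finite_of_card_ne_zero (by rw [h.2]; norm_num)
  obtain ⟨x, hx⟩ := Cfsg.Agent.SporadicA.M11Facts.exists_orderOf_eleven h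
  exact exists_of_isConj hx (Cfsg.Agent.SporadicA.M11Sylow.isConj_pow_three h hx)

theorem exists_five_M11 {G : Type*} [Group G] (h : Cfsg.IsM11 G) :
    ∃ x y : G, orderOf x = 5 ∧ y * x * y⁻¹ = x ^ 2 := by
  have : Finite G := Nat.finite_of_card_ne_zero (by rw [h.2]; norm_num)
  have : Fact (Nat.Prime 5) := ⟨by norm_num⟩
  obtain ⟨x, hx⟩ := exists_prime_orderOf_dvd_card' (G := G) 5 (by rw [h.2]; norm_num)
  exact exists_of_isConj hx (Cfsg.Agent.SporadicA.M11Facts.isConj_five h hx)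

/-- Transport of the pair along an injective homomorphism. -/
theorem of_injective {G H : Type*} [Group G] [Group H] (f : G →* H) (hf : Function.Injective f)
    {n k : ℕ} (h : ∃ x y : G, orderOf x = n ∧ y * x * y⁻¹ = x ^ k) :
    ∃ x y : H, orderOf x = n ∧ y * x * y⁻¹ = x ^ k := by
  obtain ⟨x, y, hx, hy⟩ := h
  exact ⟨f x, f y, by rw [orderOf_injective f hf, hx], by rw [← map_inv, ← map_mul, ← map_mul, hy,
    map_pow]⟩

theorem exists_five_alt_seven :
    ∃ x y : alternatingGroup (Fin 7), orderOf x = 5 ∧ y * x * y⁻¹ = x ^ 2 := by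
  have hx : (c[(0 : Fin 7), 1, 2, 3, 4] : Equiv.Perm (Fin 7)) ∈ alternatingGroup (Fin 7) := by
    rw [Equiv.Perm.mem_alternatingGroup]; decide
  have hy : (c[(1 : Fin 7), 2, 4, 3] * c[(5 : Fin 7), 6] : Equiv.Perm (Fin 7)) ∈
      alternatingGroup (Fin 7) := by
    rw [Equiv.Perm.mem_alternatingGroup]; decide
  refine ⟨⟨_, hx⟩, ⟨_, hy⟩, ?_, ?_⟩
  · have : Fact (Nat.Prime 5) := ⟨by norm_num⟩
    refine orderOf_eq_prime ?_ ?_
    · apply Subtype.ext
      show (c[(0 : Fin 7), 1, 2, 3, 4] : Equiv.Perm (Fin 7)) ^ 5 = 1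
      ext i
      revert i
      decide
    · intro h
      have h2 : (c[(0 : Fin 7), 1, 2, 3, 4] : Equiv.Perm (Fin 7)) = 1 := congrArg Subtype.val h
      exact absurd h2 (by decide)
  · apply Subtype.ext
    show (c[(1 : Fin 7), 2, 4, 3] * c[(5 : Fin 7), 6] : Equiv.Perm (Fin 7)) *
      c[(0 : Fin 7), 1, 2, 3, 4] * (c[(1 : Fin 7), 2, 4, 3] * c[(5 : Fin 7), 6])⁻¹ =
        c[(0 : Fin 7), 1, 2, 3, 4] ^ 2
    decide

/-- Every alternating group of degree at least 7 contains a Frobenius group of order 20. -/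
theorem exists_five_alt {k : ℕ} (hk : 7 ≤ k) :
    ∃ x y : alternatingGroup (Fin k), orderOf x = 5 ∧ y * x * y⁻¹ = x ^ 2 := by
  let f : Equiv.Perm (Fin 7) →* Equiv.Perm (Fin k) :=
    Equiv.Perm.viaEmbeddingHom (Fin.castLEEmb hk)
  have hf : Function.Injective f := Equiv.Perm.viaEmbeddingHom_injective _
  obtain ⟨x, y, hx, hy⟩ := exists_five_alt_seven
  have hsign : ∀ g : Equiv.Perm (Fin 7), Equiv.Perm.sign (f g) = Equiv.Perm.sign g := by
    intro g
    show Equiv.Perm.sign (Equiv.Perm.viaEmbeddingHom (Fin.castLEEmb hk) g) = _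
    rw [Equiv.Perm.viaEmbeddingHom_apply]
    classical
    unfold Equiv.Perm.viaEmbedding
    convert Equiv.Perm.sign_extendDomain _ _
  have hm : ∀ g : alternatingGroup (Fin 7), f g ∈ alternatingGroup (Fin k) := by
    intro g
    rw [Equiv.Perm.mem_alternatingGroup, hsign]
    exact g.2
  refine of_injective (((f.comp (alternatingGroup (Fin 7)).subtype).codRestrict
    (alternatingGroup (Fin k)) hm)) ?_ ⟨x, y, hx, hy⟩
  intro a b hab
  exact Subtype.ext (hf (congrArg Subtype.val hab))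

end Cfsg.Agent.H890.XSpor
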