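import Cfsg.Agent.S1248

/-!
Two commuting involutions of `PSU_3(4)` which are commutators of elements centralising both
(fact X6).
-/

set_option autoImplicit false

namespace Cfsg.Agent.H890.XUni

open Cfsg
open scoped commutatorElement

/-- In a group whose centre is a Klein four-group and equal to the commutator subgroup there are two
different involutions which are commutators. -/
theorem exists_two {S : Type*} [Group S] (hK : IsKleinFour (Subgroup.center S))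
    (hc : Subgroup.center S = commutator S) :
    ∃ x₁ y₁ x₂ y₂ : S, ⁅x₁, y₁⁆ ≠ ⁅x₂, y₂⁆ ∧ orderOf ⁅x₁, y₁⁆ = 2 ∧ orderOf ⁅x₂, y₂⁆ = 2 ∧
      ⁅x₁, y₁⁆ ∈ Subgroup.center S ∧ ⁅x₂, y₂⁆ ∈ Subgroup.center S := by
  have hmem : ∀ x y : S, ⁅x, y⁆ ∈ Subgroup.center S := by
    intro x y
    rw [hc, commutator_eq_closure]
    exact Subgroup.subset_closure ⟨x, y, rfl⟩
  have hsq : ∀ z ∈ Subgroup.center S, z ^ 2 = 1 := by
    intro z hz
    have h1 := Monoid.pow_exponent_eq_one (⟨z, hz⟩ : Subgroup.center S)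
    rw [hK.exponent_two] at h1
    exact congrArg Subtype.val h1
  have ho : ∀ x y : S, ⁅x, y⁆ ≠ 1 → orderOf ⁅x, y⁆ = 2 := by
    intro x y h
    have : Fact (Nat.Prime 2) := ⟨Nat.prime_two⟩
    exact orderOf_eq_prime (hsq _ (hmem x y)) h
  have hcard : Nat.card (Subgroup.center S) = 4 := hK.card_four
  -- a commutator outside a given subgroup
  have key : ∀ H : Subgroup S, Nat.card H < 4 → Finite H → ∃ x y : S, ⁅x, y⁆ ∉ H := by
    intro H hH _
    by_contra hcon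
    push Not at hcon
    have hle : Subgroup.center S ≤ H := by
      rw [hc, commutator_eq_closure, Subgroup.closure_le]
      rintro _ ⟨x, y, rfl⟩
      exact hcon x y
    have := Nat.card_mono (Set.toFinite (H : Set S)) hle
    have h2 : Nat.card (Subgroup.center S) ≤ Nat.card H := this
    omega
  obtain ⟨x₁, y₁, h₁⟩ := key ⊥ (by rw [Subgroup.card_bot]; norm_num) inferInstance
  rw [Subgroup.mem_bot] at h₁
  have hcard2 : Nat.card (Subgroup.zpowers ⁅x₁, y₁⁆) = 2 := by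
    rw [Nat.card_zpowers, ho _ _ h₁]
  obtain ⟨x₂, y₂, h₂⟩ := key (Subgroup.zpowers ⁅x₁, y₁⁆) (by rw [hcard2]; norm_num)
    (Nat.finite_of_card_ne_zero (by rw [hcard2]; norm_num))
  have h₂' : ⁅x₂, y₂⁆ ≠ 1 := fun h => h₂ (h ▸ Subgroup.one_mem _)
  refine ⟨x₁, y₁, x₂, y₂, ?_, ho _ _ h₁, ho _ _ h₂', hmem _ _, hmem _ _⟩
  intro h
  exact h₂ (h ▸ Subgroup.mem_zpowers _)

/-- **Fact X6.** -/
theorem exists_involutions {F : Type*} [Field F] [Fintype F] (hF : Fintype.card F = 16)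
    {G : Type*} [Group G] (e : G ≃* PSU 3 F 4) :
    ∃ x₁ y₁ x₂ y₂ : G, ⁅x₁, y₁⁆ ≠ ⁅x₂, y₂⁆ ∧ orderOf ⁅x₁, y₁⁆ = 2 ∧ orderOf ⁅x₂, y₂⁆ = 2 ∧
      Commute ⁅x₁, y₁⁆ x₁ ∧ Commute ⁅x₁, y₁⁆ y₁ ∧ Commute ⁅x₁, y₁⁆ x₂ ∧ Commute ⁅x₁, y₁⁆ y₂ ∧
      Commute ⁅x₂, y₂⁆ x₁ ∧ Commute ⁅x₂, y₂⁆ y₁ ∧ Commute ⁅x₂, y₂⁆ x₂ ∧
      Commute ⁅x₂, y₂⁆ y₂ := by
  obtain ⟨S⟩ : Nonempty (Sylow 2 (PSU 3 F 4)) := inferInstance
  obtain ⟨-, hK, -, hc, -⟩ := Cfsg.Agent.S1248.result hF S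
  obtain ⟨x₁, y₁, x₂, y₂, hne, ho₁, ho₂, hm₁, hm₂⟩ := exists_two hK hc
  let f : (S : Subgroup (PSU 3 F 4)) →* G :=
    e.symm.toMonoidHom.comp (S : Subgroup (PSU 3 F 4)).subtype
  have hf : Function.Injective f := e.symm.injective.comp Subtype.val_injective
  have hcm : ∀ (u : (S : Subgroup (PSU 3 F 4))), u ∈ Subgroup.center _ →
      ∀ v : (S : Subgroup (PSU 3 F 4)), Commute (f u) (f v) := by
    intro u hu v
    have : Commute u v := (Subgroup.mem_center_iff.1 hu v).symm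
    exact this.map f
  refine ⟨f x₁, f y₁, f x₂, f y₂, ?_, ?_, ?_, ?_, ?_, ?_, ?_, ?_, ?_, ?_, ?_⟩
  · rw [← map_commutatorElement, ← map_commutatorElement]
    exact fun h => hne (hf h)
  · rw [← map_commutatorElement, orderOf_injective f hf, ho₁]
  · rw [← map_commutatorElement, orderOf_injective f hf, ho₂]
  all_goals
    rw [← map_commutatorElement]
    first
    | exact hcm _ hm₁ _
    | exact hcm _ hm₂ _

end Cfsg.Agent.H890.XUni
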