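import Cfsg.Agent.H890.Y1Rank
import Cfsg.Agent.H890.XSpor
import Cfsg.Agent.H890.XUni
import Cfsg.Agent.S0482

/-!
The simple quotient of a perfect absolutely irreducible subgroup of `GL_3(F)`, `F` of odd
characteristic (socle_odd).
-/

set_option autoImplicit false

namespace Cfsg.Agent.H890.Y1

open Cfsg Cfsg.Geo Cfsg.Agent.H906
open scoped MatrixGroups Matrix commutatorElement

variable {F : Type*} [Field F] {P : Subgroup (GL (Fin 3) F)}

/-- **Lemma R.** An element of prime order `r ≠ 3`, `r ≠ char F`, of `P` modulo scalars is conjugate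
to its `k`-th power only if `k² = 1` or `k³ = 1` modulo `r`. -/
theorem lemmaR (hperf : ⁅P, P⁆ = P) {r : ℕ} (hr : r.Prime) (hr3 : r ≠ 3) (hrF : (r : F) ≠ 0)
    {x y : P ⧸ (scalars (Fin 3) F).subgroupOf P} (hx : orderOf x = r) {k : ℕ}
    (h : y * x * y⁻¹ = x ^ k) : k ^ 2 % r = 1 ∨ k ^ 3 % r = 1 := by
  have hcop : Nat.Coprime 3 r := (Nat.coprime_primes Nat.prime_three hr).2 (Ne.symm hr3)
  have hxr : x ^ r = 1 := by rw [← hx]; exact pow_orderOf_eq_one x
  obtain ⟨g, hg, hgx⟩ := exists_lift_coprime hperf hcop hxr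
  obtain ⟨c, hc⟩ := mkP_surj y
  have hconj : c * g * c⁻¹ = g ^ k := by
    refine lift_conj hperf hcop hg ?_ ?_
    · rw [← pow_mul, mul_comm, pow_mul, hg, one_pow]
    · rw [map_mul, map_mul, map_inv, map_pow, hgx, hc, h]
  have hg1 : g ≠ 1 := by
    rintro rfl
    rw [map_one] at hgx
    rw [← hgx, orderOf_one] at hx
    exact hr.one_lt.ne hx
  have : Fact r.Prime := ⟨hr⟩
  have hord : orderOf g = r := orderOf_eq_prime hg hg1
  have hpow : ∀ n : ℕ, c ^ n * g * (c ^ n)⁻¹ = g ^ k ^ n := by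
    intro n
    induction n with
    | zero => simp
    | succ n ih =>
      rw [pow_succ', mul_inv_rev]
      calc c * c ^ n * g * ((c ^ n)⁻¹ * c⁻¹) = c * (c ^ n * g * (c ^ n)⁻¹) * c⁻¹ := by group
        _ = c * g ^ k ^ n * c⁻¹ := by rw [ih]
        _ = (c * g * c⁻¹) ^ k ^ n := (conj_pow).symm
        _ = g ^ k ^ (n + 1) := by rw [hconj, ← pow_mul, ← pow_succ']
  have hfin : ∀ n : ℕ, c ^ n * g = g * c ^ n → k ^ n % r = 1 := by
    intro n hn
    have h1 := hpow n
    rw [hn, mul_inv_cancel_right] at h1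
    have h3 : g ^ 1 = g ^ k ^ n := by rw [pow_one]; exact h1
    rw [pow_eq_pow_iff_modEq, hord] at h3
    have h4 : 1 % r = 1 := Nat.mod_eq_of_lt hr.one_lt
    have h5 : 1 % r = k ^ n % r := h3
    rw [← h5, h4]
  -- the abelian group generated by `g`
  let A : Subgroup (GL (Fin 3) F) := Subgroup.zpowers (g : GL (Fin 3) F)
  have hAc : ∀ a ∈ A, ∀ b ∈ A, a * b = b * a := by
    rintro _ ⟨i, rfl⟩ _ ⟨j, rfl⟩
    exact (Commute.zpow_zpow_self (g : GL (Fin 3) F) i j).eq
  have hgr : (g : GL (Fin 3) F) ^ r = 1 := congrArg Subtype.val hg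
  have hAs : ∀ a ∈ A, ∃ n : ℕ, (n : F) ≠ 0 ∧ a ^ n = 1 := by
    rintro _ ⟨i, rfl⟩
    refine ⟨r, hrF, ?_⟩
    rw [← zpow_natCast, ← zpow_mul, mul_comm, zpow_mul, zpow_natCast, hgr, one_zpow]
  have hcg : (c : GL (Fin 3) F) * g * (c : GL (Fin 3) F)⁻¹ = (g : GL (Fin 3) F) ^ k :=
    congrArg Subtype.val hconj
  have hmem : ∀ a ∈ A, (c : GL (Fin 3) F) * a * (c : GL (Fin 3) F)⁻¹ ∈ A := by
    rintro _ ⟨i, rfl⟩
    show _ * _ ^ i * _ ∈ A
    rw [← conj_zpow, hcg]
    exact Subgroup.zpow_mem _ (Subgroup.pow_mem _ (Subgroup.mem_zpowers _) _) _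
  have hmem' : ∀ a ∈ A, (c : GL (Fin 3) F)⁻¹ * a * (c : GL (Fin 3) F) ∈ A := by
    have hmap : A.map (MulAut.conj (c : GL (Fin 3) F)).toMonoidHom = A := by
      have : Finite A := by
        have : IsOfFinOrder (g : GL (Fin 3) F) := isOfFinOrder_iff_pow_eq_one.2 ⟨r, hr.pos, hgr⟩
        exact this.finite_zpowers
      apply Subgroup.eq_of_le_of_card_ge
      · rintro _ ⟨a, ha, rfl⟩
        exact hmem a ha
      · have h1 : Nat.card (A.map (MulAut.conj (c : GL (Fin 3) F)).toMonoidHom) = Nat.card A :=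
          Nat.card_image_of_injective (MulAut.conj (c : GL (Fin 3) F)).injective _
        rw [h1]
    intro a ha
    rw [← hmap] at ha
    obtain ⟨b, hb, rfl⟩ := ha
    show (c : GL (Fin 3) F)⁻¹ * ((c : GL (Fin 3) F) * b * (c : GL (Fin 3) F)⁻¹) * (c : GL (Fin 3) F) ∈ A
    have : (c : GL (Fin 3) F)⁻¹ * ((c : GL (Fin 3) F) * b * (c : GL (Fin 3) F)⁻¹) *
      (c : GL (Fin 3) F) = b := by group
    rw [this]
    exact hb
  rcases sq_or_cube hAc hAs hmem hmem' with h1 | h1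
  · left
    exact hfin 2 (Subtype.ext (h1 _ (Subgroup.mem_zpowers _)))
  · right
    exact hfin 3 (Subtype.ext (h1 _ (Subgroup.mem_zpowers _)))

/-- The group `U_3(4)` does not occur. -/
theorem not_U34 (hperf : ⁅P, P⁆ = P) (h2 : (2 : F) ≠ 0) {K : Type*} [Field K] [Fintype K]
    (hK : Fintype.card K = 16) (e : (P ⧸ (scalars (Fin 3) F).subgroupOf P) ≃* PSU 3 K 4) : False := by
  obtain ⟨x₁, y₁, x₂, y₂, hne, ho₁, ho₂, c11, c12, c13, c14, c21, c22, c23, c24⟩ :=
    Cfsg.Agent.H890.XUni.exists_involutions hK e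
  have hcop : Nat.Coprime 3 2 := by decide
  -- lifting
  have key : ∀ x y : P ⧸ (scalars (Fin 3) F).subgroupOf P, orderOf ⁅x, y⁆ = 2 →
      Commute ⁅x, y⁆ x → Commute ⁅x, y⁆ y → ∃ a b v : P, mkP P v = ⁅x, y⁆ ∧ v ^ 2 = 1 ∧
        a * b = v * (b * a) ∧ mkP P a ∈ Subgroup.zpowers x ∧ mkP P b = y := by
    intro x y ho hcx hcy
    obtain ⟨a, rfl⟩ := mkP_surj x
    obtain ⟨b, rfl⟩ := mkP_surj y
    obtain ⟨v, hv, hvu⟩ := exists_lift_coprime hperf hcop (u := ⁅mkP P a, mkP P b⁆) (by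
      rw [← ho]; exact pow_orderOf_eq_one _)
    -- `v` commutes with `a`
    have hva : a * v * a⁻¹ = v := lift_conj hperf hcop hv hv (by
      rw [map_mul, map_mul, map_inv, hvu, ← hcx.eq, mul_inv_cancel_right])
    have hva' : a * v = v * a := by rwa [mul_inv_eq_iff_eq_mul] at hva
    -- `⁅a, b⁆ = v z`
    have hz : mkP P (v⁻¹ * ⁅a, b⁆) = 1 := by
      rw [map_mul, map_inv, hvu, map_commutatorElement, inv_mul_cancel]
    set z := v⁻¹ * ⁅a, b⁆ with hzdef
    have hz3 := pow_three_of_scalar hperf hz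
    have hzc := comm_of_scalar' (P := P) hz
    have hab : a * b = v * z * (b * a) := by
      rw [hzdef, commutatorElement_def]
      group
    have hbab : b * a⁻¹ * b⁻¹ = a⁻¹ * (v * z) := by
      have : a * b * a⁻¹ * b⁻¹ = v * z := by
        rw [hab]; group
      rw [← this]; group
    have hcube : a ^ 3 * b = (v * z) ^ 3 * (b * a ^ 3) := by
      have hw : Commute a (v * z) := by
        show a * (v * z) = v * z * a
        rw [← mul_assoc, hva', mul_assoc, hzc a, ← mul_assoc]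
      set w := v * z with hwdef
      have h1 : ∀ n : ℕ, a ^ n * b = w ^ n * (b * a ^ n) := by
        intro n
        induction n with
        | zero => simp
        | succ n ih =>
          have h5 : a * w ^ n = w ^ n * a := (hw.pow_right n).eq
          calc a ^ (n + 1) * b = a * (a ^ n * b) := by rw [pow_succ', mul_assoc]
            _ = a * (w ^ n * (b * a ^ n)) := by rw [ih]
            _ = (a * w ^ n) * (b * a ^ n) := by rw [mul_assoc]
            _ = w ^ n * (a * b) * a ^ n := by rw [h5]; group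
            _ = w ^ n * (w * (b * a)) * a ^ n := by rw [hab]
            _ = w ^ (n + 1) * (b * a ^ (n + 1)) := by
                rw [pow_succ w, pow_succ' a]; group
      exact h1 3
    have hw3 : (v * z) ^ 3 = v := by
      have hc : Commute v z := hzc v
      rw [hc.mul_pow, hz3, mul_one, pow_succ, hv, one_mul]
    rw [hw3] at hcube
    refine ⟨a ^ 3, b, v, hvu, hv, hcube, ?_, rfl⟩
    rw [map_pow]
    exact Subgroup.pow_mem _ (Subgroup.mem_zpowers _) 3
  obtain ⟨a₁, b₁, v₁, hv₁, hs₁, hab₁, ha₁, hb₁⟩ := key x₁ y₁ ho₁ c11 c12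
  obtain ⟨a₂, b₂, v₂, hv₂, hs₂, hab₂, ha₂, hb₂⟩ := key x₂ y₂ ho₂ c23 c24
  -- everything commutes with `v₁` and `v₂`
  have hcomm : ∀ g v : P, v ^ 2 = 1 → Commute (mkP P v) (mkP P g) → g * v = v * g := by
    intro g v hv hc
    have h1 := lift_conj hperf hcop (g := v) (y := g) hv hv (by
      rw [map_mul, map_mul, map_inv, ← hc.eq, mul_inv_cancel_right])
    rwa [mul_inv_eq_iff_eq_mul] at h1
  have hzp : ∀ {u x w : P ⧸ (scalars (Fin 3) F).subgroupOf P}, Commute u x → w ∈ Subgroup.zpowers x →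
      Commute u w := by
    rintro u x _ h ⟨i, rfl⟩
    exact h.zpow_right i
  have e11 : a₁ * v₁ = v₁ * a₁ := hcomm _ _ hs₁ (by rw [hv₁]; exact hzp c11 ha₁)
  have e12 : b₁ * v₁ = v₁ * b₁ := hcomm _ _ hs₁ (by rw [hv₁, hb₁]; exact c12)
  have e13 : a₂ * v₁ = v₁ * a₂ := hcomm _ _ hs₁ (by rw [hv₁]; exact hzp c13 ha₂)
  have e14 : b₂ * v₁ = v₁ * b₂ := hcomm _ _ hs₁ (by rw [hv₁, hb₂]; exact c14)
  have e21 : a₁ * v₂ = v₂ * a₁ := hcomm _ _ hs₂ (by rw [hv₂]; exact hzp c21 ha₁)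
  have e22 : b₁ * v₂ = v₂ * b₁ := hcomm _ _ hs₂ (by rw [hv₂, hb₁]; exact c22)
  have e23 : a₂ * v₂ = v₂ * a₂ := hcomm _ _ hs₂ (by rw [hv₂]; exact hzp c23 ha₂)
  have e24 : b₂ * v₂ = v₂ * b₂ := hcomm _ _ hs₂ (by rw [hv₂, hb₂]; exact c24)
  have e00 : v₁ * v₂ = v₂ * v₁ := by
    -- `v₁` is a product of `a₁, b₁`
    have h1 : v₁ = a₁ * b₁ * (b₁ * a₁)⁻¹ := by rw [hab₁]; group
    have hA : Commute a₁ v₂ := e21
    have hB : Commute b₁ v₂ := e22
    have : Commute v₁ v₂ := by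
      rw [h1]
      exact (hA.mul_left hB).mul_left (hB.mul_left hA).inv_left
    exact this.eq
  let A : Subgroup (GL (Fin 3) F) := Subgroup.closure {(v₁ : GL (Fin 3) F), (v₂ : GL (Fin 3) F)}
  have hAcent : ∀ g : P, g * v₁ = v₁ * g → g * v₂ = v₂ * g → ∀ a ∈ A, (g : GL (Fin 3) F) * a = a * g := by
    intro g h1 h2' a ha
    induction ha using Subgroup.closure_induction with
    | mem x hx =>
      rcases hx with rfl | rfl
      · exact congrArg Subtype.val h1
      · exact congrArg Subtype.val h2'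
    | one => rw [mul_one, one_mul]
    | mul x y _ _ hx hy => rw [← mul_assoc, hx, mul_assoc, hy, mul_assoc]
    | inv x _ hx =>
      have : Commute (g : GL (Fin 3) F) x := hx
      exact this.inv_right.eq
  have hAc : ∀ a ∈ A, ∀ b ∈ A, a * b = b * a := by
    intro a ha b hb
    induction ha using Subgroup.closure_induction with
    | mem x hx =>
      rcases hx with rfl | rfl
      · exact hAcent v₁ rfl e00 b hb
      · exact hAcent v₂ e00.symm rfl b hb
    | one => rw [mul_one, one_mul]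
    | mul x y _ _ hx hy => rw [mul_assoc, hy, ← mul_assoc, hx, mul_assoc]
    | inv x _ hx =>
      have : Commute x b := hx
      exact this.inv_left.eq
  have hAsq : ∀ a ∈ A, a ^ 2 = 1 := by
    intro a ha
    induction ha using Subgroup.closure_induction with
    | mem x hx =>
      rcases hx with rfl | rfl
      · exact congrArg Subtype.val hs₁
      · exact congrArg Subtype.val hs₂
    | one => exact one_pow 2
    | mul x y hx' hy' hx hy =>
      have hc : Commute x y := hAc x hx' y hy'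
      rw [hc.mul_pow, hx, hy, one_mul]
    | inv x _ hx => rw [inv_pow, hx, inv_one]
  have hns : ∀ v : P, orderOf (mkP P v) = 2 →
      ¬ ∃ c : F, ((v : GL (Fin 3) F) : Matrix (Fin 3) (Fin 3) F) = c • 1 := by
    rintro v hv ⟨c, hc⟩
    have h0 : c ≠ 0 := by
      rintro rfl
      have h1 := ((Matrix.isUnit_iff_isUnit_det _).1 (v : GL (Fin 3) F).isUnit).ne_zero
      rw [hc, zero_smul, Matrix.det_zero] at h1
      exact h1 rfl
    have h1 : mkP P v = 1 := mkP_eq_one.2 ((mem_scalars_iff _).2 ⟨Units.mk0 c h0, hc⟩)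
    rw [h1, orderOf_one] at hv
    norm_num at hv
  have heq := eq_of_two_commutators' (A := A) hAc
    (fun a ha => ⟨2, by exact_mod_cast h2, hAsq a ha⟩) (x := (a₁ : GL (Fin 3) F)) (y := b₁) (v := v₁)
    (x' := a₂) (y' := b₂) (v' := v₂)
    (Subgroup.subset_closure (Or.inl rfl)) (congrArg Subtype.val hab₁) (hAcent a₁ e11 e21)
    (hAcent b₁ e12 e22) (Subgroup.subset_closure (Or.inr rfl)) (congrArg Subtype.val hab₂)
    (hAcent a₂ e13 e23) (hAcent b₂ e14 e24) (hns v₁ (by rw [hv₁, ho₁])) (hns v₂ (by rw [hv₂, ho₂]))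
  apply hne
  rw [← hv₁, ← hv₂]
  congr 1
  exact Subtype.ext heq

/-- **socle_odd.** -/
theorem socle_odd [Finite F] (hperf : ⁅P, P⁆ = P)
    (hsimp : IsSimpleGroup (P ⧸ (scalars (Fin 3) F).subgroupOf P))
    (hnab : ¬ IsMulCommutative (P ⧸ (scalars (Fin 3) F).subgroupOf P)) (h2 : (2 : F) ≠ 0) :
    (∃ (K : Type) (_ : Field K) (_ : Fintype K), Odd (Fintype.card K) ∧ 5 ≤ Fintype.card K ∧
      Nonempty ((P ⧸ (scalars (Fin 3) F).subgroupOf P) ≃* Matrix.ProjectiveSpecialLinearGroup (Fin 2) K)) ∨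
    (∃ (K : Type) (_ : Field K) (_ : Fintype K), Odd (Fintype.card K) ∧
      Nonempty ((P ⧸ (scalars (Fin 3) F).subgroupOf P) ≃* Matrix.ProjectiveSpecialLinearGroup (Fin 3) K)) ∨
    (∃ (K : Type) (_ : Field K) (_ : Fintype K) (m : ℕ), Fintype.card K = m ^ 2 ∧ Odd m ∧
      Nonempty ((P ⧸ (scalars (Fin 3) F).subgroupOf P) ≃* Cfsg.PSU 3 K m)) ∨
    ((5 : F) = 0 ∧ Nonempty ((P ⧸ (scalars (Fin 3) F).subgroupOf P) ≃* alternatingGroup (Fin 7))) := by
  have hfinG : Finite (GL (Fin 3) F) := inferInstance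
  have hfin : Finite (P ⧸ (scalars (Fin 3) F).subgroupOf P) := inferInstance
  have h5 : ∀ {x y : P ⧸ (scalars (Fin 3) F).subgroupOf P}, orderOf x = 5 → y * x * y⁻¹ = x ^ 2 →
      (5 : F) = 0 := by
    intro x y hx hxy
    by_contra h5
    rcases lemmaR hperf (r := 5) (by norm_num) (by norm_num) (by exact_mod_cast h5) hx hxy with h | h <;>
      norm_num at h
  have h11 : ∀ {x y : P ⧸ (scalars (Fin 3) F).subgroupOf P}, orderOf x = 11 → y * x * y⁻¹ = x ^ 3 →
      (11 : F) = 0 := by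
    intro x y hx hxy
    by_contra h5
    rcases lemmaR hperf (r := 11) (by norm_num) (by norm_num) (by exact_mod_cast h5) hx hxy with h | h <;>
      norm_num at h
  rcases Cfsg.Agent.S0482.result hnab (pRankLE hperf h2) with h | h | h | ⟨K, _, _, hK, ⟨e⟩⟩ | ⟨⟨e⟩⟩ | h
  · exact Or.inl h
  · exact Or.inr (Or.inl h)
  · exact Or.inr (Or.inr (Or.inl h))
  · exact (not_U34 hperf h2 hK e).elim
  · refine Or.inr (Or.inr (Or.inr ⟨?_, ⟨e⟩⟩))
    obtain ⟨x, y, hx, hxy⟩ := Cfsg.Agent.H890.XSpor.of_injective e.symm.toMonoidHom e.symm.injective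
      (Cfsg.Agent.H890.XSpor.exists_five_alt (le_refl 7))
    exact h5 hx hxy
  · exfalso
    obtain ⟨x, y, hx, hxy⟩ := Cfsg.Agent.H890.XSpor.exists_five_M11 h
    obtain ⟨x', y', hx', hxy'⟩ := Cfsg.Agent.H890.XSpor.exists_eleven_M11 h
    have e5 := h5 hx hxy
    have e11 := h11 hx' hxy'
    have : (1 : F) = 0 := by
      have h1 : (1 : F) = 11 - 5 - 5 := by norm_num
      rw [h1, e5, e11]; ring
    exact one_ne_zero this

end Cfsg.Agent.H890.Y1
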