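import Mathlib

/-!
In characteristic 2 and dimension at least 4 the group `PSL_n(F)` contains an element of order 5
conjugate to its square (fact X1).
-/

set_option autoImplicit false

namespace Cfsg.Agent.H890.XSL

open Matrix

/-- Multiplication by an element of order 5 in the field of 16 elements. -/
def mX : Matrix (Fin 4) (Fin 4) (ZMod 2) := !![0, 0, 0, 1; 1, 0, 0, 1; 0, 1, 0, 1; 0, 0, 1, 1]

/-- The Frobenius automorphism of the field of 16 elements. -/
def mY : Matrix (Fin 4) (Fin 4) (ZMod 2) := !![1, 0, 1, 0; 0, 0, 1, 1; 0, 1, 1, 0; 0, 0, 1, 0]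

theorem mX_pow : mX ^ 5 = 1 := by decide

theorem mX_ne : mX ≠ 1 := by decide

theorem mYX : mY * mX = mX ^ 2 * mY := by decide

theorem det_mX : mX.det = 1 := by decide

theorem det_mY : mY.det = 1 := by decide

/-- `mX` as an element of `SL_4(2)`. -/
def sX : SpecialLinearGroup (Fin 4) (ZMod 2) := ⟨mX, det_mX⟩

/-- `mY` as an element of `SL_4(2)`. -/
def sY : SpecialLinearGroup (Fin 4) (ZMod 2) := ⟨mY, det_mY⟩

theorem sX_pow : sX ^ 5 = 1 :=
  Subtype.ext ((Matrix.SpecialLinearGroup.coe_pow sX 5).trans mX_pow)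

theorem sX_ne : sX ≠ 1 := fun h => mX_ne (congrArg Subtype.val h)

theorem sYX : sY * sX * sY⁻¹ = sX ^ 2 := by
  rw [mul_inv_eq_iff_eq_mul]
  apply Subtype.ext
  refine (Matrix.SpecialLinearGroup.coe_mul sY sX).trans (mYX.trans ?_)
  refine (((Matrix.SpecialLinearGroup.coe_mul (sX ^ 2) sY)).trans ?_).symm
  rw [Matrix.SpecialLinearGroup.coe_pow]
  rfl

/-- The block embedding. -/
def blk (F : Type*) [CommRing F] {n : ℕ} (hn : 4 ≤ n) :
    SpecialLinearGroup (Fin 4) F →* SpecialLinearGroup (Fin n) F where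
  toFun g := ⟨Matrix.reindex (finSumFinEquiv.trans (finCongr (show 4 + (n - 4) = n by omega)))
    (finSumFinEquiv.trans (finCongr (show 4 + (n - 4) = n by omega)))
    (fromBlocks (g : Matrix (Fin 4) (Fin 4) F) 0 0 (1 : Matrix (Fin (n - 4)) (Fin (n - 4)) F)), by
      rw [Matrix.det_reindex_self, Matrix.det_fromBlocks_zero₂₁, g.2, det_one, one_mul]⟩
  map_one' := by
    apply Subtype.ext
    show Matrix.reindex _ _ (fromBlocks 1 0 0 1) = 1
    rw [Matrix.fromBlocks_one, Matrix.reindex_apply, Matrix.submatrix_one_equiv]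
  map_mul' g h := by
    apply Subtype.ext
    show Matrix.reindex _ _ (fromBlocks ((g : Matrix (Fin 4) (Fin 4) F) * (h : Matrix (Fin 4) (Fin 4) F)) 0 0 1) =
      Matrix.reindex _ _ (fromBlocks (g : Matrix (Fin 4) (Fin 4) F) 0 0 1) *
        Matrix.reindex _ _ (fromBlocks (h : Matrix (Fin 4) (Fin 4) F) 0 0 1)
    rw [Matrix.reindex_apply, Matrix.reindex_apply, Matrix.reindex_apply,
      Matrix.submatrix_mul_equiv, Matrix.fromBlocks_multiply]
    simp only [Matrix.zero_mul, Matrix.mul_zero, add_zero, zero_add, Matrix.mul_one]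

theorem blk_injective (F : Type*) [CommRing F] {n : ℕ} (hn : 4 ≤ n) :
    Function.Injective (blk F hn) := by
  intro g h hgh
  have h1 := congrArg Subtype.val hgh
  have h2 := (Matrix.reindex _ _).injective h1
  exact Subtype.ext (Matrix.fromBlocks_inj.1 h2).1

variable {F : Type*} [Field F]

theorem exists_SL (hF : ringChar F = 2) {n : ℕ} (hn : 4 ≤ n) :
    ∃ x y : SpecialLinearGroup (Fin n) F, x ≠ 1 ∧ x ^ 5 = 1 ∧ y * x * y⁻¹ = x ^ 2 := by
  have : CharP F 2 := hF ▸ ringChar.charP F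
  let _ : Algebra (ZMod 2) F := ZMod.algebra F 2
  let f : SpecialLinearGroup (Fin 4) (ZMod 2) →* SpecialLinearGroup (Fin n) F :=
    (blk F hn).comp (SpecialLinearGroup.map (algebraMap (ZMod 2) F))
  have hf : Function.Injective f := by
    refine (blk_injective F hn).comp ?_
    intro g h hgh
    apply Subtype.ext
    have h1 := congrArg Subtype.val hgh
    ext i j
    have h2 := congrFun (congrFun h1 i) j
    exact (algebraMap (ZMod 2) F).injective h2
  refine ⟨f sX, f sY, ?_, ?_, ?_⟩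
  · intro h
    exact sX_ne (hf (h.trans (map_one f).symm))
  · rw [← map_pow, sX_pow, map_one]
  · rw [← map_inv, ← map_mul, ← map_mul, sYX, map_pow]

/-- **Fact X1.** -/
theorem exists_PSL (hF : ringChar F = 2) {n : ℕ} (hn : 4 ≤ n) :
    ∃ x y : ProjectiveSpecialLinearGroup (Fin n) F, orderOf x = 5 ∧ y * x * y⁻¹ = x ^ 2 := by
  obtain ⟨x, y, hx, hx5, hxy⟩ := exists_SL (F := F) hF hn
  let q : SpecialLinearGroup (Fin n) F →* ProjectiveSpecialLinearGroup (Fin n) F :=
    QuotientGroup.mk' (Subgroup.center (SpecialLinearGroup (Fin n) F))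
  have hq : q y * q x * (q y)⁻¹ = q x ^ 2 := by
    rw [← map_inv, ← map_mul, ← map_mul, hxy, map_pow]
  refine ⟨q x, q y, ?_, hq⟩
  have : Fact (Nat.Prime 5) := ⟨by norm_num⟩
  refine orderOf_eq_prime ?_ ?_
  · rw [← map_pow, hx5, map_one]
  · intro h
    have hc : x ∈ Subgroup.center (SpecialLinearGroup (Fin n) F) :=
      (QuotientGroup.eq_one_iff x).1 h
    have h1 : y * x * y⁻¹ = x := by
      rw [Subgroup.mem_center_iff.1 hc y, mul_inv_cancel_right]
    rw [h1, pow_two] at hxy
    exact hx (mul_eq_left.1 hxy.symm)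

end Cfsg.Agent.H890.XSL
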