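import Cfsg.Agent.LieClassical.OrthCore

/-!
S5712 (helper890): parity of the dimension of the fixed space of an isometry of a nondegenerate quadratic
form (Dickson invariant) on the group `E Q` generated by the Siegel transformations, in all cases
(including `O_4^+(2)`), coordinate free.
-/

set_option autoImplicit false

namespace Cfsg.Agent.H890.SpParity

open QuadraticMap Cfsg.Agent.LieClassical.OrthCore Module

variable {F V : Type*} [Field F] [AddCommGroup V] [Module F V]

/-- the fixed space -/
def fix (g : V ≃ₗ[F] V) : Submodule F V := LinearMap.ker (g.toLinearMap - LinearMap.id)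

theorem mem_fix {g : V ≃ₗ[F] V} {v : V} : v ∈ fix g ↔ g v = v := by
  rw [fix, LinearMap.mem_ker, LinearMap.sub_apply, LinearMap.id_apply, sub_eq_zero]
  rfl

/-- Separation by a nondegenerate form. -/
theorem exists_sep [FiniteDimensional F V] (B : LinearMap.BilinForm F V)
    (hB : ∀ x, (∀ y, B y x = 0) → x = 0) (W : Submodule F V) {y : V} (hy : y ∉ W) :
    ∃ w, (∀ s ∈ W, B s w = 0) ∧ B y w = 1 := by
  obtain ⟨f, hf, hfW⟩ := Submodule.exists_le_ker_of_notMem hy
  have hinj : Function.Injective (LinearMap.flip B) := by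
    rw [← LinearMap.ker_eq_bot, LinearMap.ker_eq_bot']
    intro x hx
    apply hB
    intro y
    have := LinearMap.congr_fun hx y
    simpa using this
  have hsurj : Function.Surjective (LinearMap.flip B) := by
    have h1 : finrank F V = finrank F (V →ₗ[F] F) := (Subspace.dual_finrank_eq (K := F) (V := V)).symm
    exact (LinearMap.injective_iff_surjective_of_finrank_eq_finrank h1).1 hinj
  obtain ⟨w, hw⟩ := hsurj f
  have hw' : ∀ s, B s w = f s := fun s => by
    rw [← hw]; rfl
  refine ⟨(f y)⁻¹ • w, fun s hs => ?_, ?_⟩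
  · rw [map_smul, hw', (LinearMap.mem_ker.1 (hfW hs)), smul_zero]
  · rw [map_smul, hw', smul_eq_mul, inv_mul_cancel₀ hf]

variable {Q : QuadraticForm F V}

/-- Reflection in a vector of the residual space: one more fixed dimension. -/
theorem finrank_fix_refl_of_res [FiniteDimensional F V] {g : V ≃ₗ[F] V} (hg : g ∈ O Q) {v y : V}
    (hv : Q v ≠ 0) (hy : g y - y = v) :
    finrank F (fix (refl Q v hv * g)) = finrank F (fix g) + 1 := by
  have hgy : g y = y + v := by rw [← hy]; abel
  have hyv : polar Q v y = - Q v := by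
    have h1 := mem_O.1 hg y
    rw [hgy, Q_add, polar_comm Q y v] at h1
    linear_combination h1
  have hperp : ∀ x, g x = x → polar Q v x = 0 := by
    intro x hx
    rw [← hy, polar_sub_left]
    nth_rewrite 1 [← hx]
    rw [polar_map hg, sub_self]
  have hynot : y ∉ fix g := by
    rw [mem_fix]
    intro h
    rw [h, sub_self] at hy
    rw [← hy, QuadraticMap.map_zero] at hv
    exact hv rfl
  have heq : fix (refl Q v hv * g) = fix g ⊔ Submodule.span F {y} := by
    apply le_antisymm
    · intro x hx
      rw [mem_fix] at hx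
      have h1 : refl Q v hv (g x) = x := hx
      have h2 : g x = refl Q v hv x := by
        have h3 : refl Q v hv (refl Q v hv (g x)) = refl Q v hv x := by rw [h1]
        have h4 : (refl Q v hv * refl Q v hv) (g x) = g x := by rw [refl_mul_self]; rfl
        rw [← h3]
        exact h4.symm
      rw [refl_apply] at h2
      set c := (Q v)⁻¹ * polar Q v x with hc
      have h5 : x + c • y ∈ fix g := by
        rw [mem_fix, map_add, map_smul, h2, hgy]
        module
      have h6 : x = (x + c • y) + (-c) • y := by module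
      rw [h6]
      exact Submodule.add_mem_sup h5 (Submodule.smul_mem _ _ (Submodule.mem_span_singleton_self y))
    · rw [sup_le_iff, Submodule.span_singleton_le_iff_mem]
      constructor
      · intro x hx
        rw [mem_fix] at hx ⊢
        show refl Q v hv (g x) = x
        rw [hx, refl_apply, hperp x hx, mul_zero, zero_smul, sub_zero]
      · rw [mem_fix]
        show refl Q v hv (g y) = y
        have h1 : (Q v)⁻¹ * polar Q v (y + v) = 1 := by
          rw [polar_add_right, hyv, polar_self']
          field_simp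
          ring
        rw [hgy, refl_apply, h1]
        module
  have hdisj : Disjoint (fix g) (Submodule.span F {y}) := by
    rw [Submodule.disjoint_span_singleton']
    · exact hynot
    · rintro rfl
      exact hynot (Submodule.zero_mem _)
  have hy0 : y ≠ 0 := by
    rintro rfl
    exact hynot (Submodule.zero_mem _)
  have h1 := Submodule.finrank_sup_add_finrank_inf_eq (fix g) (Submodule.span F {y})
  rw [hdisj.eq_bot, finrank_bot, finrank_span_singleton hy0] at h1
  rw [heq]
  omega

theorem finrank_fix_refl [FiniteDimensional F V] (hQ : Nondeg Q) {g : V ≃ₗ[F] V} (hg : g ∈ O Q)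
    {v : V} (hv : Q v ≠ 0) :
    finrank F (fix (refl Q v hv * g)) = finrank F (fix g) + 1 ∨
      finrank F (fix g) = finrank F (fix (refl Q v hv * g)) + 1 := by
  by_cases h : v ∈ LinearMap.range (g.toLinearMap - LinearMap.id)
  · obtain ⟨y, hy⟩ := h
    exact Or.inl (finrank_fix_refl_of_res hg hv hy)
  · right
    obtain ⟨w, hw1, hw2⟩ := exists_sep (polarBilin Q) (fun x hx => hQ x (fun y => by
      rw [polar_comm]; exact hx y)) _ h
    have hw2' : polar Q v w = 1 := hw2
    have hgw : g w = w := by
      have h1 : ∀ y, polar Q (g w - w) y = 0 := by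
        intro y
        obtain ⟨y, rfl⟩ := g.surjective y
        have h2 := hw1 (g y - y) ⟨y, rfl⟩
        rw [polarBilin_apply_apply, polar_sub_left] at h2
        rw [polar_sub_left, polar_map hg, polar_comm Q w (g y), polar_comm Q w y]
        linear_combination -h2
      exact sub_eq_zero.1 (hQ _ h1)
    have hrg : refl Q v hv * g ∈ O Q := (O Q).mul_mem (refl_mem_O hv) hg
    have h3 : (refl Q v hv * g) ((-(Q v)) • w) - (-(Q v)) • w = v := by
      show refl Q v hv (g ((-(Q v)) • w)) - (-(Q v)) • w = v
      rw [map_smul, hgw, refl_apply, polar_smul_right, hw2']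
      have h4 : (Q v)⁻¹ * ((-(Q v)) • (1 : F)) = -1 := by
        rw [smul_eq_mul]; field_simp
      rw [h4]
      module
    have h5 := finrank_fix_refl_of_res hrg hv h3
    have h6 : refl Q v hv * (refl Q v hv * g) = g := by
      rw [← mul_assoc, refl_mul_self, one_mul]
    rwa [h6] at h5

/-- The subgroup generated by the products of two reflections. -/
def R2 (Q : QuadraticForm F V) : Subgroup (V ≃ₗ[F] V) :=
  Subgroup.closure {g | ∃ (v w : V) (hv : Q v ≠ 0) (hw : Q w ≠ 0), g = refl Q v hv * refl Q w hw}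

theorem R2_le_O : R2 Q ≤ O Q := by
  rw [R2, Subgroup.closure_le]
  rintro _ ⟨v, w, hv, hw, rfl⟩
  exact (O Q).mul_mem (refl_mem_O hv) (refl_mem_O hw)

/-- Elements of `R2 Q` do not change the parity. -/
theorem parity_R2 [FiniteDimensional F V] (hQ : Nondeg Q) {g : V ≃ₗ[F] V} (hg : g ∈ R2 Q) :
    ∀ h ∈ O Q, Even (finrank F (fix (g * h)) + finrank F (fix h)) := by
  induction hg using Subgroup.closure_induction with
  | mem x hx =>
    obtain ⟨v, w, hv, hw, rfl⟩ := hx
    intro h hh
    have h1 := finrank_fix_refl hQ hh hw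
    have h2 := finrank_fix_refl hQ ((O Q).mul_mem (refl_mem_O hw) hh) hv
    rw [mul_assoc]
    rw [Nat.even_iff]
    omega
  | one =>
    intro h _
    rw [one_mul]
    exact ⟨_, rfl⟩
  | mul x y hx hy ihx ihy =>
    intro h hh
    have h1 := ihy h hh
    have h2 := ihx (y * h) ((O Q).mul_mem (R2_le_O hy) hh)
    rw [mul_assoc]
    rw [Nat.even_iff] at *
    omega
  | inv x hx ih =>
    intro h hh
    have h1 := ih (x⁻¹ * h) ((O Q).mul_mem ((O Q).inv_mem (R2_le_O hx)) hh)
    rw [← mul_assoc, mul_inv_cancel, one_mul] at h1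
    rw [Nat.even_iff] at *
    omega

/-- A Siegel transformation with nonsingular second vector is a product of two reflections. -/
theorem siegel_eq_refl {u w : V} (hu : Q u = 0) (hw : polar Q u w = 0) (hQw : Q w ≠ 0)
    (hQw' : Q (w + Q w • u) ≠ 0) :
    siegel Q u w hu hw = refl Q w hQw * refl Q (w + Q w • u) hQw' := by
  have hwu : polar Q w u = 0 := by rw [polar_comm]; exact hw
  have e : Q (w + Q w • u) = Q w := by
    rw [Q_add, QuadraticMap.map_smul, hu, polar_smul_right, hwu, smul_zero, smul_zero, add_zero,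
      add_zero]
  ext x
  show _ = refl Q w hQw (refl Q (w + Q w • u) hQw' x)
  rw [siegel_apply, refl_apply, refl_apply, e, polar_add_left, polar_smul_left, polar_sub_right,
    polar_smul_right, polar_add_right, polar_smul_right, hwu, polar_self' (Q := Q) w]
  simp only [smul_eq_mul]
  match_scalars
  · ring
  · field_simp
    ring
  · field_simp
    ring

theorem siegel_mem_R2 {u w : V} (hu : Q u = 0) (hw : polar Q u w = 0) (hQw : Q w ≠ 0) :
    siegel Q u w hu hw ∈ R2 Q := by
  have hwu : polar Q w u = 0 := by rw [polar_comm]; exact hw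
  have e : Q (w + Q w • u) = Q w := by
    rw [Q_add, QuadraticMap.map_smul, hu, polar_smul_right, hwu, smul_zero, smul_zero, add_zero,
      add_zero]
  rw [siegel_eq_refl hu hw hQw (by rwa [e])]
  exact Subgroup.subset_closure ⟨_, _, _, _, rfl⟩

/-! ### Adding a hyperbolic plane -/

/-- `Q ⊥ H` -/
def plusH (Q : QuadraticForm F V) : QuadraticForm F (V × F × F) :=
  Q.comp (LinearMap.fst F V (F × F)) +
    linMulLin ((LinearMap.fst F F F).comp (LinearMap.snd F V (F × F)))
      ((LinearMap.snd F F F).comp (LinearMap.snd F V (F × F)))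

theorem plusH_apply (p : V × F × F) : plusH Q p = Q p.1 + p.2.1 * p.2.2 := rfl

theorem polar_plusH (p p' : V × F × F) :
    polar (plusH Q) p p' = polar Q p.1 p'.1 + (p.2.1 * p'.2.2 + p'.2.1 * p.2.2) := by
  simp only [polar, plusH_apply, Prod.fst_add, Prod.snd_add]
  ring

theorem nondeg_plusH (hQ : Nondeg Q) : Nondeg (plusH Q) := by
  rintro ⟨v, x, y⟩ h
  have h1 : v = 0 := hQ v (fun y => by
    have := h (y, 0, 0)
    rw [polar_plusH] at this
    simpa using this)
  have h2 : x = 0 := by
    have := h (0, 0, 1)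
    rw [polar_plusH] at this
    simpa using this
  have h3 : y = 0 := by
    have := h (0, 1, 0)
    rw [polar_plusH] at this
    simpa using this
  rw [h1, h2, h3]
  rfl

/-- `g ⊕ 1` -/
def ext1 (g : V ≃ₗ[F] V) : (V × F × F) ≃ₗ[F] (V × F × F) :=
  LinearEquiv.prodCongr g (LinearEquiv.refl F (F × F))

theorem ext1_apply (g : V ≃ₗ[F] V) (p : V × F × F) : ext1 g p = (g p.1, p.2) := rfl

theorem ext1_mul (g h : V ≃ₗ[F] V) : ext1 (g * h) = ext1 g * ext1 h := rfl

theorem ext1_one : ext1 (1 : V ≃ₗ[F] V) = 1 := rfl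

theorem ext1_inv (g : V ≃ₗ[F] V) : ext1 g⁻¹ = (ext1 g)⁻¹ := rfl

theorem finrank_fix_ext1 [FiniteDimensional F V] (g : V ≃ₗ[F] V) :
    finrank F (fix (ext1 g)) = finrank F (fix g) + 2 := by
  let e : fix (ext1 g) ≃ₗ[F] (fix g) × (F × F) :=
    { toFun := fun p => (⟨p.1.1, mem_fix.2 (congrArg Prod.fst (mem_fix.1 p.2))⟩, p.1.2)
      map_add' := fun p q => rfl
      map_smul' := fun c p => rfl
      invFun := fun q => ⟨(q.1.1, q.2), mem_fix.2 (by
        rw [ext1_apply, mem_fix.1 q.1.2])⟩
      left_inv := fun p => rfl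
      right_inv := fun q => rfl }
  rw [LinearEquiv.finrank_eq e, Module.finrank_prod, Module.finrank_prod, Module.finrank_self]

theorem ext1_mem_O {g : V ≃ₗ[F] V} (hg : g ∈ O Q) : ext1 g ∈ O (plusH Q) := by
  intro p
  rw [ext1_apply, plusH_apply, plusH_apply]
  show Q (g p.1) + _ = _
  rw [mem_O.1 hg]

theorem ext1_siegel {u w : V} (hu : Q u = 0) (hw : polar Q u w = 0)
    (hu' : plusH Q (u, 0, 0) = 0) (hw' : polar (plusH Q) (u, 0, 0) (w, 0, 0) = 0) :
    ext1 (siegel Q u w hu hw) = siegel (plusH Q) (u, 0, 0) (w, 0, 0) hu' hw' := by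
  ext p
  · rw [ext1_apply, siegel_apply, siegel_apply, polar_plusH, polar_plusH, plusH_apply]
    simp
  · rw [ext1_apply, siegel_apply (Q := plusH Q), polar_plusH, polar_plusH, plusH_apply]
    simp
  · rw [ext1_apply, siegel_apply (Q := plusH Q), polar_plusH, polar_plusH, plusH_apply]
    simp

/-- The extension by a hyperbolic plane maps `E Q` into `R2 (Q ⊥ H)`. -/
theorem ext1_mem_R2 {g : V ≃ₗ[F] V} (hg : g ∈ E Q) : ext1 g ∈ R2 (plusH Q) := by
  induction hg using Subgroup.closure_induction with
  | mem x hx =>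
    obtain ⟨u, w, hu, hw, rfl⟩ := hx
    have hu' : plusH Q (u, 0, 0) = 0 := by
      rw [plusH_apply]; simpa using hu
    have hw' : polar (plusH Q) (u, 0, 0) (w, 0, 0) = 0 := by
      rw [polar_plusH]; simpa using hw
    rw [ext1_siegel hu hw hu' hw']
    by_cases hQw : Q w = 0
    · have hz : polar (plusH Q) (u, 0, 0) ((0, 1, 1) : V × F × F) = 0 := by
        rw [polar_plusH]; simp
      have hz' : polar (plusH Q) (u, 0, 0) ((0, -1, -1) : V × F × F) = 0 := by
        rw [polar_plusH]; simp
      have hwz : polar (plusH Q) (u, 0, 0) ((w, 1, 1) : V × F × F) = 0 := by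
        rw [polar_plusH]; simpa using hw
      have e : ((w, 1, 1) : V × F × F) + (0, -1, -1) = (w, 0, 0) := by
        simp
      have h1 := siegel_mul (Q := plusH Q) hu' hwz hz' (by rw [e]; exact hw')
      have h2 : siegel (plusH Q) (u, 0, 0) ((w, 1, 1) + (0, -1, -1)) hu' (by rw [e]; exact hw') =
          siegel (plusH Q) (u, 0, 0) (w, 0, 0) hu' hw' := by
        congr 1
      rw [← h2, ← h1]
      refine (R2 _).mul_mem (siegel_mem_R2 _ _ ?_) (siegel_mem_R2 _ _ ?_)
      · rw [plusH_apply]
        show Q w + 1 * 1 ≠ 0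
        rw [hQw]
        simp
      · rw [plusH_apply]
        show Q 0 + (-1) * (-1) ≠ 0
        rw [QuadraticMap.map_zero]
        simp
    · exact siegel_mem_R2 _ _ (by
        rw [plusH_apply]
        show Q w + 0 * 0 ≠ 0
        rwa [mul_zero, add_zero])
  | one => rw [ext1_one]; exact (R2 _).one_mem
  | mul x y _ _ hx hy => rw [ext1_mul]; exact (R2 _).mul_mem hx hy
  | inv x _ hx => rw [ext1_inv]; exact (R2 _).inv_mem hx

/-- **Elements of `E Q` do not change the parity of the dimension of the fixed space.** -/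
theorem parity_E [FiniteDimensional F V] (hQ : Nondeg Q) {g h : V ≃ₗ[F] V} (hg : g ∈ E Q)
    (hh : h ∈ O Q) : Even (finrank F (fix (g * h)) + finrank F (fix h)) := by
  have h1 := parity_R2 (nondeg_plusH hQ) (ext1_mem_R2 hg) (ext1 h) (ext1_mem_O hh)
  rw [← ext1_mul, finrank_fix_ext1, finrank_fix_ext1] at h1
  rw [Nat.even_iff] at *
  omega

theorem fix_one : fix (1 : V ≃ₗ[F] V) = ⊤ := by
  ext v
  rw [mem_fix]
  exact ⟨fun _ => Submodule.mem_top, fun _ => rfl⟩

/-- **Elements of `E Q` have fixed space of dimension congruent to `dim V` modulo two.** -/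
theorem even_E [FiniteDimensional F V] (hQ : Nondeg Q) {g : V ≃ₗ[F] V} (hg : g ∈ E Q) :
    Even (finrank F (fix g) + finrank F V) := by
  have h1 := parity_E hQ hg (O Q).one_mem
  rwa [mul_one, fix_one, finrank_top] at h1

/-- **Elements `r g`, `g ∈ E Q`, `r` a reflection, have the other parity.** -/
theorem odd_refl_E [FiniteDimensional F V] (hQ : Nondeg Q) {g : V ≃ₗ[F] V} (hg : g ∈ E Q)
    {v : V} (hv : Q v ≠ 0) : ¬ Even (finrank F (fix (refl Q v hv * g)) + finrank F V) := by
  have h1 := even_E hQ hg
  have h2 := finrank_fix_refl hQ (E_le_O hg) hv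
  rw [Nat.even_iff] at *
  omega

end Cfsg.Agent.H890.SpParity
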