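import Mathlib

/-!
# Cycle types in `A₇` (helper890)
-/

set_option autoImplicit false

namespace Cfsg.Agent.H890.Y3

open Equiv Equiv.Perm

theorem types (x : Perm (Fin 7)) (hs : sign x = 1) :
    x.cycleType = 0 ∨ x.cycleType = {3} ∨ x.cycleType = {2, 2} ∨ x.cycleType = {3, 3} ∨
    x.cycleType = {4, 2} ∨ x.cycleType = {3, 2, 2} ∨ x.cycleType = {7} ∨ x.cycleType = {5} := by
  have h1 := sign_of_cycleType x
  rw [hs] at h1
  have h2 : ∀ n ∈ x.cycleType, 2 ≤ n := fun n hn => two_le_of_mem_cycleType hn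
  have h3 : x.cycleType.sum ≤ 7 := by
    rw [sum_cycleType]
    simpa using Finset.card_le_univ x.support
  have h4 : Even (x.cycleType.sum + Multiset.card x.cycleType) := by
    rcases Nat.even_or_odd (x.cycleType.sum + Multiset.card x.cycleType) with h | h
    · exact h
    · rw [h.neg_one_pow] at h1
      exact absurd h1 (by decide)
  generalize x.cycleType = m at h2 h3 h4 ⊢
  clear h1 hs
  induction m using Multiset.induction with
  | empty => left; rfl
  | cons a m _ =>
    induction m using Multiset.induction with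
    | empty =>
      have ha := h2 a (by simp)
      simp only [Multiset.sum_cons, Multiset.sum_zero, Multiset.card_cons, Multiset.card_zero] at h3 h4
      have : a ≤ 7 := by omega
      interval_cases a <;> revert h4 <;> decide
    | cons b m _ =>
      induction m using Multiset.induction with
      | empty =>
        have ha := h2 a (by simp)
        have hb := h2 b (by simp)
        simp only [Multiset.sum_cons, Multiset.sum_zero, Multiset.card_cons, Multiset.card_zero] at h3 h4
        have : a ≤ 5 := by omega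
        have : b ≤ 7 - a := by omega
        interval_cases a <;> interval_cases b <;> revert h4 <;> decide
      | cons c m _ =>
        induction m using Multiset.induction with
        | empty =>
          have ha := h2 a (by simp)
          have hb := h2 b (by simp)
          have hc := h2 c (by simp)
          simp only [Multiset.sum_cons, Multiset.sum_zero, Multiset.card_cons, Multiset.card_zero] at h3 h4
          have : a ≤ 3 := by omega
          have : b ≤ 3 := by omega
          have : c ≤ 3 := by omega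
          interval_cases a <;> interval_cases b <;> interval_cases c <;> first | omega | (revert h4; decide)
        | cons d m _ =>
          exfalso
          have ha := h2 a (by simp)
          have hb := h2 b (by simp)
          have hc := h2 c (by simp)
          have hd := h2 d (by simp)
          simp only [Multiset.sum_cons] at h3
          omega

/-- Representatives. -/
def r3 : alternatingGroup (Fin 7) := ⟨c[0, 1, 2], mem_alternatingGroup.2 (by decide)⟩
def r3' : alternatingGroup (Fin 7) := ⟨c[3, 4, 5], mem_alternatingGroup.2 (by decide)⟩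
def r22 : alternatingGroup (Fin 7) := ⟨c[0, 1] * c[2, 3], mem_alternatingGroup.2 (by decide)⟩
def r33 : alternatingGroup (Fin 7) := ⟨c[0, 1, 2] * c[3, 4, 5], mem_alternatingGroup.2 (by decide)⟩
def r42 : alternatingGroup (Fin 7) := ⟨c[0, 1, 2, 3] * c[4, 5], mem_alternatingGroup.2 (by decide)⟩
def r322 : alternatingGroup (Fin 7) := ⟨c[0, 1, 2] * c[3, 4] * c[5, 6], mem_alternatingGroup.2 (by decide)⟩
def r7 : alternatingGroup (Fin 7) := ⟨c[0, 1, 2, 3, 4, 5, 6], mem_alternatingGroup.2 (by decide)⟩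
def r5 : alternatingGroup (Fin 7) := ⟨c[0, 1, 2, 3, 4], mem_alternatingGroup.2 (by decide)⟩

/-- Every element of `A₇` is conjugate in `S₇` to a representative. -/
theorem reps (x : alternatingGroup (Fin 7)) : ∃ σ : Perm (Fin 7), ∃ r : alternatingGroup (Fin 7),
    (r = 1 ∨ r = r3 ∨ r = r22 ∨ r = r33 ∨ r = r42 ∨ r = r322 ∨ r = r7 ∨ r = r5) ∧
    MulAut.conjNormal σ x = r := by
  have key : ∀ r : alternatingGroup (Fin 7), (x : Perm (Fin 7)).cycleType = (r : Perm (Fin 7)).cycleType →
      ∃ σ : Perm (Fin 7), MulAut.conjNormal σ x = r := by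
    intro r h
    obtain ⟨σ, hσ⟩ := isConj_iff.1 (isConj_iff_cycleType_eq.2 h)
    exact ⟨σ, Subtype.ext hσ⟩
  rcases types x.1 x.2 with h | h | h | h | h | h | h | h
  · obtain ⟨σ, hσ⟩ := key 1 (by rw [h]; simp)
    exact ⟨σ, 1, Or.inl rfl, hσ⟩
  · obtain ⟨σ, hσ⟩ := key r3 (by rw [h]; decide +kernel)
    exact ⟨σ, r3, Or.inr (Or.inl rfl), hσ⟩
  · obtain ⟨σ, hσ⟩ := key r22 (by rw [h]; decide +kernel)
    exact ⟨σ, r22, Or.inr (Or.inr (Or.inl rfl)), hσ⟩
  · obtain ⟨σ, hσ⟩ := key r33 (by rw [h]; decide +kernel)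
    exact ⟨σ, r33, Or.inr (Or.inr (Or.inr (Or.inl rfl))), hσ⟩
  · obtain ⟨σ, hσ⟩ := key r42 (by rw [h]; decide +kernel)
    exact ⟨σ, r42, Or.inr (Or.inr (Or.inr (Or.inr (Or.inl rfl)))), hσ⟩
  · obtain ⟨σ, hσ⟩ := key r322 (by rw [h]; decide +kernel)
    exact ⟨σ, r322, Or.inr (Or.inr (Or.inr (Or.inr (Or.inr (Or.inl rfl))))), hσ⟩
  · obtain ⟨σ, hσ⟩ := key r7 (by rw [h]; decide +kernel)
    exact ⟨σ, r7, Or.inr (Or.inr (Or.inr (Or.inr (Or.inr (Or.inr (Or.inl rfl)))))), hσ⟩
  · obtain ⟨σ, hσ⟩ := key r5 (by rw [h]; decide +kernel)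
    exact ⟨σ, r5, Or.inr (Or.inr (Or.inr (Or.inr (Or.inr (Or.inr (Or.inr (rfl))))))), hσ⟩

def g4 : alternatingGroup (Fin 7) := ⟨c[0, 3, 1, 4] * c[2, 5], mem_alternatingGroup.2 (by decide)⟩
def y4 : alternatingGroup (Fin 7) := ⟨c[1, 3] * c[4, 5], mem_alternatingGroup.2 (by decide)⟩
def y7 : alternatingGroup (Fin 7) := ⟨c[1, 2, 4] * c[3, 6, 5], mem_alternatingGroup.2 (by decide)⟩

theorem g4_r3 : g4 * r3 * g4⁻¹ = r3' := by decide +kernel
theorem g4_r3' : g4 * r3' * g4⁻¹ = r3⁻¹ := by decide +kernel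
theorem y4_r42 : y4 * r42 * y4⁻¹ = r42⁻¹ := by decide +kernel
theorem y7_r7 : y7 * r7 * y7⁻¹ = r7 ^ 2 := by decide +kernel
theorem r33_eq : r33 = r3 * r3' := by decide +kernel
theorem r322_sq : r322 ^ 2 = r3⁻¹ := by decide +kernel
theorem r3_comm : r3 * r3' = r3' * r3 := by decide +kernel
theorem r3_pow : r3 ^ 3 = 1 := by decide +kernel
theorem r3'_pow : r3' ^ 3 = 1 := by decide +kernel
theorem r33_pow : r33 ^ 3 = 1 := by decide +kernel
theorem r22_pow : r22 ^ 2 = 1 := by decide +kernel
theorem r42_pow : r42 ^ 4 = 1 := by decide +kernel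
theorem r7_pow : r7 ^ 7 = 1 := by decide +kernel
theorem r5_pow : r5 ^ 5 = 1 := by decide +kernel
theorem r5_ne : r5 ≠ 1 := by decide +kernel
theorem g4_sq : g4 ^ 2 * r3 ≠ r3 * g4 ^ 2 := by decide +kernel
theorem g4_cu : g4 ^ 3 * r3 ≠ r3 * g4 ^ 3 := by decide +kernel

end Cfsg.Agent.H890.Y3
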