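import Cfsg.Agent.H890.B3Irr
import Cfsg.Agent.H890.Y1Odd
import Cfsg.Agent.H906.Proj

/-!
The action of `Ĥ` on the simple quotient of its core (helper890).
-/

set_option autoImplicit false
set_option linter.unusedSectionVars false

namespace Cfsg.Agent.H890.B3

open Cfsg.Geo Cfsg.Agent.H907 Cfsg.Agent.H906 Cfsg.Agent.H890.Y1
open scoped Matrix MatrixGroups

variable {F : Type*} [Field F] {Hh P : Subgroup (GL (Fin 3) F)} {Γ : Type*} [Group Γ]

/-- `h` induces the automorphism `α` on `Γ ≅ P / scalars`. -/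
def Induces (Φ : (P ⧸ (scalars (Fin 3) F).subgroupOf P) ≃* Γ) (h : GL (Fin 3) F) (α : MulAut Γ) : Prop :=
  ∀ a b : P, (b : GL (Fin 3) F) = h * a * h⁻¹ → pr Φ b = α (pr Φ a)

variable {Φ : (P ⧸ (scalars (Fin 3) F).subgroupOf P) ≃* Γ}

theorem exists_induces (Φ : (P ⧸ (scalars (Fin 3) F).subgroupOf P) ≃* Γ) (hC : PreCore Hh P)
    {h : GL (Fin 3) F} (hh : h ∈ Hh) : ∃ α : MulAut Γ, Induces Φ h α := by
  let c : P ≃* P :=
    { toFun := fun a => ⟨h * a * h⁻¹, hC.normal h hh a a.2⟩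
      invFun := fun a => ⟨h⁻¹ * a * h, by
        have := hC.normal h⁻¹ (Hh.inv_mem hh) a a.2
        rwa [inv_inv] at this⟩
      left_inv := fun a => Subtype.ext (by
        show h⁻¹ * (h * a * h⁻¹) * h = _
        group)
      right_inv := fun a => Subtype.ext (by
        show h * (h⁻¹ * a * h) * h⁻¹ = _
        group)
      map_mul' := fun a b => Subtype.ext (by
        show h * (a * b) * h⁻¹ = (h * a * h⁻¹) * (h * b * h⁻¹)
        group) }
  have hc : ∀ a : P, ((c a : P) : GL (Fin 3) F) = h * a * h⁻¹ := fun a => rfl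
  have hmap : ((scalars (Fin 3) F).subgroupOf P).map c.toMonoidHom = (scalars (Fin 3) F).subgroupOf P := by
    have hn : ∀ g x : GL (Fin 3) F, x ∈ scalars (Fin 3) F → g * x * g⁻¹ ∈ scalars (Fin 3) F :=
      fun g x hx => Subgroup.Normal.conj_mem inferInstance x hx g
    ext x
    constructor
    · rintro ⟨a, ha, rfl⟩
      exact hn h a ha
    · intro hx
      refine ⟨c.symm x, ?_, c.apply_symm_apply x⟩
      have h1 := hn h⁻¹ x hx
      rw [inv_inv] at h1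
      exact h1
  let q := QuotientGroup.congr ((scalars (Fin 3) F).subgroupOf P) ((scalars (Fin 3) F).subgroupOf P) c hmap
  refine ⟨(Φ.symm.trans q).trans Φ, fun a b hab => ?_⟩
  have hb : b = c a := Subtype.ext hab
  show Φ (QuotientGroup.mk b) = Φ (q (Φ.symm (Φ (QuotientGroup.mk a))))
  rw [Φ.symm_apply_apply, hb]
  rfl

theorem Induces.br {h : GL (Fin 3) F} {α : MulAut Γ} (hα : Induces Φ h α) (hC : PreCore Hh P) (hh : h ∈ Hh)
    {e f : Γ} {c : Fˣ} (hb : Br Φ e f c) : Br Φ (α e) (α f) c := by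
  obtain ⟨a, ha⟩ := pr_surjective Φ e
  obtain ⟨b, hb'⟩ := pr_surjective Φ f
  refine Br.of_exists ⟨h * a * h⁻¹, hC.normal h hh a a.2⟩ ⟨h * b * h⁻¹, hC.normal h hh b b.2⟩ ?_ ?_ ?_
  · rw [← ha]; exact hα a _ rfl
  · rw [← hb']; exact hα b _ rfl
  · have h1 := hb a b ha hb'
    have e1 : (h * a * h⁻¹ : GL (Fin 3) F) * (h * b * h⁻¹) = h * ((a : GL (Fin 3) F) * b) * h⁻¹ := by group
    have e2 : (h * b * h⁻¹ : GL (Fin 3) F) * (h * a * h⁻¹) = h * ((b : GL (Fin 3) F) * a) * h⁻¹ := by group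
    show (((h * a * h⁻¹ : GL (Fin 3) F) * (h * b * h⁻¹) : GL (Fin 3) F) : Matrix (Fin 3) (Fin 3) F) =
      (c : F) • (((h * b * h⁻¹ : GL (Fin 3) F) * (h * a * h⁻¹) : GL (Fin 3) F) : Matrix (Fin 3) (Fin 3) F)
    rw [e1, e2, Units.val_mul (h * (a * b) : GL (Fin 3) F), Units.val_mul (h : GL (Fin 3) F), h1,
      Matrix.mul_smul, Matrix.smul_mul, ← Units.val_mul, ← Units.val_mul]

theorem Induces.mul {h k : GL (Fin 3) F} {α β : MulAut Γ} (hα : Induces Φ h α) (hβ : Induces Φ k β)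
    (hC : PreCore Hh P) (hk : k ∈ Hh) : Induces Φ (h * k) (α * β) := by
  intro a b hab
  have h1 := hβ a ⟨k * a * k⁻¹, hC.normal k hk a a.2⟩ rfl
  have h2 := hα ⟨k * a * k⁻¹, hC.normal k hk a a.2⟩ b (by rw [hab]; show _ = h * (k * a * k⁻¹) * h⁻¹; group)
  rw [h2, h1]
  rfl

theorem induces_conj (k : P) : Induces Φ (k : GL (Fin 3) F) (MulAut.conj (pr Φ k)) := by
  intro a b hab
  have hb : b = k * a * k⁻¹ := Subtype.ext hab
  rw [hb, map_mul, map_mul, map_inv]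
  rfl

theorem Induces.mem_scalars {h : GL (Fin 3) F} (hα : Induces Φ h 1) (hC : PreCore Hh P) (hh : h ∈ Hh) :
    h ∈ scalars (Fin 3) F := by
  apply hC.centralizer_scalar h hh
  intro x hx
  have h1 := hα ⟨x, hx⟩ ⟨h * x * h⁻¹, hC.normal h hh x hx⟩ rfl
  have h2 : pr Φ (⟨h * x * h⁻¹, hC.normal h hh x hx⟩ * ⟨x, hx⟩⁻¹ : P) = 1 := by
    rw [map_mul, map_inv, h1]
    exact mul_inv_cancel _
  exact (pr_eq_one Φ).1 h2

theorem Induces.unique {h : GL (Fin 3) F} {α β : MulAut Γ} (hα : Induces Φ h α) (hβ : Induces Φ h β)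
    (hC : PreCore Hh P) (hh : h ∈ Hh) : α = β := by
  apply MulEquiv.ext
  intro x
  obtain ⟨a, rfl⟩ := pr_surjective Φ x
  rw [← hα a ⟨h * a * h⁻¹, hC.normal h hh a a.2⟩ rfl, ← hβ a ⟨h * a * h⁻¹, hC.normal h hh a a.2⟩ rfl]

/-- Elements inducing inner automorphisms lie in `P` modulo scalars. -/
theorem Induces.of_inner {h : GL (Fin 3) F} {g : Γ} (hα : Induces Φ h (MulAut.conj g)) (hC : PreCore Hh P)
    (hh : h ∈ Hh) : ∃ k : P, pr Φ k = g ∧ (k : GL (Fin 3) F)⁻¹ * h ∈ scalars (Fin 3) F := by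
  obtain ⟨k, rfl⟩ := pr_surjective Φ g
  refine ⟨k, rfl, ?_⟩
  have h1 : Induces Φ (((k⁻¹ : P) : GL (Fin 3) F) * h) (MulAut.conj (pr Φ k⁻¹) * MulAut.conj (pr Φ k)) :=
    (induces_conj k⁻¹).mul hα hC hh
  rw [← map_mul, ← map_mul, inv_mul_cancel, map_one, map_one] at h1
  exact h1.mem_scalars hC (Hh.mul_mem (hC.le (k⁻¹).2) hh)

/-! ### The subgroup of `H` -/

variable {H : Type*} [Group H] {π : Hh →* H}

/-- The image of the core. -/
def coreSub (π : Hh →* H) (hC : PreCore Hh P) : Subgroup H := (π.comp (Subgroup.inclusion hC.le)).range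

theorem mem_coreSub (hπ : Pres Hh π) (hC : PreCore Hh P) (h : Hh) :
    π h ∈ coreSub π hC ↔ ∃ k ∈ P, k⁻¹ * (h : GL (Fin 3) F) ∈ scalars (Fin 3) F := by
  constructor
  · rintro ⟨k, hk⟩
    refine ⟨k, k.2, ?_⟩
    have h1 : π ((Subgroup.inclusion hC.le k)⁻¹ * h) = 1 := by
      rw [map_mul, map_inv, ← hk]
      exact inv_mul_cancel _
    exact (hπ.ker _).1 h1
  · rintro ⟨k, hk, h1⟩
    refine ⟨⟨k, hk⟩, ?_⟩
    have h2 : π ((Subgroup.inclusion hC.le ⟨k, hk⟩)⁻¹ * h) = 1 := (hπ.ker _).2 h1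
    rw [map_mul, map_inv] at h2
    exact (inv_mul_eq_one.1 h2)

theorem coreSub_equiv (hπ : Pres Hh π) (hC : PreCore Hh P) :
    Nonempty (coreSub π hC ≃* (P ⧸ (scalars (Fin 3) F).subgroupOf P)) := by
  have hker : (π.comp (Subgroup.inclusion hC.le)).ker = (scalars (Fin 3) F).subgroupOf P := by
    ext k
    exact hπ.ker (Subgroup.inclusion hC.le k)
  exact ⟨((QuotientGroup.quotientMulEquivOfEq hker).symm.trans
    (QuotientGroup.quotientKerEquivRange _)).symm⟩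

theorem equiv_of_coreSub_top (hπ : Pres Hh π) (hC : PreCore Hh P) (Φ : (P ⧸ (scalars (Fin 3) F).subgroupOf P) ≃* Γ)
    (h : ∀ h ∈ Hh, ∃ k ∈ P, k⁻¹ * h ∈ scalars (Fin 3) F) : Nonempty (H ≃* Γ) := by
  have htop : coreSub π hC = ⊤ := by
    rw [eq_top_iff]
    intro x _
    obtain ⟨y, rfl⟩ := hπ.surj x
    exact (mem_coreSub hπ hC y).2 (h y y.2)
  obtain ⟨e⟩ := coreSub_equiv hπ hC
  exact ⟨Subgroup.topEquiv.symm.trans ((MulEquiv.subgroupCongr htop.symm).trans (e.trans Φ))⟩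

theorem equiv_of_inner (hπ : Pres Hh π) (hC : PreCore Hh P) (Φ : (P ⧸ (scalars (Fin 3) F).subgroupOf P) ≃* Γ)
    (h : ∀ h ∈ Hh, ∀ α, Induces Φ h α → ∃ g, α = MulAut.conj g) : Nonempty (H ≃* Γ) := by
  refine equiv_of_coreSub_top hπ hC Φ fun g hg => ?_
  obtain ⟨α, hα⟩ := exists_induces Φ hC hg
  obtain ⟨x, rfl⟩ := h g hg α hα
  obtain ⟨k, -, h2⟩ := hα.of_inner hC hg
  exact ⟨k, k.2, h2⟩

/-- **Lemma R** for the automorphisms induced by `Ĥ`. -/
theorem lemmaR' (hC : PreCore Hh P) {r : ℕ} (hr : r.Prime) (hr3 : r ≠ 3) (hrF : (r : F) ≠ 0)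
    {x : Γ} (hx : orderOf x = r) {k : ℕ} {h : GL (Fin 3) F} (hh : h ∈ Hh) {α : MulAut Γ}
    (hα : Induces Φ h α) (hk : α x = x ^ k) : k ^ 2 % r = 1 ∨ k ^ 3 % r = 1 := by
  have hperf := hC.perfect
  have hcop : Nat.Coprime 3 r := (Nat.coprime_primes Nat.prime_three hr).2 (Ne.symm hr3)
  have hxr : x ^ r = 1 := by rw [← hx]; exact pow_orderOf_eq_one x
  obtain ⟨g, hg, hgx⟩ := exists_lift_coprime (P := P) hperf hcop (u := Φ.symm x)
    (by rw [← map_pow, hxr, map_one])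
  have hgx' : pr Φ g = x := by
    show Φ (mkP P g) = x
    rw [hgx, Φ.apply_symm_apply]
  -- the conjugate
  let g' : P := ⟨h * g * h⁻¹, hC.normal h hh g g.2⟩
  have hg' : g' ^ r = 1 := by
    apply Subtype.ext
    show (h * (g : GL (Fin 3) F) * h⁻¹) ^ r = 1
    rw [conj_pow]
    have : (g : GL (Fin 3) F) ^ r = 1 := congrArg Subtype.val hg
    rw [this, mul_one, mul_inv_cancel]
  have hconj : g' = g ^ k := by
    refine lift_unique hperf hcop hg' ?_ ?_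
    · rw [← pow_mul, mul_comm, pow_mul, hg, one_pow]
    · apply Φ.injective
      show pr Φ g' = pr Φ (g ^ k)
      rw [hα g g' rfl, map_pow, hgx', hk]
  have hg1 : g ≠ 1 := by
    rintro rfl
    rw [map_one] at hgx'
    rw [← hgx', orderOf_one] at hx
    exact hr.one_lt.ne hx
  have : Fact r.Prime := ⟨hr⟩
  have hord : orderOf g = r := orderOf_eq_prime hg hg1
  have hcg : h * g * h⁻¹ = (g : GL (Fin 3) F) ^ k := congrArg Subtype.val hconj
  have hpow : ∀ n : ℕ, h ^ n * g * (h ^ n)⁻¹ = (g : GL (Fin 3) F) ^ k ^ n := by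
    intro n
    induction n with
    | zero => simp
    | succ n ih =>
      rw [pow_succ', mul_inv_rev]
      calc h * h ^ n * g * ((h ^ n)⁻¹ * h⁻¹) = h * (h ^ n * g * (h ^ n)⁻¹) * h⁻¹ := by group
        _ = h * (g : GL (Fin 3) F) ^ k ^ n * h⁻¹ := by rw [ih]
        _ = (h * g * h⁻¹) ^ k ^ n := (conj_pow).symm
        _ = (g : GL (Fin 3) F) ^ k ^ (n + 1) := by rw [hcg, ← pow_mul, ← pow_succ']
  have hfin : ∀ n : ℕ, h ^ n * g = g * h ^ n → k ^ n % r = 1 := by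
    intro n hn
    have h1 := hpow n
    rw [hn, mul_inv_cancel_right] at h1
    have h3 : g ^ 1 = g ^ k ^ n := by
      apply Subtype.ext
      rw [pow_one]; exact h1
    rw [pow_eq_pow_iff_modEq, hord] at h3
    have h4 : 1 % r = 1 := Nat.mod_eq_of_lt hr.one_lt
    have h5 : 1 % r = k ^ n % r := h3
    rw [← h5, h4]
  -- the abelian group generated by `g`
  let A : Subgroup (GL (Fin 3) F) := Subgroup.zpowers (g : GL (Fin 3) F)
  have hAc : ∀ a ∈ A, ∀ b ∈ A, a * b = b * a := by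
    rintro _ ⟨i, rfl⟩ _ ⟨j, rfl⟩
    exact (Commute.zpow_zpow_self (g : GL (Fin 3) F) i j).eq
  have hgr : (g : GL (Fin 3) F) ^ r = 1 := congrArg Subtype.val hg
  have hAs : ∀ a ∈ A, ∃ n : ℕ, (n : F) ≠ 0 ∧ a ^ n = 1 := by
    rintro _ ⟨i, rfl⟩
    refine ⟨r, hrF, ?_⟩
    rw [← zpow_natCast, ← zpow_mul, mul_comm, zpow_mul, zpow_natCast, hgr, one_zpow]
  have hmem : ∀ a ∈ A, h * a * h⁻¹ ∈ A := by
    rintro _ ⟨i, rfl⟩
    show _ * _ ^ i * _ ∈ A
    rw [← conj_zpow, hcg]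
    exact Subgroup.zpow_mem _ (Subgroup.pow_mem _ (Subgroup.mem_zpowers _) _) _
  have hmem' : ∀ a ∈ A, h⁻¹ * a * h ∈ A := by
    have hmap : A.map (MulAut.conj h).toMonoidHom = A := by
      have : Finite A := by
        have : IsOfFinOrder (g : GL (Fin 3) F) := isOfFinOrder_iff_pow_eq_one.2 ⟨r, hr.pos, hgr⟩
        exact this.finite_zpowers
      apply Subgroup.eq_of_le_of_card_ge
      · rintro _ ⟨a, ha, rfl⟩
        exact hmem a ha
      · have h1 : Nat.card (A.map (MulAut.conj h).toMonoidHom) = Nat.card A :=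
          Nat.card_image_of_injective (MulAut.conj h).injective _
        rw [h1]
    intro a ha
    rw [← hmap] at ha
    obtain ⟨b, hb, rfl⟩ := ha
    show h⁻¹ * (h * b * h⁻¹) * h ∈ A
    have : h⁻¹ * (h * b * h⁻¹) * h = b := by group
    rw [this]
    exact hb
  rcases sq_or_cube hAc hAs hmem hmem' with h1 | h1
  · exact Or.inl (hfin 2 (h1 _ (Subgroup.mem_zpowers _)))
  · exact Or.inr (hfin 3 (h1 _ (Subgroup.mem_zpowers _)))

end Cfsg.Agent.H890.B3
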