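import Mathlib

/-!
Finite groups without non-trivial normal elementary abelian subgroups: every normal abelian and every
normal solvable subgroup is trivial.
-/

set_option autoImplicit false

namespace Cfsg.Agent.H890.B3

variable {H : Type*} [Group H]

/-- No non-trivial normal subgroup is elementary abelian. -/
def NEA (H : Type*) [Group H] : Prop :=
  ∀ N : Subgroup H, N.Normal → IsMulCommutative ↥N → (∃ r : ℕ, r.Prime ∧ ∀ x ∈ N, x ^ r = 1) → N = ⊥

theorem NEA.abelian [Finite H] (h : NEA H) (A : Subgroup H) (hn : A.Normal)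
    (hc : ∀ a ∈ A, ∀ b ∈ A, a * b = b * a) : A = ⊥ := by
  by_contra hA
  have hcard : Nat.card A ≠ 1 := by rwa [Ne, Subgroup.card_eq_one]
  obtain ⟨r, hr, hdvd⟩ := Nat.exists_prime_and_dvd hcard
  have : Fact r.Prime := ⟨hr⟩
  obtain ⟨x, hx⟩ := exists_prime_orderOf_dvd_card' (G := A) r hdvd
  let N : Subgroup H :=
    { carrier := {a | a ∈ A ∧ a ^ r = 1}
      one_mem' := ⟨A.one_mem, one_pow _⟩
      mul_mem' := by
        rintro a b ⟨ha, ha'⟩ ⟨hb, hb'⟩
        refine ⟨A.mul_mem ha hb, ?_⟩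
        rw [Commute.mul_pow (hc a ha b hb), ha', hb', one_mul]
      inv_mem' := by
        rintro a ⟨ha, ha'⟩
        exact ⟨A.inv_mem ha, by rw [inv_pow, ha', inv_one]⟩ }
  have hN : N = ⊥ := by
    refine h N ⟨?_⟩ ⟨⟨?_⟩⟩ ⟨r, hr, fun x hx => hx.2⟩
    · rintro a ⟨ha, ha'⟩ g
      exact ⟨hn.conj_mem a ha g, by rw [conj_pow, ha', mul_one, mul_inv_cancel]⟩
    · rintro ⟨a, ha⟩ ⟨b, hb⟩
      exact Subtype.ext (hc a ha.1 b hb.1)
  have hxN : (x : H) ∈ N := ⟨x.2, by
    have := pow_orderOf_eq_one x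
    rw [hx] at this
    exact congrArg Subtype.val this⟩
  rw [hN, Subgroup.mem_bot] at hxN
  have hx1 : x = 1 := Subtype.ext hxN
  rw [hx1, orderOf_one] at hx
  exact hr.one_lt.ne hx

theorem NEA.solvable [Finite H] (h : NEA H) (N : Subgroup H) (hn : N.Normal)
    (hs : Group.IsSolvable N) : N = ⊥ := by
  by_contra hN
  have hnt : Nontrivial N := (Subgroup.nontrivial_iff_ne_bot N).2 hN
  -- the last term of the derived series
  obtain ⟨n, hn0⟩ := hs.solvable
  have hex : ∃ k, derivedSeries N k = ⊥ := ⟨n, hn0⟩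
  classical
  let k := Nat.find hex
  have hk : derivedSeries N k = ⊥ := Nat.find_spec hex
  have hk0 : k ≠ 0 := by
    intro h0
    rw [h0, derivedSeries_zero] at hk
    exact top_ne_bot hk
  obtain ⟨m, hm⟩ := Nat.exists_eq_succ_of_ne_zero hk0
  have hm1 : derivedSeries N m ≠ ⊥ := Nat.find_min hex (by omega)
  set A : Subgroup H := (derivedSeries N m).map N.subtype with hA
  have hchar : (derivedSeries N m).Characteristic := inferInstance
  have hAn : A.Normal := ConjAct.normal_of_characteristic_of_normal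
  have hbot : A = ⊥ := by
    refine h.abelian A hAn ?_
    rintro _ ⟨a, ha, rfl⟩ _ ⟨b, hb, rfl⟩
    have h1 : a * b * a⁻¹ * b⁻¹ ∈ derivedSeries N (m + 1) := by
      rw [derivedSeries_succ]
      exact Subgroup.commutator_mem_commutator ha hb
    rw [show m + 1 = k from hm.symm, hk, Subgroup.mem_bot] at h1
    have h2 : a * b = b * a := by
      rw [mul_inv_eq_one, mul_inv_eq_iff_eq_mul] at h1
      exact h1
    rw [← map_mul, ← map_mul, h2]
  rw [hA, Subgroup.map_eq_bot_iff_of_injective _ N.subtype_injective] at hbot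
  exact hm1 hbot

theorem NEA.of_equiv {K : Type*} [Group K] (e : H ≃* K) (h : NEA H) : NEA K := by
  intro N hN hc hr
  have h1 : N.comap e.toMonoidHom = ⊥ := by
    refine h _ inferInstance ⟨⟨?_⟩⟩ ?_
    · rintro ⟨a, ha⟩ ⟨b, hb⟩
      apply Subtype.ext
      apply e.injective
      show e (a * b) = e (b * a)
      rw [map_mul, map_mul]
      exact congrArg Subtype.val (hc.1.1 (⟨e a, ha⟩ : N) ⟨e b, hb⟩)
    · obtain ⟨r, hr, hx⟩ := hr
      refine ⟨r, hr, fun x hx' => e.injective ?_⟩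
      rw [map_pow, map_one]
      exact hx _ hx'
  rw [eq_bot_iff]
  intro x hx
  have h2 : e.symm x ∈ N.comap e.toMonoidHom := by
    show e (e.symm x) ∈ N
    rwa [e.apply_symm_apply]
  rw [h1, Subgroup.mem_bot] at h2
  rw [Subgroup.mem_bot, ← e.apply_symm_apply x, h2, map_one]

end Cfsg.Agent.H890.B3
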