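import Cfsg.Agent.H948.PSLMax
import Cfsg.Agent.S0805
import Cfsg.Agent.S0253
import Cfsg.Agent.H890.B3Sol

/-!
Dickson's theorem for `PGL_2(F)`, `|F|` odd: the subgroups without non-trivial normal elementary
abelian subgroups.
-/

set_option autoImplicit false

namespace Cfsg.Agent.H890.B3

open Cfsg.Agent.ClassicalGeometry.PSL2Basic Cfsg.Agent.ClassicalGeometry.PSL2Solvable

/-- The conclusion of Dickson's theorem for the groups without normal elementary abelian
subgroups, as in the fifth and the sixth alternative of Bloom's list. -/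
def DickConcl (H : Type*) [Group H] (p α : ℕ) : Prop :=
  (∃ (K : Type) (_ : Field K) (_ : Fintype K) (β : ℕ), Fintype.card K = p ^ β ∧ β ∣ α ∧
    p ^ β ≠ 3 ∧ (Nonempty (H ≃* Matrix.ProjectiveSpecialLinearGroup (Fin 2) K) ∨
      Nonempty (H ≃* (GL (Fin 2) K ⧸ Subgroup.center (GL (Fin 2) K))))) ∨
  ((p ^ α % 10 = 1 ∨ p ^ α % 10 = 9) ∧ ∃ (K : Type) (_ : Field K) (_ : Fintype K),
    Fintype.card K = 5 ∧ Nonempty (H ≃* Matrix.ProjectiveSpecialLinearGroup (Fin 2) K))

theorem dickson {F : Type*} [Field F] [Fintype F] {p α : ℕ} [Fact p.Prime] (hp : p ≠ 2)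
    (hα : 1 ≤ α) (hF : Fintype.card F = p ^ α) {H : Type*} [Group H] [Nontrivial H]
    (hN : NEA H) (f : H →* Matrix.ProjGenLinGroup (Fin 2) F) (hf : Function.Injective f) :
    DickConcl H p α := by
  classical
  have hpp : p.Prime := Fact.out
  have hpodd : Odd p := hpp.odd_of_ne_two hp
  have hFodd : Odd (Fintype.card F) := by rw [hF]; exact hpodd.pow
  have hfinP : Finite (Matrix.ProjGenLinGroup (Fin 2) F) := by
    apply Nat.finite_of_card_ne_zero
    exact (Cfsg.Agent.H948.PSLMax.card_pgl_pos F).ne'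
  have hfin : Finite H := Finite.of_injective f hf
  have hns : ¬ Group.IsSolvable H := by
    intro hs
    have : Group.IsSolvable (⊤ : Subgroup H) :=
      Group.isSolvable_of_isSolvable_injective (f := (⊤ : Subgroup H).subtype)
        (Subgroup.subtype_injective _)
    exact top_ne_bot (hN.solvable ⊤ inferInstance this)
  have hdvd : Nat.card H ∣ Nat.card (Matrix.ProjGenLinGroup (Fin 2) F) :=
    Subgroup.card_dvd_of_injective f hf
  have h72 : ¬ Nat.card H ∣ 72 := fun h =>
    hns (Cfsg.Agent.LieClassical.Order72.isSolvable_of_card_dvd h)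
  -- a field of order `q ^ 2`
  let E : Type := GaloisField p (2 * α)
  let _ : Fintype E := Fintype.ofFinite E
  have hE : Fintype.card E = p ^ (2 * α) := by
    rw [← Nat.card_eq_fintype_card]
    exact GaloisField.card p (2 * α) (by omega)
  have hEodd : Odd (Fintype.card E) := by rw [hE]; exact hpodd.pow
  have : CharP E p := inferInstanceAs (CharP (GaloisField p (2 * α)) p)
  obtain ⟨M, ⟨eM⟩⟩ := Cfsg.Agent.S0805.exists_pgl_of_even (K := F) (F := E) (m := 1) hEodd (by
    rw [hF, hE, ← pow_mul]; congr 1; ring)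
  let g : H →* Matrix.ProjectiveSpecialLinearGroup (Fin 2) E :=
    M.subtype.comp (eM.symm.toMonoidHom.comp f)
  have hg : Function.Injective g := M.subtype_injective.comp (eM.symm.injective.comp hf)
  let e : H ≃* g.range := MonoidHom.ofInjective hg
  have hKodd : ∀ (K : Type) (_ : Field K) (_ : Fintype K) (m : ℕ),
      Fintype.card K ^ m = Fintype.card E → ∃ β, Fintype.card K = p ^ β := by
    intro K _ _ m hm
    have h1 : Fintype.card K ∣ p ^ (2 * α) := by
      rw [← hE, ← hm]
      apply dvd_pow_self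
      rintro rfl
      rw [pow_zero, hE] at hm
      exact (Nat.one_lt_pow (by omega) hpp.one_lt).ne hm
    obtain ⟨β, -, hβ⟩ := (Nat.dvd_prime_pow hpp).1 h1
    exact ⟨β, hβ⟩
  rcases Cfsg.Agent.S0799.result (F := E) rfl p g.range with
    ⟨k, -, h | ⟨⟨e'⟩⟩⟩ | ⟨P, K, hK, ⟨e'⟩⟩ | ⟨⟨e'⟩⟩ | ⟨⟨e'⟩⟩ | ⟨⟨e'⟩⟩ | ⟨K, iK, iKf, m, hm, h⟩
  · exfalso
    apply hns
    have hc : IsCyclic g.range := h.1
    refine Group.isSolvable_of_comm fun x y => e.injective ?_
    rw [map_mul, map_mul]
    exact hc.isMulCommutative.is_comm.comm _ _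
  · exfalso
    apply hns
    have hsol := isSolvable_dihedral k
    exact Group.isSolvable_of_isSolvable_injective (f := e'.toMonoidHom.comp e.toMonoidHom)
      (e'.injective.comp e.injective)
  · exfalso
    apply hns
    have hsol := isSolvable_of_le_normalizer p P K hK
    exact Group.isSolvable_of_isSolvable_injective (f := e'.toMonoidHom.comp e.toMonoidHom)
      (e'.injective.comp e.injective)
  · exfalso
    apply h72
    rw [Nat.card_congr (e.trans e').toEquiv, Nat.card_eq_fintype_card,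
      show Fintype.card (alternatingGroup (Fin 4)) = 12 by decide +kernel]
    norm_num
  · exfalso
    apply h72
    rw [Nat.card_congr (e.trans e').toEquiv, Nat.card_eq_fintype_card,
      show Fintype.card (Equiv.Perm (Fin 4)) = 24 by decide +kernel]
    norm_num
  · -- `A_5`
    have hK5 : Fintype.card (ZMod 5) = 5 := ZMod.card 5
    have : Fact (Nat.Prime 5) := ⟨by norm_num⟩
    obtain ⟨e5⟩ := Cfsg.Agent.S0253.result (F := ZMod 5) hK5
    have hiso : Nonempty (H ≃* Matrix.ProjectiveSpecialLinearGroup (Fin 2) (ZMod 5)) :=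
      ⟨(e.trans e').trans e5.symm⟩
    by_cases h5 : p = 5
    · left
      subst h5
      exact ⟨ZMod 5, inferInstance, inferInstance, 1, by rw [hK5]; norm_num, one_dvd _, by norm_num,
        Or.inl hiso⟩
    · right
      refine ⟨?_, ZMod 5, inferInstance, inferInstance, hK5, hiso⟩
      have h60 : Nat.card H = 60 := by
        rw [Nat.card_congr (e.trans e').toEquiv, nat_card_alternatingGroup]
        simp [Nat.factorial]
      rw [h60, card_PGL2, hF] at hdvd
      have h5d : 5 ∣ p ^ α * ((p ^ α) ^ 2 - 1) := (by norm_num : 5 ∣ 60).trans hdvd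
      have h5p : Nat.Prime 5 := by norm_num
      have h5n : ¬ 5 ∣ p ^ α := fun h => h5 (((Nat.prime_dvd_prime_iff_eq h5p hpp).1
        (h5p.dvd_of_dvd_pow h)).symm)
      have h5q : 5 ∣ (p ^ α) ^ 2 - 1 := (h5p.dvd_mul.1 h5d).resolve_left h5n
      have hodd : p ^ α % 2 = 1 := Nat.odd_iff.1 (hpodd.pow)
      set q := p ^ α with hq
      have hq1 : 1 ≤ q := Nat.one_le_pow _ _ hpp.pos
      have h1 : q ^ 2 % 5 = 1 := by
        have h2 : 1 ≤ q ^ 2 := Nat.one_le_pow _ _ hq1
        omega
      have h2 : q % 5 = 1 ∨ q % 5 = 4 := by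
        have h3 : q % 5 = 0 ∨ q % 5 = 1 ∨ q % 5 = 2 ∨ q % 5 = 3 ∨ q % 5 = 4 := by omega
        rw [Nat.pow_mod] at h1
        rcases h3 with h | h | h | h | h <;> rw [h] at h1 <;> simp_all
      omega
  · left
    obtain ⟨β, hβ⟩ := hKodd K iK iKf m hm
    have hcardle : Nat.card (Matrix.ProjectiveSpecialLinearGroup (Fin 2) K) ∣ Nat.card H := by
      rcases h with ⟨⟨e'⟩⟩ | ⟨⟨e'⟩⟩
      · rw [Nat.card_congr (e.trans e').toEquiv]
      · rw [Nat.card_congr (e.trans e').toEquiv]
        exact Cfsg.Agent.H948.PSLMax.card_psl_dvd_pgl K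
    have hcardge : Nat.card H ∣ Nat.card (Matrix.ProjGenLinGroup (Fin 2) K) := by
      rcases h with ⟨⟨e'⟩⟩ | ⟨⟨e'⟩⟩
      · rw [Nat.card_congr (e.trans e').toEquiv]
        exact Cfsg.Agent.H948.PSLMax.card_psl_dvd_pgl K
      · rw [Nat.card_congr (e.trans e').toEquiv]
    refine ⟨K, iK, iKf, β, hβ, Cfsg.Agent.H948.PSLMax.dvd_of_card_psl_dvd hpp hβ hF
      (hcardle.trans hdvd), ?_, ?_⟩
    · intro h3
      apply h72
      refine hcardge.trans ?_
      rw [card_PGL2, hβ, h3]
      norm_num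
    · rcases h with ⟨⟨e'⟩⟩ | ⟨⟨e'⟩⟩
      · exact Or.inl ⟨e.trans e'⟩
      · exact Or.inr ⟨e.trans e'⟩

end Cfsg.Agent.H890.B3
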