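import Cfsg.Prelude.Def_GeometricClasses
import Cfsg.Agent.H890.B3Dick

/-!
The reducible case: a group `H = Ĥ / scalars`, `Ĥ ≤ GL_3(F)` reducible, without non-trivial normal
elementary abelian subgroups, embeds in `PGL_2(F)`.
-/

set_option autoImplicit false

namespace Cfsg.Agent.H890.B3

open Cfsg.Geo
open scoped Matrix MatrixGroups

variable {F : Type*} [Field F]

/-- `π` presents `H` as `Ĥ` modulo scalars. -/
structure Pres {n : ℕ} (Hh : Subgroup (GL (Fin n) F)) {H : Type*} [Group H] (π : Hh →* H) :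
    Prop where
  surj : Function.Surjective π
  ker : ∀ g : Hh, π g = 1 ↔ (g : GL (Fin n) F) ∈ scalars (Fin n) F

section

variable {n : ℕ} {Hh : Subgroup (GL (Fin n) F)} {H : Type*} [Group H] {π : Hh →* H}

/-- A normal subgroup which is commutative modulo scalars consists of scalars. -/
theorem Pres.abel [Finite H] (hπ : Pres Hh π) (hN : NEA H) (A : Subgroup Hh) (hn : A.Normal)
    (hc : ∀ a ∈ A, ∀ b ∈ A, π (a * b) = π (b * a)) : ∀ a ∈ A, (a : GL (Fin n) F) ∈ scalars (Fin n) F := by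
  have h1 : (A.map π).Normal := hn.map π hπ.surj
  have h2 : A.map π = ⊥ := by
    refine hN.abelian _ h1 ?_
    rintro _ ⟨a, ha, rfl⟩ _ ⟨b, hb, rfl⟩
    rw [← map_mul, ← map_mul, hc a ha b hb]
  intro a ha
  rw [← hπ.ker a]
  have h3 : π a ∈ A.map π := Subgroup.mem_map_of_mem π ha
  rwa [h2, Subgroup.mem_bot] at h3

/-- A homomorphism with the same kernel gives an embedding. -/
theorem Pres.embed (hπ : Pres Hh π) {P : Type*} [Group P] (Φ : Hh →* P)
    (hΦ : ∀ g, Φ g = 1 ↔ (g : GL (Fin n) F) ∈ scalars (Fin n) F) :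
    ∃ f : H →* P, Function.Injective f ∧ ∀ g, f (π g) = Φ g := by
  have hle : π.ker ≤ Φ.ker := fun g hg => (hΦ g).2 ((hπ.ker g).1 hg)
  let f := π.liftOfSurjective hπ.surj ⟨Φ, hle⟩
  have hf : ∀ g, f (π g) = Φ g := fun g =>
    MonoidHom.liftOfRightInverse_comp_apply π _ (Function.rightInverse_surjInv hπ.surj) ⟨Φ, hle⟩ g
  refine ⟨f, ?_, hf⟩
  rw [injective_iff_map_eq_one]
  intro h hh
  obtain ⟨g, rfl⟩ := hπ.surj h
  rw [hf] at hh
  exact (hπ.ker g).2 ((hΦ g).1 hh)

end

variable {Hh : Subgroup (GL (Fin 3) F)} {H : Type*} [Group H] {π : Hh →* H}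

/-- The reducible case for a plane. -/
theorem exists_embed_plane [Finite H] (hπ : Pres Hh π) (hN : NEA H)
    (W : Submodule F (Fin 3 → F)) (hW2 : Module.finrank F W = 2)
    (hW : ∀ g ∈ Hh, ∀ w ∈ W, (g : Matrix (Fin 3) (Fin 3) F) *ᵥ w ∈ W) :
    ∃ f : H →* Matrix.ProjGenLinGroup (Fin 2) F, Function.Injective f := by
  classical
  -- the quotient is one-dimensional
  have hq : Module.finrank F ((Fin 3 → F) ⧸ W) = 1 := by
    have := W.finrank_quotient_add_finrank
    rw [Module.finrank_fin_fun, hW2] at this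
    omega
  obtain ⟨e', -, he'⟩ := finrank_eq_one_iff'.1 hq
  obtain ⟨e, rfl⟩ := W.mkQ_surjective e'
  have he : ∀ v : Fin 3 → F, ∃ c : F, v - c • e ∈ W := by
    intro v
    obtain ⟨c, hc⟩ := he' (W.mkQ v)
    refine ⟨c, ?_⟩
    rw [← Submodule.Quotient.mk_eq_zero, Submodule.Quotient.mk_sub, sub_eq_zero,
      Submodule.Quotient.mk_smul]
    exact hc.symm
  -- every element acts as a scalar on the quotient
  have hd : ∀ g ∈ Hh, ∃ d : F, ∀ v, (g : Matrix (Fin 3) (Fin 3) F) *ᵥ v - d • v ∈ W := by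
    intro g hg
    obtain ⟨d, hd⟩ := he ((g : Matrix (Fin 3) (Fin 3) F) *ᵥ e)
    refine ⟨d, fun v => ?_⟩
    obtain ⟨c, hc⟩ := he v
    have h1 : (g : Matrix (Fin 3) (Fin 3) F) *ᵥ v - d • v =
        (g : Matrix (Fin 3) (Fin 3) F) *ᵥ (v - c • e) - d • (v - c • e) +
          c • ((g : Matrix (Fin 3) (Fin 3) F) *ᵥ e - d • e) := by
      rw [Matrix.mulVec_sub, Matrix.mulVec_smul, smul_sub, smul_sub, smul_smul, smul_smul,
        mul_comm c d]
      abel
    rw [h1]
    exact W.add_mem (W.sub_mem (hW g hg _ hc) (W.smul_mem _ hc)) (W.smul_mem _ hd)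
  have hcomm : ∀ g ∈ Hh, ∀ h ∈ Hh, ∀ v,
      ((g * h : GL (Fin 3) F) : Matrix (Fin 3) (Fin 3) F) *ᵥ v -
        ((h * g : GL (Fin 3) F) : Matrix (Fin 3) (Fin 3) F) *ᵥ v ∈ W := by
    intro g hg h hh v
    obtain ⟨d, hdg⟩ := hd g hg
    obtain ⟨d', hdh⟩ := hd h hh
    rw [Units.val_mul, Units.val_mul, ← Matrix.mulVec_mulVec, ← Matrix.mulVec_mulVec]
    have h1 := hdg ((h : Matrix (Fin 3) (Fin 3) F) *ᵥ v)
    have h2 := hdh ((g : Matrix (Fin 3) (Fin 3) F) *ᵥ v)
    have h3 := W.smul_mem d (hdh v)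
    have h4 := W.smul_mem d' (hdg v)
    rw [smul_sub] at h3 h4
    have : (g : Matrix (Fin 3) (Fin 3) F) *ᵥ (h : Matrix (Fin 3) (Fin 3) F) *ᵥ v -
        (h : Matrix (Fin 3) (Fin 3) F) *ᵥ (g : Matrix (Fin 3) (Fin 3) F) *ᵥ v =
        ((g : Matrix (Fin 3) (Fin 3) F) *ᵥ (h : Matrix (Fin 3) (Fin 3) F) *ᵥ v -
          d • (h : Matrix (Fin 3) (Fin 3) F) *ᵥ v) -
        ((h : Matrix (Fin 3) (Fin 3) F) *ᵥ (g : Matrix (Fin 3) (Fin 3) F) *ᵥ v -
          d' • (g : Matrix (Fin 3) (Fin 3) F) *ᵥ v) +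
        ((d • (h : Matrix (Fin 3) (Fin 3) F) *ᵥ v - d • d' • v) -
        (d' • (g : Matrix (Fin 3) (Fin 3) F) *ᵥ v - d' • d • v)) := by
      rw [smul_smul, smul_smul, mul_comm d d']
      abel
    rw [this]
    exact W.add_mem (W.sub_mem h1 h2) (W.sub_mem h3 h4)
  -- the unipotent part
  let U : Subgroup Hh :=
    { carrier := {u | (∀ w ∈ W, ((u : GL (Fin 3) F) : Matrix (Fin 3) (Fin 3) F) *ᵥ w = w) ∧
        ∀ v, ((u : GL (Fin 3) F) : Matrix (Fin 3) (Fin 3) F) *ᵥ v - v ∈ W}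
      one_mem' := by
        refine ⟨fun w _ => ?_, fun v => ?_⟩
        · rw [Subgroup.coe_one, Units.val_one, Matrix.one_mulVec]
        · rw [Subgroup.coe_one, Units.val_one, Matrix.one_mulVec, sub_self]
          exact W.zero_mem
      mul_mem' := by
        rintro a b ⟨ha, ha'⟩ ⟨hb, hb'⟩
        refine ⟨fun w hw => ?_, fun v => ?_⟩
        · rw [Subgroup.coe_mul, Units.val_mul, ← Matrix.mulVec_mulVec, hb w hw, ha w hw]
        · rw [Subgroup.coe_mul, Units.val_mul, ← Matrix.mulVec_mulVec]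
          have := W.add_mem (ha' (((b : GL (Fin 3) F) : Matrix (Fin 3) (Fin 3) F) *ᵥ v)) (hb' v)
          rwa [sub_add_sub_cancel] at this
      inv_mem' := by
        rintro a ⟨ha, ha'⟩
        have hinv : ∀ v, ((a⁻¹ : Hh) : GL (Fin 3) F).1 *ᵥ
            (((a : GL (Fin 3) F) : Matrix (Fin 3) (Fin 3) F) *ᵥ v) = v := by
          intro v
          rw [Matrix.mulVec_mulVec, Subgroup.coe_inv, ← Units.val_mul, inv_mul_cancel,
            Units.val_one, Matrix.one_mulVec]
        refine ⟨fun w hw => ?_, fun v => ?_⟩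
        · conv_lhs => rw [← ha w hw]
          exact hinv w
        · have h1 := hW _ (a⁻¹ : Hh).2 _ (ha' v)
          rw [Matrix.mulVec_sub] at h1
          have h2 := hinv v
          rw [h2] at h1
          have := W.neg_mem h1
          rwa [neg_sub] at this }
  have hUn : U.Normal := by
    refine ⟨fun u hu h => ⟨fun w hw => ?_, fun v => ?_⟩⟩
    · rw [Subgroup.coe_mul, Subgroup.coe_mul, Units.val_mul, Units.val_mul,
        ← Matrix.mulVec_mulVec, ← Matrix.mulVec_mulVec, hu.1 _ (hW _ (h⁻¹ : Hh).2 w hw),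
        Matrix.mulVec_mulVec, ← Units.val_mul, Subgroup.coe_inv, mul_inv_cancel, Units.val_one,
        Matrix.one_mulVec]
    · have h1 := hW _ h.2 _ (hu.2 (((h⁻¹ : Hh) : GL (Fin 3) F).1 *ᵥ v))
      rw [Matrix.mulVec_sub] at h1
      have h2 : ((h : GL (Fin 3) F) : Matrix (Fin 3) (Fin 3) F) *ᵥ
          (((h⁻¹ : Hh) : GL (Fin 3) F).1 *ᵥ v) = v := by
        rw [Matrix.mulVec_mulVec, Subgroup.coe_inv, ← Units.val_mul, mul_inv_cancel,
            Units.val_one, Matrix.one_mulVec]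
      rw [h2] at h1
      rw [Subgroup.coe_mul, Subgroup.coe_mul, Units.val_mul, Units.val_mul,
        ← Matrix.mulVec_mulVec, ← Matrix.mulVec_mulVec]
      exact h1
  have hUsc : ∀ u ∈ U, ((u : Hh) : GL (Fin 3) F) ∈ scalars (Fin 3) F := by
    refine hπ.abel hN U hUn ?_
    intro a ha b hb
    congr 1
    apply Subtype.ext
    apply Units.ext
    apply Matrix.ext_of_mulVec_single
    intro i
    set v : Fin 3 → F := Pi.single i 1
    have h1 := ha.1 _ (hb.2 v)
    have h2 := hb.1 _ (ha.2 v)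
    rw [Matrix.mulVec_sub] at h1 h2
    rw [Subgroup.coe_mul, Subgroup.coe_mul, Units.val_mul, Units.val_mul,
        ← Matrix.mulVec_mulVec, ← Matrix.mulVec_mulVec]
    rw [sub_eq_iff_eq_add] at h1 h2
    rw [h1, h2]
    abel
  -- the elements acting as scalars on `W`
  let K : Subgroup Hh :=
    { carrier := {u | ∃ c : F, ∀ w ∈ W, ((u : GL (Fin 3) F) : Matrix (Fin 3) (Fin 3) F) *ᵥ w = c • w}
      one_mem' := by
        refine ⟨1, fun w _ => ?_⟩
        rw [Subgroup.coe_one, Units.val_one, Matrix.one_mulVec, one_smul]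
      mul_mem' := by
        rintro a b ⟨c, hc⟩ ⟨d, hd⟩
        refine ⟨c * d, fun w hw => ?_⟩
        rw [Subgroup.coe_mul, Units.val_mul, ← Matrix.mulVec_mulVec, hd w hw, Matrix.mulVec_smul,
          hc w hw, smul_smul, mul_comm]
      inv_mem' := by
        rintro a ⟨c, hc⟩
        have hinv : ∀ v, ((a⁻¹ : Hh) : GL (Fin 3) F).1 *ᵥ
            (((a : GL (Fin 3) F) : Matrix (Fin 3) (Fin 3) F) *ᵥ v) = v := by
          intro v
          rw [Matrix.mulVec_mulVec, Subgroup.coe_inv, ← Units.val_mul, inv_mul_cancel,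
            Units.val_one, Matrix.one_mulVec]
        refine ⟨c⁻¹, fun w hw => ?_⟩
        by_cases hw0 : w = 0
        · rw [hw0, Matrix.mulVec_zero, smul_zero]
        have hc0 : c ≠ 0 := by
          rintro rfl
          have h1 := hinv w
          rw [hc w hw, zero_smul, Matrix.mulVec_zero] at h1
          exact hw0 h1.symm
        have h1 := hinv w
        rw [hc w hw, Matrix.mulVec_smul] at h1
        rw [← h1, smul_smul, inv_mul_cancel₀ hc0, one_smul, h1] }
  have hKn : K.Normal := by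
    refine ⟨fun u hu h => ?_⟩
    obtain ⟨c, hc⟩ := hu
    refine ⟨c, fun w hw => ?_⟩
    rw [Subgroup.coe_mul, Subgroup.coe_mul, Units.val_mul, Units.val_mul,
        ← Matrix.mulVec_mulVec, ← Matrix.mulVec_mulVec, hc _ (hW _ (h⁻¹ : Hh).2 w hw),
        Matrix.mulVec_smul, Matrix.mulVec_mulVec, ← Units.val_mul, Subgroup.coe_inv, mul_inv_cancel,
        Units.val_one, Matrix.one_mulVec]
  have hKsc : ∀ u ∈ K, ((u : Hh) : GL (Fin 3) F) ∈ scalars (Fin 3) F := by
    refine hπ.abel hN K hKn ?_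
    intro a ha b hb
    have h1 : a * b * (b * a)⁻¹ ∈ U := by
      have hinv : ∀ v, (((b * a)⁻¹ : Hh) : GL (Fin 3) F).1 *ᵥ
          (((b * a : Hh) : GL (Fin 3) F).1 *ᵥ v) = v := by
        intro v
        rw [Matrix.mulVec_mulVec, Subgroup.coe_inv, ← Units.val_mul, inv_mul_cancel,
          Units.val_one, Matrix.one_mulVec]
      have hinv' : ∀ v, ((b * a : Hh) : GL (Fin 3) F).1 *ᵥ
          ((((b * a)⁻¹ : Hh) : GL (Fin 3) F).1 *ᵥ v) = v := by
        intro v
        rw [Matrix.mulVec_mulVec, Subgroup.coe_inv, ← Units.val_mul, mul_inv_cancel,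
          Units.val_one, Matrix.one_mulVec]
      refine ⟨fun w hw => ?_, fun v => ?_⟩
      · obtain ⟨c, hc⟩ := ha
        obtain ⟨d, hd⟩ := hb
        have hw' : (((b * a)⁻¹ : Hh) : GL (Fin 3) F).1 *ᵥ w ∈ W := hW _ (((b * a)⁻¹ : Hh)).2 w hw
        set w' := (((b * a)⁻¹ : Hh) : GL (Fin 3) F).1 *ᵥ w with hw'def
        have h3 : ((a * b : Hh) : GL (Fin 3) F).1 *ᵥ w' = ((b * a : Hh) : GL (Fin 3) F).1 *ᵥ w' := by
          rw [Subgroup.coe_mul, Subgroup.coe_mul, Units.val_mul, Units.val_mul,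
            ← Matrix.mulVec_mulVec, ← Matrix.mulVec_mulVec, hd w' hw', hc w' hw',
            Matrix.mulVec_smul, Matrix.mulVec_smul, hc w' hw', hd w' hw', smul_smul, smul_smul,
            mul_comm]
        rw [Subgroup.coe_mul, Units.val_mul, ← Matrix.mulVec_mulVec]
        rw [← hw'def, h3, hw'def, hinv']
      · have h3 := hcomm _ a.2 _ b.2 ((((b * a)⁻¹ : Hh) : GL (Fin 3) F).1 *ᵥ v)
        rw [← Subgroup.coe_mul, ← Subgroup.coe_mul, hinv' v] at h3
        rw [Subgroup.coe_mul, Units.val_mul, ← Matrix.mulVec_mulVec]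
        exact h3
    have h2 := (hπ.ker _).2 (hUsc _ h1)
    rw [map_mul, map_inv, mul_inv_eq_one] at h2
    exact h2
  -- the homomorphism
  let b : Module.Basis (Fin 2) F W := Module.finBasisOfFinrankEq F W hW2
  let ρ : Hh →* Module.End F W :=
    { toFun := fun g => (Matrix.toLin' ((g : GL (Fin 3) F) : Matrix (Fin 3) (Fin 3) F)).restrict
        (fun w hw => by rw [Matrix.toLin'_apply]; exact hW _ g.2 w hw)
      map_one' := by
        apply LinearMap.ext
        intro w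
        apply Subtype.ext
        simp
      map_mul' := by
        intro g h
        apply LinearMap.ext
        intro w
        apply Subtype.ext
        simp }
  let ρ' : Hh →* Matrix (Fin 2) (Fin 2) F := (LinearMap.toMatrixAlgEquiv b).toMonoidHom.comp ρ
  let ρ'' : Hh →* GL (Fin 2) F := ρ'.toHomUnits
  let Φ : Hh →* Matrix.ProjGenLinGroup (Fin 2) F := Matrix.ProjGenLinGroup.mk.comp ρ''
  have hΦ : ∀ g, Φ g = 1 ↔ (g : GL (Fin 3) F) ∈ scalars (Fin 3) F := by
    intro g
    have h1 : Φ g = 1 ↔ ρ'' g ∈ Subgroup.center (GL (Fin 2) F) := Matrix.ProjGenLinGroup.mk_eq_one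
    rw [h1, Matrix.GeneralLinearGroup.center_eq_range_scalar]
    constructor
    · rintro ⟨c, hc⟩
      refine hKsc g ⟨(c : F), fun w hw => ?_⟩
      have h2 : ρ' g = (algebraMap F (Matrix (Fin 2) (Fin 2) F)) c := by
        have h3 := congrArg Units.val hc
        rw [show ((ρ'' g : GL (Fin 2) F) : Matrix (Fin 2) (Fin 2) F) = ρ' g from rfl] at h3
        rw [← h3]
        rfl
      have h4 : ρ g = algebraMap F (Module.End F W) c := by
        apply (LinearMap.toMatrixAlgEquiv b).injective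
        rw [AlgEquiv.commutes]
        exact h2
      have h5 := LinearMap.congr_fun h4 ⟨w, hw⟩
      exact congrArg Subtype.val h5
    · intro hg
      obtain ⟨c, hc⟩ := (mem_scalars_iff _).1 hg
      refine ⟨c, ?_⟩
      apply Units.ext
      have h4 : ρ g = algebraMap F (Module.End F W) c := by
        apply LinearMap.ext
        intro w
        apply Subtype.ext
        show ((g : GL (Fin 3) F) : Matrix (Fin 3) (Fin 3) F).toLin' (w : Fin 3 → F) = (c : F) • (w : Fin 3 → F)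
        rw [Matrix.toLin'_apply, hc, Matrix.smul_mulVec, Matrix.one_mulVec]
      show _ = ρ' g
      have h2 : ρ' g = (algebraMap F (Matrix (Fin 2) (Fin 2) F)) c := by
        show (LinearMap.toMatrixAlgEquiv b) (ρ g) = _
        rw [h4, AlgEquiv.commutes]
      rw [h2]
      rfl
  obtain ⟨f, hf, -⟩ := hπ.embed Φ hΦ
  exact ⟨f, hf⟩

/-- The inverse-transpose automorphism. -/
def tau (n : ℕ) (F : Type*) [Field F] : GL (Fin n) F →* GL (Fin n) F where
  toFun g := ⟨((g⁻¹ : GL (Fin n) F) : Matrix (Fin n) (Fin n) F)ᵀ, (g : Matrix (Fin n) (Fin n) F)ᵀ, by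
    rw [← Matrix.transpose_mul, ← Units.val_mul, mul_inv_cancel, Units.val_one,
      Matrix.transpose_one], by
    rw [← Matrix.transpose_mul, ← Units.val_mul, inv_mul_cancel, Units.val_one,
      Matrix.transpose_one]⟩
  map_one' := by
    apply Units.ext
    show ((1⁻¹ : GL (Fin n) F) : Matrix (Fin n) (Fin n) F)ᵀ = 1
    rw [inv_one, Units.val_one, Matrix.transpose_one]
  map_mul' g h := by
    apply Units.ext
    show (((g * h)⁻¹ : GL (Fin n) F) : Matrix (Fin n) (Fin n) F)ᵀ =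
      ((g⁻¹ : GL (Fin n) F) : Matrix (Fin n) (Fin n) F)ᵀ *
        ((h⁻¹ : GL (Fin n) F) : Matrix (Fin n) (Fin n) F)ᵀ
    rw [mul_inv_rev, Units.val_mul, Matrix.transpose_mul]

theorem tau_val {n : ℕ} (g : GL (Fin n) F) : ((tau n F g : GL (Fin n) F) : Matrix (Fin n) (Fin n) F) =
    ((g⁻¹ : GL (Fin n) F) : Matrix (Fin n) (Fin n) F)ᵀ := rfl

theorem tau_tau {n : ℕ} (g : GL (Fin n) F) : tau n F (tau n F g) = g := by
  apply Units.ext
  rw [tau_val]
  show (((tau n F g)⁻¹ : GL (Fin n) F) : Matrix (Fin n) (Fin n) F)ᵀ = _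
  rw [← map_inv, tau_val, inv_inv, Matrix.transpose_transpose]

theorem tau_injective (n : ℕ) : Function.Injective (tau n F) :=
  Function.LeftInverse.injective (g := tau n F) tau_tau

theorem tau_mem_scalars {n : ℕ} {g : GL (Fin n) F} (hg : g ∈ scalars (Fin n) F) :
    tau n F g ∈ scalars (Fin n) F := by
  obtain ⟨c, hc⟩ := (mem_scalars_iff _).1 ((scalars (Fin n) F).inv_mem hg)
  rw [mem_scalars_iff]
  refine ⟨c, ?_⟩
  rw [tau_val, hc, Matrix.transpose_smul, Matrix.transpose_one]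

/-- The dual presentation. -/
theorem Pres.dual {n : ℕ} {Hh : Subgroup (GL (Fin n) F)} {H : Type*} [Group H] {π : Hh →* H}
    (hπ : Pres Hh π) : ∃ π' : (Hh.map (tau n F)) →* H, Pres (Hh.map (tau n F)) π' := by
  let e : Hh ≃* Hh.map (tau n F) := Hh.equivMapOfInjective (tau n F) (tau_injective n)
  refine ⟨π.comp e.symm.toMonoidHom, ⟨hπ.surj.comp e.symm.surjective, ?_⟩⟩
  intro g
  obtain ⟨h, rfl⟩ := e.surjective g
  show π (e.symm (e h)) = 1 ↔ _
  rw [e.symm_apply_apply, hπ.ker]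
  show _ ↔ tau n F (h : GL (Fin n) F) ∈ scalars (Fin n) F
  constructor
  · exact tau_mem_scalars
  · intro h1
    have := tau_mem_scalars h1
    rwa [tau_tau] at this

/-- The reducible case. -/
theorem exists_embed [Finite H] (hπ : Pres Hh π) (hN : NEA H)
    (hred : ¬ ActsIrreducibly (matrixSet Hh)) :
    ∃ f : H →* Matrix.ProjGenLinGroup (Fin 2) F, Function.Injective f := by
  classical
  unfold ActsIrreducibly at hred
  push Not at hred
  obtain ⟨W, hW, hW0, hW1⟩ := hred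
  have hWinv : ∀ g ∈ Hh, ∀ w ∈ W, (g : Matrix (Fin 3) (Fin 3) F) *ᵥ w ∈ W := by
    intro g hg w hw
    have := hW _ ⟨g, hg, rfl⟩ (Submodule.mem_map_of_mem hw)
    rwa [Matrix.toLin'_apply] at this
  have h0 : 0 < Module.finrank F W := by
    rw [Module.finrank_pos_iff]
    exact (Submodule.nontrivial_iff_ne_bot).2 hW0
  have h3 : Module.finrank F W < 3 := by
    have := Submodule.finrank_lt hW1
    rwa [Module.finrank_fin_fun] at this
  have h12 : Module.finrank F W = 1 ∨ Module.finrank F W = 2 := by omega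
  rcases h12 with h1 | h2
  · obtain ⟨w0, hw0, hw⟩ := finrank_eq_one_iff'.1 h1
    have hw0' : (w0 : Fin 3 → F) ≠ 0 := fun h => hw0 (Subtype.ext h)
    obtain ⟨π', hπ'⟩ := hπ.dual
    let φ : (Fin 3 → F) →ₗ[F] F :=
      { toFun := fun v => v ⬝ᵥ (w0 : Fin 3 → F)
        map_add' := fun a b => add_dotProduct _ _ _
        map_smul' := fun c a => smul_dotProduct _ _ _ }
    have hφ0 : φ ≠ 0 := by
      intro h
      apply hw0'
      refine dotProduct_eq_zero_iff.1 fun v => ?_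
      rw [dotProduct_comm]
      exact LinearMap.congr_fun h v
    have hker : Module.finrank F (LinearMap.ker φ) = 2 := by
      have h4 := LinearMap.finrank_range_add_finrank_ker φ
      rw [LinearMap.range_eq_top.2 (LinearMap.surjective hφ0), finrank_top, Module.finrank_self,
        Module.finrank_fin_fun] at h4
      omega
    refine exists_embed_plane hπ' hN (LinearMap.ker φ) hker ?_
    rintro _ ⟨g, hg, rfl⟩ v hv
    rw [LinearMap.mem_ker] at hv ⊢
    show (((g⁻¹ : GL (Fin 3) F) : Matrix (Fin 3) (Fin 3) F)ᵀ *ᵥ v) ⬝ᵥ (w0 : Fin 3 → F) = 0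
    rw [Matrix.mulVec_transpose, ← Matrix.dotProduct_mulVec]
    obtain ⟨c, hc⟩ := hw ⟨_, hWinv _ (Hh.inv_mem hg) w0 w0.2⟩
    have hc' : c • (w0 : Fin 3 → F) = ((g⁻¹ : GL (Fin 3) F) : Matrix (Fin 3) (Fin 3) F) *ᵥ w0 :=
      congrArg Subtype.val hc
    rw [← hc', dotProduct_smul]
    have hv' : v ⬝ᵥ (w0 : Fin 3 → F) = 0 := hv
    rw [hv', smul_zero]
  · exact exists_embed_plane hπ hN W h2 hWinv

end Cfsg.Agent.H890.B3
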