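import Cfsg.Agent.H907.Main
import Cfsg.Agent.H890.B3Red

/-!
The irreducible case: existence of the core `P`.
-/

set_option autoImplicit false

namespace Cfsg.Agent.H890.B3

open Cfsg.Geo Cfsg.Agent.H907
open scoped Matrix MatrixGroups

variable {F : Type*} [Field F] {Hh : Subgroup (GL (Fin 3) F)} {H : Type*} [Group H] {π : Hh →* H}

/-- A normalised subgroup which is commutative modulo scalars consists of scalars. -/
theorem le_scalars_of_normBy [Finite H] (hπ : Pres Hh π) (hN : NEA H) {N : Subgroup (GL (Fin 3) F)}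
    (hle : N ≤ Hh) (hn : NormBy Hh N)
    (hc : ∀ a ∈ N, ∀ b ∈ N, a * b * (b * a)⁻¹ ∈ scalars (Fin 3) F) : N ≤ scalars (Fin 3) F := by
  have h1 : (N.subgroupOf Hh).Normal := by
    refine ⟨fun n hn' g => ?_⟩
    exact hn g g.2 n hn'
  have h2 := hπ.abel hN (N.subgroupOf Hh) h1 (by
    intro a ha b hb
    have h3 : π (a * b * (b * a)⁻¹) = 1 := by
      rw [hπ.ker]
      exact hc a ha b hb
    rwa [map_mul, map_inv, mul_inv_eq_one] at h3)
  intro n hn'
  exact h2 ⟨n, hle hn'⟩ hn'

theorem not_irred_of_le_scalars {N : Subgroup (GL (Fin 3) F)} (hN : N ≤ scalars (Fin 3) F) :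
    ¬ ActsIrreducibly (matrixSet N) := by
  intro h
  let v : Fin 3 → F := Pi.single 0 1
  have hv : v ≠ 0 := by
    intro h0
    have := congrFun h0 0
    simp [v] at this
  rcases h (Submodule.span F {v}) (by
    rintro _ ⟨g, hg, rfl⟩
    obtain ⟨c, hc⟩ := (mem_scalars_iff _).1 (hN hg)
    rw [Submodule.map_span, Submodule.span_le]
    rintro _ ⟨w, hw, rfl⟩
    rw [Set.mem_singleton_iff] at hw
    rw [hw]
    show Matrix.toLin' (g : Matrix (Fin 3) (Fin 3) F) v ∈ _
    rw [Matrix.toLin'_apply, hc, Matrix.smul_mulVec, Matrix.one_mulVec]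
    exact Submodule.smul_mem _ _ (Submodule.mem_span_singleton_self v)) with h1 | h1
  · rw [Submodule.span_singleton_eq_bot] at h1
    exact hv h1
  · have h2 := finrank_span_singleton (K := F) hv
    rw [h1, finrank_top, Module.finrank_fin_fun] at h2
    omega

/-- **The irreducible case.** -/
theorem exists_preCore [Finite F] [Finite H] (hπ : Pres Hh π) (hN : NEA H)
    (hirr : ActsIrreducibly (matrixSet Hh)) : ∃ P : Subgroup (GL (Fin 3) F), PreCore Hh P := by
  rcases struct_prime (r := 3) Nat.prime_three (by norm_num) (Fintype.card_fin 3) hirr with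
    ⟨N, hNH, hn, D, hD, -, -, χ, hχ, hDe⟩ | ⟨N, hNH, hn, hc, hirr', -, -⟩ |
    ⟨R, hRH, hn, -, habs, -, -, -, hc⟩ | h
  · exfalso
    have hact : ∀ n : N, ∀ i, ∀ v ∈ D i, ((n : GL (Fin 3) F) : Matrix (Fin 3) (Fin 3) F) *ᵥ v =
        χ i n • v := by
      intro n i v hv
      rw [hDe i] at hv
      exact hv n
    have hcomm : ∀ a ∈ N, ∀ b ∈ N, a * b = b * a := by
      intro a ha b hb
      apply Units.ext
      rw [Units.val_mul, Units.val_mul]
      have hlin : Matrix.toLin' ((a : Matrix (Fin 3) (Fin 3) F) * (b : Matrix (Fin 3) (Fin 3) F)) =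
          Matrix.toLin' ((b : Matrix (Fin 3) (Fin 3) F) * (a : Matrix (Fin 3) (Fin 3) F)) := by
        have key : ∀ v : Fin 3 → F, v ∈ (⊤ : Submodule F (Fin 3 → F)) →
            Matrix.toLin' ((a : Matrix (Fin 3) (Fin 3) F) * (b : Matrix (Fin 3) (Fin 3) F)) v =
              Matrix.toLin' ((b : Matrix (Fin 3) (Fin 3) F) * (a : Matrix (Fin 3) (Fin 3) F)) v := by
          intro v hv
          rw [← hD.iSup_eq_top] at hv
          refine Submodule.iSup_induction D (motive := fun v =>
            Matrix.toLin' ((a : Matrix (Fin 3) (Fin 3) F) * (b : Matrix (Fin 3) (Fin 3) F)) v =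
              Matrix.toLin' ((b : Matrix (Fin 3) (Fin 3) F) * (a : Matrix (Fin 3) (Fin 3) F)) v) hv ?_ ?_ ?_
          · intro i v hv
            rw [Matrix.toLin'_apply, Matrix.toLin'_apply, ← Matrix.mulVec_mulVec,
              ← Matrix.mulVec_mulVec, hact ⟨a, ha⟩ i v hv, hact ⟨b, hb⟩ i v hv,
              Matrix.mulVec_smul, Matrix.mulVec_smul, hact ⟨a, ha⟩ i v hv, hact ⟨b, hb⟩ i v hv,
              smul_smul, smul_smul, mul_comm]
          · rw [map_zero, map_zero]
          · intro x y hx hy
            rw [map_add, map_add, hx, hy]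
        exact LinearMap.ext fun v => key v Submodule.mem_top
      exact Matrix.toLin'.injective hlin
    have hsc : N ≤ scalars (Fin 3) F := by
      refine le_scalars_of_normBy hπ hN hNH hn fun a ha b hb => ?_
      rw [hcomm a ha b hb, mul_inv_cancel]
      exact Subgroup.one_mem _
    -- all characters are equal
    have heq : χ 0 = χ 1 := by
      funext n
      obtain ⟨c, hc⟩ := (mem_scalars_iff _).1 (hsc n.2)
      have h1 : ∀ i, χ i n = c := by
        intro i
        have hfr := hD.finrank_eq i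
        obtain ⟨v, hv0, -⟩ := finrank_eq_one_iff'.1 hfr
        have h2 := hact n i v v.2
        rw [hc, Matrix.smul_mulVec, Matrix.one_mulVec] at h2
        have h3 : ((c : F) - χ i n) • (v : Fin 3 → F) = 0 := by rw [sub_smul, h2, sub_self]
        rcases smul_eq_zero.1 h3 with h4 | h4
        · exact (sub_eq_zero.1 h4).symm
        · exact absurd (Subtype.ext h4) hv0
      rw [h1, h1]
    exact absurd (hχ heq) (by decide)
  · exact absurd hirr' (not_irred_of_le_scalars (le_scalars_of_normBy hπ hN hNH hn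
      fun a ha b hb => by
        rw [hc a ha b hb, mul_inv_cancel]
        exact Subgroup.one_mem _))
  · exact absurd habs.1 (not_irred_of_le_scalars (le_scalars_of_normBy hπ hN hRH hn
      fun a ha b hb => by
        rw [mul_inv_rev, ← mul_assoc]
        exact hc a ha b hb))
  · exact h

end Cfsg.Agent.H890.B3
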