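import Cfsg.Agent.H914.Rat
import Cfsg.Agent.H890.B3Irr

/-!
Descent to the smallest subfield over which the core is realisable.
-/

set_option autoImplicit false

namespace Cfsg.Agent.H890.B3

open Cfsg.Geo Cfsg.Agent.H907
open scoped Matrix MatrixGroups

variable {F : Type*} [Field F]

section conj

variable {n : ℕ}

/-- Entries of an absolutely irreducible group: conjugation. -/
theorem absIrr_conj {P : Subgroup (GL (Fin n) F)} (h : ActsAbsolutelyIrreducibly (matrixSet P))
    (B : GL (Fin n) F) : ActsAbsolutelyIrreducibly (matrixSet (P.map (MulAut.conj B).toMonoidHom)) := by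
  have hset : matrixSet (P.map (MulAut.conj B).toMonoidHom) =
      {t | ∃ s ∈ matrixSet P, t = (((B⁻¹)⁻¹ : GL (Fin n) F) : Matrix (Fin n) (Fin n) F) * s *
        ((B⁻¹ : GL (Fin n) F) : Matrix (Fin n) (Fin n) F)} := by
    ext t
    constructor
    · rintro ⟨_, ⟨g, hg, rfl⟩, rfl⟩
      refine ⟨g, ⟨g, hg, rfl⟩, ?_⟩
      rw [inv_inv, ← Units.val_mul, ← Units.val_mul]
      rfl
    · rintro ⟨_, ⟨g, hg, rfl⟩, rfl⟩
      refine ⟨_, ⟨g, hg, rfl⟩, ?_⟩
      show ((B * g * B⁻¹ : GL (Fin n) F) : Matrix (Fin n) (Fin n) F) = _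
      rw [inv_inv, Units.val_mul, Units.val_mul]
  constructor
  · rw [hset]
    exact Cfsg.Agent.H914.irr_conj h.1 B⁻¹
  · intro M hM
    obtain ⟨c, hc⟩ := h.2 (((B⁻¹ : GL (Fin n) F) : Matrix (Fin n) (Fin n) F) * M * B) (by
      rintro _ ⟨g, hg, rfl⟩
      have h1 := hM _ ⟨B * g * B⁻¹, ⟨g, hg, rfl⟩, rfl⟩
      simp only [Units.val_mul] at h1
      have h2 : ((B⁻¹ : GL (Fin n) F) : Matrix (Fin n) (Fin n) F) *
          (M * ((B : Matrix (Fin n) (Fin n) F) * (g : Matrix (Fin n) (Fin n) F) *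
            ((B⁻¹ : GL (Fin n) F) : Matrix (Fin n) (Fin n) F))) * (B : Matrix (Fin n) (Fin n) F) =
          ((B⁻¹ : GL (Fin n) F) : Matrix (Fin n) (Fin n) F) *
          (((B : Matrix (Fin n) (Fin n) F) * (g : Matrix (Fin n) (Fin n) F) *
            ((B⁻¹ : GL (Fin n) F) : Matrix (Fin n) (Fin n) F)) * M) * (B : Matrix (Fin n) (Fin n) F) := by
        rw [h1]
      simp only [mul_assoc, Units.inv_mul, Units.inv_mul_cancel_left, mul_one] at h2 ⊢
      exact h2)
    refine ⟨c, ?_⟩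
    have h3 : M = (B : Matrix (Fin n) (Fin n) F) *
        (((B⁻¹ : GL (Fin n) F) : Matrix (Fin n) (Fin n) F) * M * B) *
          ((B⁻¹ : GL (Fin n) F) : Matrix (Fin n) (Fin n) F) := by
      simp only [mul_assoc, Units.mul_inv, Units.mul_inv_cancel_left, mul_one]
    rw [h3, hc]
    simp

end conj

/-- The group of matrices over the subfield. -/
abbrev jj (n : ℕ) (F₀ : Subfield F) : GL (Fin n) F₀ →* GL (Fin n) F :=
  Matrix.GeneralLinearGroup.map (F₀.subtype : F₀ →+* F)

theorem jj_apply {n : ℕ} (F₀ : Subfield F) (g : GL (Fin n) F₀) (i j : Fin n) :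
    ((jj n F₀ g : GL (Fin n) F) : Matrix (Fin n) (Fin n) F) i j =
      (((g : Matrix (Fin n) (Fin n) F₀) i j : F₀) : F) := rfl

theorem jj_injective (n : ℕ) (F₀ : Subfield F) : Function.Injective (jj n F₀) := by
  intro g h hgh
  apply Units.ext
  ext i j
  have := congrArg (fun x : GL (Fin n) F => (x : Matrix (Fin n) (Fin n) F) i j) hgh
  exact this

theorem jj_det {n : ℕ} (F₀ : Subfield F) (g : GL (Fin n) F₀) :
    ((jj n F₀ g : GL (Fin n) F) : Matrix (Fin n) (Fin n) F).det =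
      (((g : Matrix (Fin n) (Fin n) F₀).det : F₀) : F) :=
  (RingHom.map_det (F₀.subtype : F₀ →+* F) (g : Matrix (Fin n) (Fin n) F₀)).symm

/-- Invertible matrices with entries in the subfield come from the subfield. -/
theorem exists_jj {n : ℕ} (F₀ : Subfield F) (g : GL (Fin n) F)
    (hg : ∀ i j, (g : Matrix (Fin n) (Fin n) F) i j ∈ F₀) : ∃ g₀ : GL (Fin n) F₀, jj n F₀ g₀ = g := by
  let A : Matrix (Fin n) (Fin n) F₀ := fun i j => ⟨(g : Matrix (Fin n) (Fin n) F) i j, hg i j⟩
  have hA : (F₀.subtype : F₀ →+* F).mapMatrix A = (g : Matrix (Fin n) (Fin n) F) := by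
    ext i j
    rfl
  have hdet : A.det ≠ 0 := by
    intro h0
    have h2 := RingHom.map_det (F₀.subtype : F₀ →+* F) A
    rw [h0, map_zero, hA] at h2
    exact ((Matrix.isUnit_iff_isUnit_det _).mp g.isUnit).ne_zero h2.symm
  refine ⟨Matrix.GeneralLinearGroup.mkOfDetNeZero A hdet, ?_⟩
  apply Units.ext
  ext i j
  rfl

theorem jj_mem_scalars {n : ℕ} (hn : 0 < n) (F₀ : Subfield F) (g : GL (Fin n) F₀) :
    jj n F₀ g ∈ scalars (Fin n) F ↔ g ∈ scalars (Fin n) F₀ := by
  rw [mem_scalars_iff, mem_scalars_iff]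
  constructor
  · rintro ⟨c, hc⟩
    have hcF : (c : F) = (((g : Matrix (Fin n) (Fin n) F₀) ⟨0, hn⟩ ⟨0, hn⟩ : F₀) : F) := by
      rw [← jj_apply, hc]
      simp
    have h0 : (g : Matrix (Fin n) (Fin n) F₀) ⟨0, hn⟩ ⟨0, hn⟩ ≠ 0 := by
      intro h
      rw [h] at hcF
      exact c.ne_zero hcF
    refine ⟨Units.mk0 _ h0, ?_⟩
    ext i j
    have h1 := congrFun (congrFun hc i) j
    rw [jj_apply, hcF] at h1
    rw [h1]
    simp only [Matrix.smul_apply, smul_eq_mul, Units.val_mk0, Matrix.one_apply]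
    split_ifs <;> simp
  · rintro ⟨c, hc⟩
    refine ⟨Units.map (F₀.subtype : F₀ →+* F).toMonoidHom c, ?_⟩
    ext i j
    rw [jj_apply, hc]
    simp only [Matrix.smul_apply, smul_eq_mul, Matrix.one_apply]
    split_ifs <;> simp

/-- Absolute irreducibility descends to the subfield. -/
theorem absIrr_descend {n : ℕ} (hn : 0 < n) (F₀ : Subfield F) (P₀ : Subgroup (GL (Fin n) F₀))
    (h : ActsAbsolutelyIrreducibly (matrixSet (P₀.map (jj n F₀)))) :
    ActsAbsolutelyIrreducibly (matrixSet P₀) := by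
  classical
  let ι₀ : (Fin n → F₀) → (Fin n → F) := fun v i => (v i : F)
  have hmul : ∀ (g : GL (Fin n) F₀) (v : Fin n → F₀),
      ((jj n F₀ g : GL (Fin n) F) : Matrix (Fin n) (Fin n) F) *ᵥ ι₀ v =
        ι₀ ((g : Matrix (Fin n) (Fin n) F₀) *ᵥ v) := by
    intro g v
    ext i
    simp only [Matrix.mulVec, dotProduct, jj_apply, ι₀]
    push_cast
    rfl
  constructor
  · intro W hW
    by_cases hW1 : W = ⊤
    · exact Or.inr hW1
    left
    -- a functional vanishing on `W`
    obtain ⟨φ, hφ, hφW⟩ := Submodule.exists_le_ker_of_lt_top W (lt_top_iff_ne_top.2 hW1)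
    let a : Fin n → F₀ := fun i => φ (Pi.single i 1)
    have hφa : ∀ v, φ v = a ⬝ᵥ v := by
      intro v
      rw [LinearMap.pi_apply_eq_sum_univ φ v]
      unfold dotProduct
      refine Finset.sum_congr rfl fun i _ => ?_
      rw [smul_eq_mul, mul_comm]
      congr 1
      show φ _ = φ _
      congr 1
      funext j
      rw [Pi.single_apply]
      by_cases hij : i = j
      · subst hij; simp
      · rw [if_neg hij, if_neg (fun h => hij h.symm)]
    have ha : a ≠ 0 := by
      intro h0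
      apply hφ
      apply LinearMap.ext
      intro v
      rw [hφa, h0, zero_dotProduct, LinearMap.zero_apply]
    obtain ⟨i₀, hi₀⟩ := Function.ne_iff.1 ha
    let V : Submodule F (Fin n → F) := Submodule.span F (ι₀ '' (W : Set (Fin n → F₀)))
    have hVinv : ∀ s ∈ matrixSet (P₀.map (jj n F₀)), V.map (Matrix.toLin' s) ≤ V := by
      rintro _ ⟨_, ⟨g, hg, rfl⟩, rfl⟩
      rw [Submodule.map_span, Submodule.span_le]
      rintro _ ⟨_, ⟨w, hw, rfl⟩, rfl⟩
      show Matrix.toLin' ((jj n F₀ g : GL (Fin n) F) : Matrix (Fin n) (Fin n) F) (ι₀ w) ∈ V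
      rw [Matrix.toLin'_apply, hmul]
      apply Submodule.subset_span
      refine ⟨_, ?_, rfl⟩
      have := hW _ ⟨g, hg, rfl⟩ (Submodule.mem_map_of_mem hw)
      rwa [Matrix.toLin'_apply] at this
    rcases h.1 V hVinv with hV | hV
    · rw [eq_bot_iff]
      intro w hw
      have h1 : ι₀ w ∈ V := Submodule.subset_span ⟨w, hw, rfl⟩
      rw [hV, Submodule.mem_bot] at h1
      rw [Submodule.mem_bot]
      ext i
      have := congrFun h1 i
      simpa [ι₀] using this
    · exfalso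
      have h1 : ∀ v ∈ V, (ι₀ a) ⬝ᵥ v = 0 := by
        intro v hv
        refine Submodule.span_induction (p := fun v _ => (ι₀ a) ⬝ᵥ v = 0) ?_ ?_ ?_ ?_ hv
        · rintro _ ⟨w, hw, rfl⟩
          have h2 : a ⬝ᵥ w = 0 := by rw [← hφa]; exact hφW hw
          have h3 := congrArg (fun x : F₀ => (x : F)) h2
          simp only [dotProduct] at h3
          push_cast at h3
          exact h3
        · rw [dotProduct_zero]
        · intro x y _ _ hx hy
          rw [dotProduct_add, hx, hy, add_zero]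
        · intro c x _ hx
          rw [dotProduct_smul, hx, smul_zero]
      have h2 := h1 (Pi.single i₀ 1) (by rw [hV]; trivial)
      rw [dotProduct_single_one] at h2
      apply hi₀
      simpa [ι₀] using h2
  · intro M hM
    obtain ⟨c, hc⟩ := h.2 (M.map (fun x : F₀ => (x : F))) (by
      rintro _ ⟨_, ⟨g, hg, rfl⟩, rfl⟩
      have h1 := hM _ ⟨g, hg, rfl⟩
      ext i j
      have h2 := congrArg (fun x : F₀ => (x : F)) (congrFun (congrFun h1 i) j)
      simp only [Matrix.mul_apply] at h2 ⊢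
      push_cast at h2
      exact h2)
    refine ⟨M ⟨0, hn⟩ ⟨0, hn⟩, ?_⟩
    have hcF : c = ((M ⟨0, hn⟩ ⟨0, hn⟩ : F₀) : F) := by
      have := congrFun (congrFun hc ⟨0, hn⟩) ⟨0, hn⟩
      simpa using this.symm
    ext i j
    have h1 := congrFun (congrFun hc i) j
    rw [Matrix.map_apply, hcF] at h1
    rw [h1]
    simp only [Matrix.smul_apply, smul_eq_mul, Matrix.one_apply]
    split_ifs <;> simp

/-- **Descent.** -/
theorem exists_descent [Finite F] {n : ℕ} (hn : 0 < n) {Hh : Subgroup (GL (Fin n) F)} {H : Type*}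
    [Group H] {π : Hh →* H} (hπ : Pres Hh π) (hsl : Hh ≤ specialLinear (Fin n) F)
    {P : Subgroup (GL (Fin n) F)} (hP : PreCore Hh P) :
    ∃ (F₀ : Subfield F) (Hh₀ : Subgroup (GL (Fin n) F₀)) (π₀ : Hh₀ →* H)
      (P₀ : Subgroup (GL (Fin n) F₀)), Pres Hh₀ π₀ ∧ IsResidualCore Hh₀ P₀ ∧
      (∀ g ∈ Hh₀, ∃ c : F, (((g : Matrix (Fin n) (Fin n) F₀).det : F₀) : F) = c ^ n) := by
  classical
  have hne : Nonempty (Fin n) := ⟨⟨0, hn⟩⟩
  -- the smallest subfield
  have hS : {F₀ : Subfield F | RealisableOver F₀ (matrixSet P)}.Nonempty :=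
    ⟨⊤, 1, fun s _ i j => Subfield.mem_top _⟩
  obtain ⟨F₀, hF₀, hmin⟩ := WellFounded.has_min
    (InvImage.wf (fun F₀ : Subfield F => Nat.card F₀) Nat.lt_wfRel.wf) _ hS
  obtain ⟨B, hB⟩ := hF₀
  have hsub := Cfsg.Agent.H914.le_subfieldSubgroup hP.normal hP.absIrred hB
  set cB : GL (Fin n) F →* GL (Fin n) F := (MulAut.conj B).toMonoidHom with hcB
  have hcBinj : Function.Injective cB := (MulAut.conj B).injective
  have hcBapp : ∀ g, cB g = B * g * B⁻¹ := fun g => rfl
  -- the fibre product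
  let T : Subgroup (GL (Fin n) F₀ × Hh) :=
    { carrier := {x | ∃ c : Fˣ, ((jj n F₀ x.1 : GL (Fin n) F) : Matrix (Fin n) (Fin n) F) =
        (c : F) • ((cB (x.2 : GL (Fin n) F) : GL (Fin n) F) : Matrix (Fin n) (Fin n) F)}
      one_mem' := ⟨1, by simp⟩
      mul_mem' := by
        rintro ⟨a, a'⟩ ⟨b, b'⟩ ⟨c, hc⟩ ⟨d, hd⟩
        refine ⟨c * d, ?_⟩
        simp only [Prod.fst_mul, Prod.snd_mul, map_mul, Units.val_mul, Subgroup.coe_mul] at hc hd ⊢
        rw [hc, hd, Matrix.smul_mul, Matrix.mul_smul, smul_smul]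
      inv_mem' := by
        rintro ⟨a, a'⟩ ⟨c, hc⟩
        refine ⟨c⁻¹, ?_⟩
        simp only [Prod.fst_inv, Prod.snd_inv, map_inv, Subgroup.coe_inv] at hc ⊢
        have h1 : jj n F₀ a = (Units.map (Matrix.scalar (Fin n) : F →+* Matrix (Fin n) (Fin n) F).toMonoidHom c) *
            cB (a' : GL (Fin n) F) := by
          apply Units.ext
          rw [hc, Units.val_mul]
          simp [Matrix.smul_eq_diagonal_mul]
        rw [h1, mul_inv_rev, ← map_inv, Units.val_mul]
        simp [Matrix.smul_eq_mul_diagonal] }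
  let Hh₀ : Subgroup (GL (Fin n) F₀) := T.map (MonoidHom.fst _ _)
  let f : T →* Hh₀ := (MonoidHom.fst _ _).subgroupMap T
  have hfsurj : Function.Surjective f := (MonoidHom.fst _ _).subgroupMap_surjective T
  let ψ : T →* H := π.comp ((MonoidHom.snd (GL (Fin n) F₀) Hh).comp T.subtype)
  have hker : f.ker ≤ ψ.ker := by
    rintro ⟨⟨a, a'⟩, ⟨c, hc⟩⟩ ha
    have ha1 : a = 1 := congrArg Subtype.val ha
    show π a' = 1
    rw [hπ.ker]
    rw [mem_scalars_iff]
    subst ha1
    simp only [map_one, Units.val_one] at hc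
    have h2 : cB (a' : GL (Fin n) F) = cB (Units.map (Matrix.scalar (Fin n) :
        F →+* Matrix (Fin n) (Fin n) F).toMonoidHom c⁻¹) := by
      apply Units.ext
      have h3 : ((cB (a' : GL (Fin n) F) : GL (Fin n) F) : Matrix (Fin n) (Fin n) F) =
          ((c⁻¹ : Fˣ) : F) • (1 : Matrix (Fin n) (Fin n) F) := by
        rw [hc, smul_smul, Units.inv_mul, one_smul]
      rw [h3, hcBapp]
      simp only [Units.val_mul]
      rw [show ((Units.map (Matrix.scalar (Fin n) : F →+* Matrix (Fin n) (Fin n) F).toMonoidHom c⁻¹ :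
        GL (Fin n) F) : Matrix (Fin n) (Fin n) F) = ((c⁻¹ : Fˣ) : F) • (1 : Matrix (Fin n) (Fin n) F) by
          simp [Matrix.smul_one_eq_diagonal]]
      rw [Matrix.mul_smul, Matrix.mul_one, Matrix.smul_mul, Units.mul_inv]
    have h3 := hcBinj h2
    refine ⟨c⁻¹, ?_⟩
    rw [h3]
    simp [Matrix.smul_one_eq_diagonal]
  let π₀ : Hh₀ →* H := f.liftOfSurjective hfsurj ⟨ψ, hker⟩
  have hπ₀ : ∀ t, π₀ (f t) = ψ t := fun t =>
    MonoidHom.liftOfRightInverse_comp_apply f _ (Function.rightInverse_surjInv hfsurj) ⟨ψ, hker⟩ t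
  -- every element of `Hh` is the second component of an element of `T`
  have hsnd : ∀ h : Hh, ∃ g, (g, h) ∈ T := by
    intro h
    obtain ⟨c, hc0, hc⟩ := Cfsg.Agent.H914.mem_subfieldSubgroup_iff.1 (hsub h.2)
    rw [inv_inv] at hc
    let C : GL (Fin n) F := Units.map (Matrix.scalar (Fin n) :
        F →+* Matrix (Fin n) (Fin n) F).toMonoidHom (Units.mk0 c hc0) * cB (h : GL (Fin n) F)
    have hC : (C : Matrix (Fin n) (Fin n) F) = c • ((cB (h : GL (Fin n) F) : GL (Fin n) F) : Matrix (Fin n) (Fin n) F) := by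
      show _ * _ = _
      simp [Matrix.smul_eq_diagonal_mul]
    obtain ⟨g, hg⟩ := exists_jj F₀ C (by
      intro i j
      rw [hC]
      exact hc i j)
    refine ⟨g, Units.mk0 c hc0, ?_⟩
    show ((jj n F₀ g : GL (Fin n) F) : Matrix (Fin n) (Fin n) F) = _
    rw [hg, hC]
    rfl
  have hpres : Pres Hh₀ π₀ := by
    constructor
    · intro x
      obtain ⟨h, rfl⟩ := hπ.surj x
      obtain ⟨g, hg⟩ := hsnd h
      exact ⟨f ⟨(g, h), hg⟩, hπ₀ _⟩
    · intro g
      obtain ⟨⟨⟨a, a'⟩, ⟨c, hc⟩⟩, rfl⟩ := hfsurj g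
      rw [hπ₀]
      show π a' = 1 ↔ a ∈ scalars (Fin n) F₀
      rw [hπ.ker, ← jj_mem_scalars hn, mem_scalars_iff, mem_scalars_iff]
      dsimp only at hc
      constructor
      · rintro ⟨d, hd⟩
        refine ⟨c * d, ?_⟩
        rw [hc, hcBapp, Units.val_mul, Units.val_mul, hd]
        simp [smul_smul]
      · rintro ⟨d, hd⟩
        refine ⟨c⁻¹ * d, ?_⟩
        rw [hd] at hc
        have h1 : (a' : GL (Fin n) F) = B⁻¹ * cB (a' : GL (Fin n) F) * B := by
          rw [hcBapp]; group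
        have h2 : ((cB (a' : GL (Fin n) F) : GL (Fin n) F) : Matrix (Fin n) (Fin n) F) =
            ((c⁻¹ * d : Fˣ) : F) • (1 : Matrix (Fin n) (Fin n) F) := by
          rw [Units.val_mul, ← smul_smul, hc, smul_smul, Units.inv_mul, one_smul]
        rw [h1, Units.val_mul, Units.val_mul, h2]
        simp
  -- the group `P₀`
  let P' : Subgroup (GL (Fin n) F) := P.map cB
  let P₀ : Subgroup (GL (Fin n) F₀) := P'.comap (jj n F₀)
  have hP'le : P' ≤ (jj n F₀).range := by
    rintro _ ⟨g, hg, rfl⟩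
    obtain ⟨g₀, hg₀⟩ := exists_jj F₀ (cB g) (fun i j => hB _ ⟨g, hg, rfl⟩ i j)
    exact ⟨g₀, hg₀⟩
  have hP₀map : P₀.map (jj n F₀) = P' := Subgroup.map_comap_eq_self hP'le
  have hle : P₀ ≤ Hh₀ := by
    rintro g hg
    obtain ⟨p, hp, hpg⟩ := (hg : jj n F₀ g ∈ P')
    refine ⟨(g, ⟨p, hP.le hp⟩), ⟨1, ?_⟩, rfl⟩
    simp only [Units.val_one, one_smul]
    rw [hpg]
  have habs : ActsAbsolutelyIrreducibly (matrixSet P₀) := by
    apply absIrr_descend hn
    rw [hP₀map]
    exact absIrr_conj hP.absIrred B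
  have hperf : ⁅P₀, P₀⁆ = P₀ := by
    apply Subgroup.map_injective (jj_injective n F₀)
    rw [Subgroup.map_commutator, hP₀map, ← Subgroup.map_commutator, hP.perfect]
  -- the isomorphism `P₀ ≃* P`
  let e : P₀ ≃* P := ((P₀.equivMapOfInjective (jj n F₀) (jj_injective n F₀)).trans
    (MulEquiv.subgroupCongr hP₀map)).trans (P.equivMapOfInjective cB hcBinj).symm
  have he : ∀ g : P₀, cB ((e g : P) : GL (Fin n) F) = jj n F₀ (g : GL (Fin n) F₀) := by
    intro g
    have h1 : (P.equivMapOfInjective cB hcBinj) (e g) =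
        (P₀.equivMapOfInjective (jj n F₀) (jj_injective n F₀)).trans (MulEquiv.subgroupCongr hP₀map) g := by
      show (P.equivMapOfInjective cB hcBinj) ((P.equivMapOfInjective cB hcBinj).symm _) = _
      rw [MulEquiv.apply_symm_apply]
      rfl
    exact congrArg Subtype.val h1
  have hsc : ∀ g : GL (Fin n) F, cB g ∈ scalars (Fin n) F ↔ g ∈ scalars (Fin n) F := by
    intro g
    constructor
    · intro h
      have := scalars_normal.conj_mem _ h B⁻¹
      rw [hcBapp] at this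
      convert this using 1
      group
    · intro h
      exact scalars_normal.conj_mem _ h B
  have hmap : ((scalars (Fin n) F₀).subgroupOf P₀).map e.toMonoidHom = (scalars (Fin n) F).subgroupOf P := by
    ext p
    constructor
    · rintro ⟨g, hg, rfl⟩
      show ((e g : P) : GL (Fin n) F) ∈ scalars (Fin n) F
      rw [← hsc, he, jj_mem_scalars hn]
      exact hg
    · intro hp
      refine ⟨e.symm p, ?_, e.apply_symm_apply p⟩
      show ((e.symm p : P₀) : GL (Fin n) F₀) ∈ scalars (Fin n) F₀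
      rw [← jj_mem_scalars hn, ← he, e.apply_symm_apply, hsc]
      exact hp
  let E : (P₀ ⧸ (scalars (Fin n) F₀).subgroupOf P₀) ≃* (P ⧸ (scalars (Fin n) F).subgroupOf P) :=
    QuotientGroup.congr _ _ e hmap
  refine ⟨F₀, Hh₀, π₀, P₀, hpres, ?_, ?_⟩
  · refine ⟨hle, ?_, hperf, ?_, ?_, ?_, habs, ?_⟩
    · rintro _ ⟨⟨a, a'⟩, ⟨c, hc⟩, rfl⟩ x hx
      obtain ⟨p, hp, hpx⟩ := (hx : jj n F₀ x ∈ P')
      refine ⟨a' * p * a'⁻¹, hP.normal _ a'.2 _ hp, ?_⟩
      dsimp only at hc
      show _ = jj n F₀ (a * x * a⁻¹)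
      have h1 : jj n F₀ a = (Units.map (Matrix.scalar (Fin n) : F →+* Matrix (Fin n) (Fin n) F).toMonoidHom c) *
            cB (a' : GL (Fin n) F) := by
        apply Units.ext
        rw [hc, Units.val_mul]
        simp [Matrix.smul_eq_diagonal_mul]
      have h2 : ∀ z : GL (Fin n) F, (Units.map (Matrix.scalar (Fin n) : F →+* Matrix (Fin n) (Fin n) F).toMonoidHom c) * z *
          (Units.map (Matrix.scalar (Fin n) : F →+* Matrix (Fin n) (Fin n) F).toMonoidHom c)⁻¹ = z := by
        intro z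
        rw [mul_inv_eq_iff_eq_mul]
        apply Units.ext
        rw [Units.val_mul, Units.val_mul]
        exact (Matrix.scalar_commute (c : F) (fun r => mul_comm _ _) (z : Matrix (Fin n) (Fin n) F)).eq
      have h3 := h2 (cB (a' : GL (Fin n) F) * cB p * (cB (a' : GL (Fin n) F))⁻¹)
      have h4 : jj n F₀ (a * x * a⁻¹) = jj n F₀ a * jj n F₀ x * (jj n F₀ a)⁻¹ := by
        rw [map_mul, map_mul, map_inv]
      have h5 : cB ((a' : GL (Fin n) F) * p * (a' : GL (Fin n) F)⁻¹) =
          cB (a' : GL (Fin n) F) * cB p * (cB (a' : GL (Fin n) F))⁻¹ := by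
        rw [map_mul, map_mul, map_inv]
      rw [h4]
      refine h5.trans ?_
      rw [← hpx, h1, mul_inv_rev, ← h3]
      group
    · have := hP.simple
      exact E.isSimpleGroup
    · intro hcomm
      apply hP.nonabelian
      refine ⟨⟨fun a b => ?_⟩⟩
      obtain ⟨a, rfl⟩ := E.surjective a
      obtain ⟨b, rfl⟩ := E.surjective b
      rw [← map_mul, ← map_mul, hcomm.1.1 a b]
    · intro h _ hx
      exact mem_scalars_of_comm_mod hperf habs hx
    · intro F₁ hF₁ hreal
      obtain ⟨C, hC⟩ := hreal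
      refine hmin (F₁.map (F₀.subtype : F₀ →+* F)) ⟨jj n F₀ C * B, ?_⟩ ?_
      · rintro _ ⟨p, hp, rfl⟩ i j
        obtain ⟨g₀, hg₀⟩ := hP'le (Subgroup.mem_map_of_mem cB hp)
        have hg₀P : g₀ ∈ P₀ := by
          show jj n F₀ g₀ ∈ P'
          rw [hg₀]
          exact Subgroup.mem_map_of_mem cB hp
        have h1 := hC _ ⟨g₀, hg₀P, rfl⟩ i j
        have h2 : (((jj n F₀ C * B : GL (Fin n) F) : Matrix (Fin n) (Fin n) F) *
            (p : Matrix (Fin n) (Fin n) F) *
            (((jj n F₀ C * B)⁻¹ : GL (Fin n) F) : Matrix (Fin n) (Fin n) F)) =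
            ((jj n F₀ (C * g₀ * C⁻¹) : GL (Fin n) F) : Matrix (Fin n) (Fin n) F) := by
          rw [← Units.val_mul, ← Units.val_mul]
          congr 1
          rw [map_mul, map_mul, map_inv, hg₀, hcBapp]
          group
        rw [h2]
        refine ⟨_, h1, ?_⟩
        rw [jj_apply, Units.val_mul, Units.val_mul]
        rfl
      · show Nat.card (F₁.map (F₀.subtype : F₀ →+* F)) < Nat.card F₀
        have h1 : Nat.card (F₁.map (F₀.subtype : F₀ →+* F)) = Nat.card F₁ :=
          Nat.card_image_of_injective (F₀.subtype_injective) (F₁ : Set F₀)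
        rw [h1]
        have h2 : Nat.card F₁ ≤ Nat.card F₀ := Nat.card_le_card_of_injective _ Subtype.val_injective
        refine lt_of_le_of_ne h2 fun h3 => hF₁ ?_
        have h4 : (F₁ : Set F₀) = Set.univ := by
          apply Set.eq_univ_of_forall
          intro x
          have hbij : Function.Bijective (Subtype.val : F₁ → F₀) :=
            (Nat.bijective_iff_injective_and_card _).2 ⟨Subtype.val_injective, h3⟩
          obtain ⟨y, rfl⟩ := hbij.2 x
          exact y.2
        exact SetLike.coe_injective h4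
  · rintro _ ⟨⟨a, a'⟩, ⟨c, hc⟩, rfl⟩
    refine ⟨c, ?_⟩
    dsimp only at hc
    show (((a : Matrix (Fin n) (Fin n) F₀).det : F₀) : F) = _
    rw [← jj_det, hc, Matrix.det_smul, Fintype.card_fin, hcBapp, Units.val_mul, Units.val_mul,
      Matrix.det_mul, Matrix.det_mul]
    have h1 : ((a' : GL (Fin n) F) : Matrix (Fin n) (Fin n) F).det = 1 := by
      have := hsl a'.2
      exact congrArg Units.val (MonoidHom.mem_ker.1 this)
    have h2 : (B : Matrix (Fin n) (Fin n) F).det * ((B⁻¹ : GL (Fin n) F) : Matrix (Fin n) (Fin n) F).det = 1 := by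
      rw [← Matrix.det_mul, ← Units.val_mul, mul_inv_cancel, Units.val_one, Matrix.det_one]
    rw [h1, mul_one, h2, mul_one]

end Cfsg.Agent.H890.B3
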