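import Cfsg.Agent.H883.Bridge
import Cfsg.Agent.LieClassical.OrthThreeOmega
import Cfsg.Agent.LieClassical.OmegaReindex
import Cfsg.Agent.LieClassical.OrthCount
import Cfsg.Agent.ClassicalGeometry.DiagNormal
import Cfsg.Agent.H890.B3Desc

/-!
The orthogonal case: the projective similarity group of a ternary quadratic form embeds in
`PGL_2(F)`.
-/

set_option autoImplicit false

namespace Cfsg.Agent.H890.B3

open Cfsg.Geo Cfsg.Agent.H907
open Cfsg.Agent.LieClassical.OrthThree Cfsg.Agent.LieClassical.OrthThreeOmega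
open scoped Matrix MatrixGroups

variable {F : Type*} [Field F]

/-- The determinant of a similarity. -/
theorem det_similarity {ι : Type} [Fintype ι] [DecidableEq ι] {σ : F ≃+* F}
    {f : (ι → F) → (ι → F) → F} (hf : Cfsg.Agent.H914.IsSesq σ f) (hn : IsNondegenerateForm f)
    {M : Matrix ι ι F} {μ : F} (hM : ∀ u v, f (M *ᵥ u) (M *ᵥ v) = μ * f u v) :
    M.det * σ M.det = μ ^ Fintype.card ι := by
  have hG := Cfsg.Agent.H914.det_gram_ne_zero hf hn
  set G := gramMatrix f with hGdef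
  have h1 : Mᵀ * G * M.map σ = μ • G := by
    apply Cfsg.Agent.H914.sesqOf_injective (σ := σ)
    intro u v
    rw [← Cfsg.Agent.H914.sesqOf_mulVec, ← hf.eq_gram, hM, hf.eq_gram]
    unfold Cfsg.Agent.H914.sesqOf
    rw [Matrix.smul_mulVec, dotProduct_smul, smul_eq_mul]
  have h2 := congrArg Matrix.det h1
  rw [Matrix.det_mul, Matrix.det_mul, Matrix.det_transpose, Matrix.det_smul] at h2
  have h3 : (M.map σ).det = σ M.det := by
    rw [← RingEquiv.coe_toRingHom σ, ← RingHom.mapMatrix_apply, ← RingHom.map_det]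
  rw [h3] at h2
  apply mul_right_cancel₀ hG
  rw [← h2]
  ring

/-- `phi k` is scalar only for scalar `k`. -/
theorem phi_scalar {k : GL (Fin 2) F} {c : F}
    (h : ((phi k : GL (Unit ⊕ (Fin 1 ⊕ Fin 1)) F) : Matrix (Unit ⊕ (Fin 1 ⊕ Fin 1)) (Unit ⊕ (Fin 1 ⊕ Fin 1)) F) =
      c • (1 : Matrix _ _ F)) :
    phi k = 1 := by
  have h1 := h
  rw [phi_coe, phiMat_eq k _ _ _ _ _ rfl rfl rfl rfl rfl] at h1
  have hD := det_inv_mul k
  generalize (((Matrix.GeneralLinearGroup.det k)⁻¹ : Fˣ) : F) = D at *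
  generalize k 0 0 = a at *
  generalize k 0 1 = b at *
  generalize k 1 0 = d at *
  generalize k 1 1 = e at *
  have hD0 : D ≠ 0 := left_ne_zero_of_mul_eq_one hD
  have e12 : D * (-b ^ 2) = c * 0 := congrFun (congrFun h1 (.inr (.inl 0))) (.inr (.inr 0))
  have e00 : D * (a * e + b * d) = c * 1 := congrFun (congrFun h1 (.inl ())) (.inl ())
  have hb : b = 0 := by
    rw [mul_zero] at e12
    have := (mul_eq_zero.1 e12).resolve_left hD0
    exact pow_eq_zero_iff two_ne_zero |>.1 (neg_eq_zero.1 this)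
  subst hb
  have hc : c = 1 := by linear_combination hD - e00
  apply Units.ext
  rw [h, hc, one_smul, Units.val_one]

theorem phi_eq_one_iff (k : GL (Fin 2) F) :
    phi k = 1 ↔ k ∈ Subgroup.center (GL (Fin 2) F) := by
  rw [Matrix.GeneralLinearGroup.center_eq_range_scalar]
  constructor
  · intro h
    obtain ⟨h1, h2, h3⟩ := scalar_of_phi_eq_one h
    have h0 : k 0 0 ≠ 0 := by
      intro h0
      have hu : IsUnit (k : Matrix (Fin 2) (Fin 2) F).det := (Matrix.isUnit_iff_isUnit_det _).1 k.isUnit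
      rw [Matrix.det_fin_two] at hu
      change IsUnit (k 0 0 * k 1 1 - k 0 1 * k 1 0) at hu
      rw [h0, h1] at hu
      simp at hu
    refine ⟨Units.mk0 _ h0, ?_⟩
    apply Units.ext
    ext i j
    fin_cases i <;> fin_cases j
    · rfl
    · exact h1.symm
    · exact h2.symm
    · exact h3
  · rintro ⟨c, rfl⟩
    apply Units.ext
    rw [phi_coe, phiMat_eq _ (c : F) 0 0 c ((c⁻¹ * c⁻¹ : Fˣ) : F) rfl rfl rfl rfl, Units.val_one,
      ← mk_one]
    · congr 1 <;> simp [pow_two, mul_assoc]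
    · rw [Matrix.GeneralLinearGroup.det_scalar]
      simp [pow_two]

/-- Factorisation through an injective homomorphism. -/
theorem exists_factor {G P X : Type*} [Group G] [Group P] [Group X] (u : G →* X) (v : P →* X)
    (hv : Function.Injective v) (h : ∀ g, ∃ p, v p = u g) :
    ∃ Φ : G →* P, ∀ g, v (Φ g) = u g := by
  have hr : ∀ g, u g ∈ v.range := fun g => by
    obtain ⟨p, hp⟩ := h g
    exact ⟨p, hp⟩
  refine ⟨(MonoidHom.ofInjective hv).symm.toMonoidHom.comp (u.codRestrict v.range hr), fun g => ?_⟩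
  have h1 : (MonoidHom.ofInjective hv) ((MonoidHom.ofInjective hv).symm
      (u.codRestrict v.range hr g)) = u.codRestrict v.range hr g :=
    MulEquiv.apply_symm_apply _ _
  exact congrArg Subtype.val h1

/-- Reindexed matrices act on reindexed vectors. -/
theorem reindex_mulVec {ι κ : Type} [Fintype ι] [DecidableEq ι] [Fintype κ] [DecidableEq κ]
    (e : κ ≃ ι) (g : GL κ F) (v : ι → F) :
    (((glReindex e g : GL ι F) : Matrix ι ι F) *ᵥ v) ∘ e = (g : Matrix κ κ F) *ᵥ (v ∘ e) := by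
  have h1 : ((glReindex e g : GL ι F) : Matrix ι ι F) = Matrix.reindex e e (g : Matrix κ κ F) := rfl
  rw [h1, Matrix.reindex_apply, Matrix.submatrix_mulVec_equiv]
  funext i
  simp

/-- **The orthogonal case.** -/
theorem exists_embed_orth [Finite F] (h2 : (2 : F) ≠ 0) {Hh : Subgroup (GL (Fin 3) F)} {H : Type*}
    [Group H] {π : Hh →* H} (hπ : Pres Hh π) {Q : (Fin 3 → F) → F}
    (hQ : IsNondegenerateQuadraticForm Q) (hle : Hh ≤ quadSimilarityGroup Q) :
    ∃ f : H →* Matrix.ProjGenLinGroup (Fin 2) F, Function.Injective f := by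
  classical
  -- the coordinates
  obtain ⟨Q', rfl, hQ'⟩ := Cfsg.Agent.H883.Bridge.exists_quadraticForm hQ
  have hQ'' : (QuadraticMap.polarBilin Q').Nondegenerate :=
    Cfsg.Agent.LieClassical.OmegaReindex.nondegenerate_of_left Q' hQ'
  have hcard : Fintype.card (Unit ⊕ (Fin 1 ⊕ Fin 1)) = 3 := by simp
  let e : Unit ⊕ (Fin 1 ⊕ Fin 1) ≃ Fin 3 := Fintype.equivFinOfCardEq hcard
  let Q₁ : QuadraticForm F (Fin 3 → F) :=
    Cfsg.Agent.LieClassical.OmegaReindex.reindexForm e (Cfsg.Agent.LieClassical.OmegaReindex.quadOdd 1 F)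
  have hQ₁ : (QuadraticMap.polarBilin Q₁).Nondegenerate :=
    Cfsg.Agent.LieClassical.OmegaReindex.reindexForm_nondegenerate e _
      (Cfsg.Agent.LieClassical.OmegaReindex.quadOdd_nondegenerate h2)
  obtain ⟨g₀, c₀, hc₀, hg₀⟩ := Cfsg.Agent.ClassicalGeometry.DiagNormal.exists_similar h2
    (n := 3) ⟨1, rfl⟩ Q₁ Q' hQ₁ hQ''
  let B : GL (Fin 3) F := (Cfsg.Agent.LieClassical.OrthCount.glEquiv (Fin 3) F).symm g₀
  have hB : ∀ v, (B : Matrix (Fin 3) (Fin 3) F) *ᵥ v = g₀ v := by
    intro v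
    rw [← Cfsg.Agent.LieClassical.OrthCount.glEquiv_apply]
    show (Cfsg.Agent.LieClassical.OrthCount.glEquiv (Fin 3) F)
      ((Cfsg.Agent.LieClassical.OrthCount.glEquiv (Fin 3) F).symm g₀) v = g₀ v
    rw [MulEquiv.apply_symm_apply]
  have hQB : ∀ v, Q' ((B : Matrix (Fin 3) (Fin 3) F) *ᵥ v) = c₀ * Cfsg.quadFormOdd 1 F (v ∘ e) := by
    intro v
    rw [hB, hg₀]
    show c₀ * Cfsg.Agent.LieClassical.OmegaReindex.quadOdd 1 F (v ∘ e) = _
    rw [← Cfsg.Agent.LieClassical.OmegaReindex.coe_quadOdd]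
  -- the homomorphism from `GL_2`
  let A : GL (Fin 2) F →* GL (Fin 3) F :=
    (MulAut.conj B).toMonoidHom.comp ((glReindex e).toMonoidHom.comp phi)
  have hA : ∀ k, A k = B * glReindex e (phi k) * B⁻¹ := fun k => rfl
  have hAsc : ∀ k, A k ∈ scalars (Fin 3) F ↔ k ∈ Subgroup.center (GL (Fin 2) F) := by
    intro k
    rw [← phi_eq_one_iff]
    constructor
    · intro h
      obtain ⟨c, hc⟩ := (mem_scalars_iff _).1 h
      apply phi_scalar (c := (c : F))
      have h1 : glReindex e (phi k) = B⁻¹ * A k * B := by rw [hA]; group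
      have h3 : ((glReindex e (phi k) : GL (Fin 3) F) : Matrix (Fin 3) (Fin 3) F) =
          (c : F) • (1 : Matrix (Fin 3) (Fin 3) F) := by
        rw [h1, Units.val_mul, Units.val_mul, hc]
        simp
      have h4 : Matrix.reindex e e ((phi k : GL (Unit ⊕ (Fin 1 ⊕ Fin 1)) F) : Matrix _ _ F) =
          (c : F) • (1 : Matrix (Fin 3) (Fin 3) F) := h3
      have h5 := congrArg (Matrix.reindex e e).symm h4
      rw [Equiv.symm_apply_apply] at h5
      rw [h5]
      ext i j
      simp [Matrix.one_apply]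
    · intro h
      rw [hA, h, map_one, mul_one, mul_inv_cancel]
      exact Subgroup.one_mem _
  -- isometries
  have hiso : ∀ g : GL (Fin 3) F, (∀ v, Q' ((g : Matrix (Fin 3) (Fin 3) F) *ᵥ v) = Q' v) →
      ∃ k, g = A k ∨ g = -A k := by
    intro g hg
    let h := (glReindex e).symm (B⁻¹ * g * B)
    have hh : glReindex e h = B⁻¹ * g * B := (glReindex e).apply_symm_apply _
    have hmem : h ∈ Cfsg.isometryGroup F (Cfsg.quadFormOdd 1 F) := by
      rw [Cfsg.Agent.LieClassical.OrthThree.mem_isometryGroup_iff]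
      intro w
      have hw : w = (w ∘ e.symm) ∘ e := by rw [Function.comp_assoc, Equiv.symm_comp_self]; rfl
      set v : Fin 3 → F := w ∘ e.symm with hv
      rw [hw, ← reindex_mulVec, hh]
      apply mul_left_cancel₀ hc₀
      rw [← hQB, ← hQB, Matrix.mulVec_mulVec, ← Units.val_mul]
      have : B * (B⁻¹ * g * B) = g * B := by group
      rw [this, Units.val_mul, ← Matrix.mulVec_mulVec, hg]
    obtain ⟨k, hk⟩ := exists_phi hmem
    have hg' : g = B * glReindex e h * B⁻¹ := by rw [hh]; group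
    refine ⟨k, ?_⟩
    rcases hk with hk | hk
    · left
      rw [hg', hk]
      rfl
    · right
      rw [hg', hk, hA]
      apply Units.ext
      have h1 : ((glReindex e (-phi k) : GL (Fin 3) F) : Matrix (Fin 3) (Fin 3) F) =
          -((glReindex e (phi k) : GL (Fin 3) F) : Matrix (Fin 3) (Fin 3) F) := rfl
      simp only [Units.val_mul, Units.val_neg, h1, Matrix.mul_neg, Matrix.neg_mul]
  -- similarities
  have hsesq := Cfsg.Agent.H914.IsSesq.of_bilinear hQ.polar_bilinear
  have hsim : ∀ g ∈ quadSimilarityGroup (⇑Q'), ∃ k, ∃ s ∈ scalars (Fin 3) F, g = s * A k := by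
    rintro g ⟨μ, hμ⟩
    have hpol : ∀ u v, QuadraticMap.polar (⇑Q') ((g : Matrix (Fin 3) (Fin 3) F) *ᵥ u)
        ((g : Matrix (Fin 3) (Fin 3) F) *ᵥ v) = (μ : F) * QuadraticMap.polar (⇑Q') u v := by
      intro u v
      unfold QuadraticMap.polar
      rw [← Matrix.mulVec_add, hμ, hμ, hμ]
      ring
    have hdet := det_similarity hsesq hQ.nondegenerate hpol
    rw [RingEquiv.refl_apply, Fintype.card_fin] at hdet
    set d := (g : Matrix (Fin 3) (Fin 3) F).det with hd
    have hd0 : d ≠ 0 := ((Matrix.isUnit_iff_isUnit_det _).1 g.isUnit).ne_zero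
    let lam : Fˣ := Units.mk0 (d / μ) (div_ne_zero hd0 μ.ne_zero)
    have hlam : (lam : F) ^ 2 = μ := by
      show (d / μ) ^ 2 = _
      have hμ0 := μ.ne_zero
      field_simp
      linear_combination hdet
    let s : GL (Fin 3) F := Units.map (Matrix.scalar (Fin 3) : F →+* Matrix (Fin 3) (Fin 3) F).toMonoidHom lam
    have hs : (s : Matrix (Fin 3) (Fin 3) F) = (lam : F) • (1 : Matrix (Fin 3) (Fin 3) F) := by
      simp [s, Matrix.smul_one_eq_diagonal]
    have hsmem : s ∈ scalars (Fin 3) F := (mem_scalars_iff _).2 ⟨lam, hs⟩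
    have hsinv : ((s⁻¹ : GL (Fin 3) F) : Matrix (Fin 3) (Fin 3) F) =
        ((lam⁻¹ : Fˣ) : F) • (1 : Matrix (Fin 3) (Fin 3) F) := by
      simp [s, ← map_inv, Matrix.smul_one_eq_diagonal]
    obtain ⟨k, hk⟩ := hiso (s⁻¹ * g) (by
      intro v
      rw [Units.val_mul, hsinv, Matrix.smul_mul, Matrix.one_mul, Matrix.smul_mulVec, hQ.smul, hμ,
        ← mul_assoc, ← hlam, ← mul_pow, Units.inv_mul, one_pow, one_mul])
    rcases hk with hk | hk
    · exact ⟨k, s, hsmem, by rw [← hk]; group⟩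
    · refine ⟨k, -s, ?_, ?_⟩
      · refine (mem_scalars_iff _).2 ⟨-lam, ?_⟩
        rw [Units.val_neg, hs, Units.val_neg, neg_smul]
      · have h1 : -s * A k = s * (-A k) := by
          apply Units.ext
          simp
        rw [h1, ← hk]
        group
  -- assemble
  let X := GL (Fin 3) F ⧸ scalars (Fin 3) F
  let m : GL (Fin 3) F →* X := QuotientGroup.mk' (scalars (Fin 3) F)
  have hm : ∀ g, m g = 1 ↔ g ∈ scalars (Fin 3) F := fun g => QuotientGroup.eq_one_iff g
  have hker : ∀ k ∈ Subgroup.center (GL (Fin 2) F), (m.comp A) k = 1 := by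
    intro k hk
    exact (hm _).2 ((hAsc k).2 hk)
  let v : Matrix.ProjGenLinGroup (Fin 2) F →* X :=
    QuotientGroup.lift (Subgroup.center (GL (Fin 2) F)) (m.comp A) hker
  have hvmk : ∀ k, v (Matrix.ProjGenLinGroup.mk k) = m (A k) := fun k => rfl
  have hvinj : Function.Injective v := by
    rw [injective_iff_map_eq_one]
    intro x hx
    induction x using Matrix.ProjGenLinGroup.induction_on with
    | mk k =>
      rw [hvmk] at hx
      exact Matrix.ProjGenLinGroup.mk_eq_one.2 ((hAsc k).1 ((hm _).1 hx))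
  obtain ⟨Φ, hΦ⟩ := exists_factor (m.comp Hh.subtype) v hvinj (by
    intro g
    obtain ⟨k, s, hs, hg⟩ := hsim g (hle g.2)
    refine ⟨Matrix.ProjGenLinGroup.mk k, ?_⟩
    rw [hvmk]
    show m (A k) = m (g : GL (Fin 3) F)
    rw [hg, map_mul, (hm s).2 hs, one_mul])
  obtain ⟨f, hf, -⟩ := hπ.embed Φ (by
    intro g
    rw [← hm]
    constructor
    · intro h
      have := hΦ g
      rw [h, map_one] at this
      exact this.symm
    · intro h
      apply hvinj
      rw [hΦ, map_one]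
      exact h)
  exact ⟨f, hf⟩

end Cfsg.Agent.H890.B3
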