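import Cfsg.Agent.H890.B3Act
import Cfsg.Agent.H890.B3Orth
import Cfsg.Agent.H914.Quad
import Cfsg.Agent.H914.Uni
import Cfsg.Agent.H956.UnitSim
import Cfsg.Agent.ChevalleyStructure.FieldIso
import Cfsg.Agent.H906.CoreThree

/-!
The index of the core for `SL₃` and `SU₃` (helper890).
-/

set_option autoImplicit false
set_option linter.unusedSectionVars false

namespace Cfsg.Agent.H890.B3

open Cfsg.Geo Cfsg.Agent.H907 Cfsg.Agent.H906
open scoped Matrix MatrixGroups

theorem cube_of_coprime {G : Type*} [CommGroup G] {d e : G} {k : ℕ} (hk : Nat.Coprime k 3)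
    (h : d ^ k = e ^ 3) : ∃ c, d = c ^ 3 := by
  have h1 : (k : ℤ) * Nat.gcdA k 3 + (3 : ℕ) * Nat.gcdB k 3 = 1 := by
    have := Nat.gcd_eq_gcd_ab k 3
    rw [hk] at this
    exact_mod_cast this.symm
  refine ⟨e ^ (Nat.gcdA k 3) * d ^ (Nat.gcdB k 3), ?_⟩
  have h2 : d = d ^ ((k : ℤ) * Nat.gcdA k 3 + (3 : ℕ) * Nat.gcdB k 3) := by rw [h1, zpow_one]
  nth_rewrite 1 [h2]
  rw [zpow_add, zpow_mul, zpow_natCast, h, mul_pow, zpow_mul, zpow_natCast]
  congr 1
  · rw [← zpow_natCast, ← zpow_mul, ← zpow_natCast, ← zpow_mul, mul_comm]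
  · rw [← zpow_natCast, ← zpow_natCast, ← zpow_mul, ← zpow_mul, mul_comm]

/-- An element of a subfield which is a cube in the field but not in the subfield: three divides the
degree. -/
theorem cube_descent {F : Type*} [Field F] [Finite F] {F₀ : Subfield F} {d : F₀} (hd : d ≠ 0) {c : F}
    (hc : (d : F) = c ^ 3) (hn : ¬ ∃ e : F₀, d = e ^ 3) : 3 ∣ Module.finrank F₀ F := by
  by_contra hcon
  have hcop : Nat.Coprime (Module.finrank F₀ F) 3 :=
    Nat.coprime_comm.1 ((Nat.Prime.coprime_iff_not_dvd Nat.prime_three).2 hcon)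
  have hc0 : c ≠ 0 := by
    rintro rfl
    apply hd
    apply Subtype.ext
    rw [hc]
    simp
  have h1 : Algebra.norm F₀ c ^ 3 = d ^ Module.finrank F₀ F := by
    rw [← map_pow, ← hc]
    exact Algebra.norm_algebraMap d
  have h2 : Algebra.norm F₀ c ≠ 0 := by
    intro h
    rw [h, zero_pow (by norm_num)] at h1
    exact pow_ne_zero _ hd h1.symm
  obtain ⟨e, he⟩ := cube_of_coprime (d := Units.mk0 d hd) (e := Units.mk0 _ h2) hcop (by
    apply Units.ext
    rw [Units.val_pow_eq_pow_val, Units.val_pow_eq_pow_val, Units.val_mk0, Units.val_mk0, h1])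
  exact hn ⟨e, congrArg Units.val he⟩

section Index

variable {E : Type*} [Field E] {Hh P : Subgroup (GL (Fin 3) E)} {H : Type*} [Group H] {π : Hh →* H}

theorem exists_index [Finite E] (hπ : Pres Hh π) (hC : PreCore Hh P)
    (hcube : ∀ g ∈ Hh, (∃ c : E, (g : Matrix (Fin 3) (Fin 3) E).det = c ^ 3) →
      ∃ k ∈ P, k⁻¹ * g ∈ scalars (Fin 3) E) :
    coreSub π hC = ⊤ ∨ ((coreSub π hC).index = 3 ∧ 3 ∣ Nat.card E - 1 ∧
      ∃ g ∈ Hh, ¬ ∃ c : E, (g : Matrix (Fin 3) (Fin 3) E).det = c ^ 3) := by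
  classical
  have := Fintype.ofFinite E
  have hdetP : ∀ k ∈ P, Matrix.GeneralLinearGroup.det k = 1 := fun k hk => le_specialLinear hC.perfect hk
  let C : Subgroup Eˣ := (powMonoidHom 3 : Eˣ →* Eˣ).range
  let δ : Hh →* Eˣ ⧸ C := (QuotientGroup.mk' C).comp (Matrix.GeneralLinearGroup.det.comp Hh.subtype)
  have hδ : ∀ g : Hh, δ g = 1 ↔ π g ∈ coreSub π hC := by
    intro g
    rw [mem_coreSub hπ hC]
    have h1 : δ g = 1 ↔ Matrix.GeneralLinearGroup.det (g : GL (Fin 3) E) ∈ C :=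
      QuotientGroup.eq_one_iff _
    rw [h1]
    constructor
    · rintro ⟨c, hc⟩
      exact hcube g g.2 ⟨c, (congrArg Units.val hc).symm⟩
    · rintro ⟨k, hk, hs⟩
      obtain ⟨s, hs⟩ := (mem_scalars_iff _).1 hs
      refine ⟨s, ?_⟩
      have h2 : Matrix.GeneralLinearGroup.det (k⁻¹ * (g : GL (Fin 3) E)) = s ^ 3 := by
        apply Units.ext
        rw [Matrix.GeneralLinearGroup.val_det_apply, hs, Matrix.det_smul, Matrix.det_one, mul_one,
          Fintype.card_fin, Units.val_pow_eq_pow_val]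
      rw [map_mul, map_inv, hdetP k hk, inv_one, one_mul] at h2
      exact h2.symm
  have hker : δ.ker = (coreSub π hC).comap π := by
    ext g
    exact hδ g
  have hidx : (coreSub π hC).index = Nat.card δ.range := by
    rw [← Subgroup.index_ker, hker, Subgroup.index_comap_of_surjective _ hπ.surj]
  have hdvd : Nat.card δ.range ∣ Nat.gcd (Nat.card E - 1) 3 := by
    have h1 : Nat.card (Eˣ ⧸ C) = Nat.gcd (Nat.card E - 1) 3 := by
      have h2 := IsCyclic.index_powMonoidHom_range (G := Eˣ) 3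
      rw [Nat.card_units] at h2
      exact h2
    rw [← h1]
    exact Subgroup.card_subgroup_dvd_card _
  rw [← hidx] at hdvd
  have h3 : (coreSub π hC).index ∣ 3 := hdvd.trans (Nat.gcd_dvd_right _ _)
  rcases (Nat.dvd_prime Nat.prime_three).1 h3 with h | h
  · exact Or.inl (Subgroup.index_eq_one.1 h)
  · right
    refine ⟨h, (h ▸ hdvd).trans (Nat.gcd_dvd_left _ _), ?_⟩
    by_contra hcon
    push Not at hcon
    have htop : coreSub π hC = ⊤ := by
      rw [eq_top_iff]
      intro x _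
      obtain ⟨y, rfl⟩ := hπ.surj x
      exact (mem_coreSub hπ hC y).2 (hcube y y.2 (hcon y y.2))
    rw [htop, Subgroup.index_top] at h
    omega

end Index

section Lin

variable {E : Type*} [Field E]

/-- `SL₃` modulo scalars. -/
theorem exists_psl_equiv (K : Type) [Field K] [Fintype K] [Finite E] (hcard : Nat.card E = Fintype.card K)
    {P : Subgroup (GL (Fin 3) E)} (hP : P = specialLinear (Fin 3) E) :
    Nonempty ((P ⧸ (scalars (Fin 3) E).subgroupOf P) ≃* Matrix.ProjectiveSpecialLinearGroup (Fin 3) K) := by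
  subst hP
  have := Fintype.ofFinite E
  let φ : K ≃+* E := FiniteField.ringEquivOfCardEq (by rw [← hcard, Nat.card_eq_fintype_card])
  let ψ : SL(3, K) →* specialLinear (Fin 3) E :=
    { toFun := fun g => ⟨Matrix.SpecialLinearGroup.toGL (Matrix.SpecialLinearGroup.map (φ : K →+* E) g), by
        apply Units.ext
        exact (Matrix.SpecialLinearGroup.map (φ : K →+* E) g).2⟩
      map_one' := by
        apply Subtype.ext
        show Matrix.SpecialLinearGroup.toGL (Matrix.SpecialLinearGroup.map (φ : K →+* E) 1) = 1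
        rw [map_one, map_one]
      map_mul' := fun a b => by
        apply Subtype.ext
        show Matrix.SpecialLinearGroup.toGL (Matrix.SpecialLinearGroup.map (φ : K →+* E) (a * b)) = _
        rw [map_mul, map_mul]
        rfl }
  have hψ : ∀ g : SL(3, K), (((ψ g : specialLinear (Fin 3) E) : GL (Fin 3) E) : Matrix (Fin 3) (Fin 3) E) =
      (g : Matrix (Fin 3) (Fin 3) K).map φ := fun g => rfl
  let q : SL(3, K) →* _ := (QuotientGroup.mk' ((scalars (Fin 3) E).subgroupOf (specialLinear (Fin 3) E))).comp ψ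
  have hq : Function.Surjective q := by
    intro x
    obtain ⟨x, rfl⟩ := QuotientGroup.mk'_surjective _ x
    have hdet : ((x : GL (Fin 3) E) : Matrix (Fin 3) (Fin 3) E).det = 1 := congrArg Units.val x.2
    have hdet' : (((x : GL (Fin 3) E) : Matrix (Fin 3) (Fin 3) E).map φ.symm).det = 1 := by
      have h1 := RingHom.map_det (φ.symm : E →+* K) ((x : GL (Fin 3) E) : Matrix (Fin 3) (Fin 3) E)
      rw [hdet, map_one] at h1
      exact h1.symm
    refine ⟨⟨((x : GL (Fin 3) E) : Matrix (Fin 3) (Fin 3) E).map φ.symm, hdet'⟩, ?_⟩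
    show QuotientGroup.mk' _ (ψ _) = QuotientGroup.mk' _ x
    congr 1
    apply Subtype.ext
    apply Units.ext
    change (((x : GL (Fin 3) E) : Matrix (Fin 3) (Fin 3) E).map φ.symm).map φ = _
    ext i j
    simp
  have hker : q.ker = Subgroup.center SL(3, K) := by
    ext g
    have h1 : g ∈ q.ker ↔ ((ψ g : specialLinear (Fin 3) E) : GL (Fin 3) E) ∈ scalars (Fin 3) E :=
      QuotientGroup.eq_one_iff _
    rw [h1, Matrix.SpecialLinearGroup.mem_center_iff, mem_scalars_iff]
    constructor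
    · rintro ⟨c, hc⟩
      rw [hψ] at hc
      have h2 : (g : Matrix (Fin 3) (Fin 3) K) = φ.symm c • (1 : Matrix (Fin 3) (Fin 3) K) := by
        ext i j
        have h3 := congrFun (congrFun hc i) j
        have h4 := congrArg φ.symm h3
        rw [Matrix.map_apply, φ.symm_apply_apply, Matrix.smul_apply, smul_eq_mul, map_mul] at h4
        rw [h4, Matrix.smul_apply, smul_eq_mul, Matrix.one_apply, Matrix.one_apply]
        split_ifs <;> simp
      refine ⟨φ.symm c, ?_, ?_⟩
      · have h3 := g.2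
        rw [h2, Matrix.det_smul, Matrix.det_one, mul_one] at h3
        exact h3
      · rw [h2, Matrix.smul_one_eq_diagonal]
        rfl
    · rintro ⟨r, hr, hrg⟩
      have hr0 : r ≠ 0 := by
        rintro rfl
        rw [Fintype.card_fin, zero_pow (by norm_num)] at hr
        exact zero_ne_one hr
      refine ⟨Units.mk0 (φ r) (by simpa using hr0), ?_⟩
      rw [hψ, ← hrg]
      ext i j
      rw [Matrix.map_apply, Matrix.scalar_apply, Matrix.smul_apply, Units.val_mk0, Matrix.diagonal_apply,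
        Matrix.one_apply]
      split_ifs <;> simp
  exact ⟨((QuotientGroup.quotientMulEquivOfEq hker).symm.trans
    (QuotientGroup.quotientKerEquivOfSurjective q hq)).symm⟩

theorem lin_cube {P : Subgroup (GL (Fin 3) E)} (hP : P = specialLinear (Fin 3) E)
    {g : GL (Fin 3) E} (h : ∃ c : E, (g : Matrix (Fin 3) (Fin 3) E).det = c ^ 3) :
    ∃ k ∈ P, k⁻¹ * g ∈ scalars (Fin 3) E := by
  obtain ⟨c, hc⟩ := h
  have hc0 : c ≠ 0 := by
    rintro rfl
    rw [zero_pow (by norm_num)] at hc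
    exact ((Matrix.isUnit_iff_isUnit_det _).1 g.isUnit).ne_zero hc
  let s : GL (Fin 3) E := Units.map (Matrix.scalar (Fin 3) : E →+* Matrix (Fin 3) (Fin 3) E).toMonoidHom (Units.mk0 c hc0)
  have hs : (s : Matrix (Fin 3) (Fin 3) E) = c • (1 : Matrix (Fin 3) (Fin 3) E) := by
    simp [s, Matrix.smul_one_eq_diagonal]
  have hsmem : s ∈ scalars (Fin 3) E := ⟨_, rfl⟩
  refine ⟨g * s⁻¹, ?_, ?_⟩
  · subst hP
    show Matrix.GeneralLinearGroup.det (g * s⁻¹) = 1
    rw [map_mul, map_inv, mul_inv_eq_one]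
    apply Units.ext
    rw [Matrix.GeneralLinearGroup.val_det_apply, Matrix.GeneralLinearGroup.val_det_apply, hc, hs,
      Matrix.det_smul, Matrix.det_one, mul_one, Fintype.card_fin]
  · have : (g * s⁻¹)⁻¹ * g = s := by group
    rw [this]
    exact hsmem

end Lin

section Uni

variable {E : Type*} [Field E]

/-- The special unitary group modulo scalars: the isometries of determinant one lie in `P`. -/
theorem uni_cover [Finite E] {m : ℕ} (hE : Nat.card E = m ^ 2) {P : Subgroup (GL (Fin 3) E)}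
    (habs : ActsAbsolutelyIrreducibly (matrixSet P)) (hperf : ⁅P, P⁆ = P) {σ : E ≃+* E}
    (hσ : ∀ x, σ x = x ^ m) {f : (Fin 3 → E) → (Fin 3 → E) → E} (hf : IsUnitaryForm σ f)
    (hfix : FixesForm (matrixSet P) f) {K : Type} [Field K] [Fintype K] (hK : Fintype.card K = m ^ 2)
    (hΦ : Nonempty ((P ⧸ (scalars (Fin 3) E).subgroupOf P) ≃* Cfsg.PSU 3 K m))
    {g : GL (Fin 3) E} (hg1 : (g : Matrix (Fin 3) (Fin 3) E).det = 1)
    (hg : ∀ u v, f ((g : Matrix (Fin 3) (Fin 3) E) *ᵥ u) ((g : Matrix (Fin 3) (Fin 3) E) *ᵥ v) = f u v) :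
    ∃ k ∈ P, k⁻¹ * g ∈ scalars (Fin 3) E := by
  classical
  have := Fintype.ofFinite E
  have hE' : Fintype.card E = m ^ 2 := by rw [← hE, Nat.card_eq_fintype_card]
  have hf' : IsUnitaryFormPow m f :=
    ⟨hf.add_left, hf.smul_left, fun v w => by rw [← hσ]; exact hf.herm v w, hf.nondegenerate⟩
  obtain ⟨B, hB⟩ := Cfsg.Agent.H956.UnitSim.exists_frame hE' hf'
  -- elements of the special unitary group
  have hmem : ∀ x : GL (Fin 3) E, (x : Matrix (Fin 3) (Fin 3) E).det = 1 →
      (∀ u v, f ((x : Matrix (Fin 3) (Fin 3) E) *ᵥ u) ((x : Matrix (Fin 3) (Fin 3) E) *ᵥ v) = f u v) →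
      ∃ y : Cfsg.SU 3 E m, x = B * Matrix.SpecialLinearGroup.toGL (y : Matrix.SpecialLinearGroup (Fin 3) E) * B⁻¹ := by
    intro x hx1 hx
    have hdet : ((B⁻¹ * x * B : GL (Fin 3) E) : Matrix (Fin 3) (Fin 3) E).det = 1 := by
      have h1 : Matrix.GeneralLinearGroup.det (B⁻¹ * x * B) = Matrix.GeneralLinearGroup.det x := by
        rw [map_mul, map_mul, map_inv, mul_comm, mul_inv_cancel_left]
      have h2 := congrArg Units.val h1
      rw [Matrix.GeneralLinearGroup.val_det_apply, Matrix.GeneralLinearGroup.val_det_apply, hx1] at h2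
      exact h2
    refine ⟨⟨⟨((B⁻¹ * x * B : GL (Fin 3) E) : Matrix (Fin 3) (Fin 3) E), hdet⟩, ?_⟩, ?_⟩
    · intro u v
      show hermForm 3 E m (((B⁻¹ * x * B : GL (Fin 3) E) : Matrix (Fin 3) (Fin 3) E) *ᵥ u)
        (((B⁻¹ * x * B : GL (Fin 3) E) : Matrix (Fin 3) (Fin 3) E) *ᵥ v) = hermForm 3 E m u v
      rw [← hB, ← hB, Matrix.mulVec_mulVec, Matrix.mulVec_mulVec, ← Units.val_mul]
      have : B * (B⁻¹ * x * B) = x * B := by group
      rw [this, Units.val_mul, ← Matrix.mulVec_mulVec, ← Matrix.mulVec_mulVec, hx]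
    · have h1 : Matrix.SpecialLinearGroup.toGL (⟨((B⁻¹ * x * B : GL (Fin 3) E) : Matrix (Fin 3) (Fin 3) E), hdet⟩ :
          Matrix.SpecialLinearGroup (Fin 3) E) = B⁻¹ * x * B := Units.ext rfl
      show x = B * Matrix.SpecialLinearGroup.toGL (⟨((B⁻¹ * x * B : GL (Fin 3) E) : Matrix (Fin 3) (Fin 3) E), hdet⟩ :
          Matrix.SpecialLinearGroup (Fin 3) E) * B⁻¹
      rw [h1]
      group
  have hdetP : ∀ k ∈ P, (k : Matrix (Fin 3) (Fin 3) E).det = 1 := fun k hk =>
    congrArg Units.val (show Matrix.GeneralLinearGroup.det k = 1 from le_specialLinear hperf hk)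
  have hPmem : ∀ k ∈ P, ∃ y : Cfsg.SU 3 E m,
      k = B * Matrix.SpecialLinearGroup.toGL (y : Matrix.SpecialLinearGroup (Fin 3) E) * B⁻¹ :=
    fun k hk => hmem k (hdetP k hk) (hfix _ ⟨k, hk, rfl⟩)
  -- modulo scalars
  let X := GL (Fin 3) E ⧸ scalars (Fin 3) E
  let mk : GL (Fin 3) E →* X := QuotientGroup.mk' (scalars (Fin 3) E)
  have hmk : ∀ x, mk x = 1 ↔ x ∈ scalars (Fin 3) E := fun x => QuotientGroup.eq_one_iff x
  let ρ : Cfsg.SU 3 E m →* X := mk.comp ((MulAut.conj B).toMonoidHom.comp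
    (Matrix.SpecialLinearGroup.toGL.comp (Cfsg.SU 3 E m).subtype))
  have hρ : ∀ y, ρ y = mk (B * Matrix.SpecialLinearGroup.toGL (y : Matrix.SpecialLinearGroup (Fin 3) E) * B⁻¹) :=
    fun y => rfl
  have hker : ρ.ker = Subgroup.center (Cfsg.SU 3 E m) := by
    ext y
    rw [MonoidHom.mem_ker, hρ, hmk]
    constructor
    · intro h
      obtain ⟨c, hc⟩ := (mem_scalars_iff _).1 h
      have hy : ((y : Matrix.SpecialLinearGroup (Fin 3) E) : Matrix (Fin 3) (Fin 3) E) =
          (c : E) • (1 : Matrix (Fin 3) (Fin 3) E) := by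
        have h1 : (Matrix.SpecialLinearGroup.toGL (y : Matrix.SpecialLinearGroup (Fin 3) E) : GL (Fin 3) E) =
            B⁻¹ * (B * Matrix.SpecialLinearGroup.toGL (y : Matrix.SpecialLinearGroup (Fin 3) E) * B⁻¹) * B := by
          group
        have h2 : ((Matrix.SpecialLinearGroup.toGL (y : Matrix.SpecialLinearGroup (Fin 3) E) : GL (Fin 3) E) :
            Matrix (Fin 3) (Fin 3) E) = (c : E) • (1 : Matrix (Fin 3) (Fin 3) E) := by
          rw [h1, Units.val_mul, Units.val_mul, hc]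
          simp
        exact h2
      rw [Subgroup.mem_center_iff]
      intro z
      apply Subtype.ext
      apply Subtype.ext
      show ((z : Matrix.SpecialLinearGroup (Fin 3) E) : Matrix (Fin 3) (Fin 3) E) *
        ((y : Matrix.SpecialLinearGroup (Fin 3) E) : Matrix (Fin 3) (Fin 3) E) =
        ((y : Matrix.SpecialLinearGroup (Fin 3) E) : Matrix (Fin 3) (Fin 3) E) *
        ((z : Matrix.SpecialLinearGroup (Fin 3) E) : Matrix (Fin 3) (Fin 3) E)
      rw [hy]
      simp
    · intro h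
      rw [Subgroup.mem_center_iff] at h
      set w : GL (Fin 3) E := B * Matrix.SpecialLinearGroup.toGL (y : Matrix.SpecialLinearGroup (Fin 3) E) * B⁻¹ with hw
      obtain ⟨c, hc⟩ := habs.2 (w : Matrix (Fin 3) (Fin 3) E) (by
        rintro _ ⟨k, hk, rfl⟩
        obtain ⟨z, rfl⟩ := hPmem k hk
        have h1 := h z
        have h2 : w * (B * Matrix.SpecialLinearGroup.toGL (z : Matrix.SpecialLinearGroup (Fin 3) E) * B⁻¹) =
            (B * Matrix.SpecialLinearGroup.toGL (z : Matrix.SpecialLinearGroup (Fin 3) E) * B⁻¹) * w := by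
          have h3 : Matrix.SpecialLinearGroup.toGL ((z * y : Cfsg.SU 3 E m) : Matrix.SpecialLinearGroup (Fin 3) E) =
              Matrix.SpecialLinearGroup.toGL ((y * z : Cfsg.SU 3 E m) : Matrix.SpecialLinearGroup (Fin 3) E) := by
            rw [h1]
          rw [Subgroup.coe_mul, Subgroup.coe_mul, map_mul, map_mul] at h3
          rw [hw]
          calc _ = B * (Matrix.SpecialLinearGroup.toGL (y : Matrix.SpecialLinearGroup (Fin 3) E) *
                Matrix.SpecialLinearGroup.toGL (z : Matrix.SpecialLinearGroup (Fin 3) E)) * B⁻¹ := by group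
            _ = _ := by rw [← h3]; group
        have h4 := congrArg Units.val h2
        rw [Units.val_mul w, Units.val_mul _ w] at h4
        exact h4)
      have hc0 : c ≠ 0 := by
        rintro rfl
        rw [zero_smul] at hc
        exact (Units.ne_zero w) hc
      exact (mem_scalars_iff _).2 ⟨Units.mk0 c hc0, hc⟩
  have hle : P.map mk ≤ ρ.range := by
    rintro _ ⟨k, hk, rfl⟩
    obtain ⟨y, hy⟩ := hPmem k hk
    exact ⟨y, by rw [hρ, ← hy]⟩
  have hcardP : Nat.card (P.map mk) = Nat.card (P ⧸ (scalars (Fin 3) E).subgroupOf P) := by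
    have h1 : (mk.comp P.subtype).ker = (scalars (Fin 3) E).subgroupOf P := by
      ext k
      exact hmk k
    have h2 : (mk.comp P.subtype).range = P.map mk := by
      rw [MonoidHom.range_comp, Subgroup.range_subtype]
    rw [← h2, ← h1]
    exact (Nat.card_congr (QuotientGroup.quotientKerEquivRange (mk.comp P.subtype)).toEquiv).symm
  have hcardU : Nat.card ρ.range = Nat.card (Cfsg.PSU 3 E m) := by
    rw [← Nat.card_congr (QuotientGroup.quotientKerEquivRange ρ).toEquiv, hker]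
  have heq : P.map mk = ρ.range := by
    apply Subgroup.eq_of_le_of_card_ge hle
    rw [hcardP, hcardU]
    obtain ⟨Φ⟩ := hΦ
    let φ : E ≃+* K := FiniteField.ringEquivOfCardEq (by rw [hE', hK])
    rw [Nat.card_congr Φ.toEquiv, Nat.card_congr (Cfsg.Agent.ChevalleyStructure.FieldIso.PSUEquiv 3 m φ).toEquiv]
  obtain ⟨y, hy⟩ := hmem g hg1 hg
  have h1 : mk g ∈ P.map mk := by
    rw [heq]
    exact ⟨y, by rw [hρ, ← hy]⟩
  obtain ⟨k, hk, hkg⟩ := h1
  refine ⟨k, hk, ?_⟩
  rw [← hmk, map_mul, map_inv, hkg, inv_mul_cancel]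

/-- The group `Ĥ` in the unitary case. -/
theorem uni_cube [Finite E] {m : ℕ} (hE : Nat.card E = m ^ 2) {Hh P : Subgroup (GL (Fin 3) E)}
    (hC : PreCore Hh P) (hfix : FixesUnitary P m) {K : Type} [Field K] [Fintype K] (hK : Fintype.card K = m ^ 2)
    (hΦ : Nonempty ((P ⧸ (scalars (Fin 3) E).subgroupOf P) ≃* Cfsg.PSU 3 K m)) :
    (∀ g ∈ Hh, (∃ c : E, (g : Matrix (Fin 3) (Fin 3) E).det = c ^ 3) → ∃ k ∈ P, k⁻¹ * g ∈ scalars (Fin 3) E) ∧
    (∀ g ∈ Hh, (¬ ∃ c : E, (g : Matrix (Fin 3) (Fin 3) E).det = c ^ 3) → ¬ Nat.Coprime (m + 1) 3) := by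
  obtain ⟨σ, f, hσ, hf, hff⟩ := hfix
  have hs := Cfsg.Agent.H914.IsSesq.of_unitary hf
  have hsim := Cfsg.Agent.H914.le_similarityGroup_of_fixes hC.normal hC.absIrred hs hf.nondegenerate hff
  constructor
  · rintro g hg ⟨c, hc⟩
    obtain ⟨μ, hμ⟩ := hsim hg
    have hc0 : c ≠ 0 := by
      rintro rfl
      rw [zero_pow (by norm_num)] at hc
      exact ((Matrix.isUnit_iff_isUnit_det _).1 g.isUnit).ne_zero hc
    -- determinant one
    let s : ∀ c : Eˣ, GL (Fin 3) E := fun c => Units.map (Matrix.scalar (Fin 3) : E →+* Matrix (Fin 3) (Fin 3) E).toMonoidHom c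
    have hsv : ∀ c : Eˣ, (s c : Matrix (Fin 3) (Fin 3) E) = (c : E) • (1 : Matrix (Fin 3) (Fin 3) E) := by
      intro c
      simp [s, Matrix.smul_one_eq_diagonal]
    have hsmem : ∀ c, s c ∈ scalars (Fin 3) E := fun c => ⟨c, rfl⟩
    have hsmul : ∀ (d : Eˣ) (x : GL (Fin 3) E), ((s d * x : GL (Fin 3) E) : Matrix (Fin 3) (Fin 3) E) =
        (d : E) • (x : Matrix (Fin 3) (Fin 3) E) := by
      intro d x
      rw [Units.val_mul, hsv, Matrix.smul_mul, Matrix.one_mul]
    have hsim' : ∀ (d : Eˣ) (x : GL (Fin 3) E) (ν : E),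
        (∀ u v, f ((x : Matrix (Fin 3) (Fin 3) E) *ᵥ u) ((x : Matrix (Fin 3) (Fin 3) E) *ᵥ v) = ν * f u v) →
        ∀ u v, f (((s d * x : GL (Fin 3) E) : Matrix (Fin 3) (Fin 3) E) *ᵥ u)
          (((s d * x : GL (Fin 3) E) : Matrix (Fin 3) (Fin 3) E) *ᵥ v) = ((d : E) * σ d * ν) * f u v := by
      intro d x ν hx u v
      rw [hsmul, Matrix.smul_mulVec, Matrix.smul_mulVec, hs.smul_left, hs.smul_right, hx]
      ring
    have hdet' : ∀ (d : Eˣ) (x : GL (Fin 3) E), ((s d * x : GL (Fin 3) E) : Matrix (Fin 3) (Fin 3) E).det =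
        (d : E) ^ 3 * (x : Matrix (Fin 3) (Fin 3) E).det := by
      intro d x
      rw [hsmul, Matrix.det_smul, Fintype.card_fin]
    set cu : Eˣ := Units.mk0 c hc0 with hcu
    have hg1 : ((s cu⁻¹ * g : GL (Fin 3) E) : Matrix (Fin 3) (Fin 3) E).det = 1 := by
      rw [hdet', hc, ← mul_pow, Units.val_inv_eq_inv_val, hcu, Units.val_mk0, inv_mul_cancel₀ hc0, one_pow]
    have hμ' := hsim' cu⁻¹ g μ hμ
    set ν : E := ((cu⁻¹ : Eˣ) : E) * σ ((cu⁻¹ : Eˣ) : E) * μ with hν
    have hν3 : ν ^ 3 = 1 := by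
      have h1 := det_similarity hs hf.nondegenerate hμ'
      rw [hg1, map_one, mul_one, Fintype.card_fin] at h1
      exact h1.symm
    have hν0 : ν ≠ 0 := by
      intro h
      rw [h, zero_pow (by norm_num)] at hν3
      exact zero_ne_one hν3
    have hσν : σ ν = ν := by
      obtain ⟨⟨u, hu⟩, -⟩ := hf.nondegenerate (Pi.single 0 1) (by
        intro h0
        have := congrFun h0 0
        simp at this)
      have h1 := hμ' u (Pi.single 0 1)
      have h2 := hμ' (Pi.single 0 1) u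
      rw [hf.herm, h2, map_mul, ← hf.herm] at h1
      exact mul_right_cancel₀ hu h1
    let νu : Eˣ := Units.mk0 ν hν0
    obtain ⟨k, hk, hks⟩ := uni_cover hE hC.absIrred hC.perfect hσ hf hff hK hΦ
      (g := s νu * (s cu⁻¹ * g)) (by rw [hdet', hg1, mul_one]; exact hν3) (by
        intro u v
        rw [hsim' νu _ ν hμ']
        show (ν * σ ν * ν) * f u v = f u v
        rw [hσν]
        have : ν * ν * ν = 1 := by linear_combination hν3
        rw [this, one_mul])
    refine ⟨k, hk, ?_⟩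
    have h1 : k⁻¹ * g = (k⁻¹ * (s νu * (s cu⁻¹ * g))) * (g⁻¹ * (s νu * s cu⁻¹)⁻¹ * g) := by group
    rw [h1]
    refine Subgroup.mul_mem _ hks ?_
    have h2 := (scalars_normal (ι := Fin 3) (F := E)).conj_mem _
      (Subgroup.inv_mem _ (Subgroup.mul_mem _ (hsmem νu) (hsmem cu⁻¹))) g⁻¹
    rwa [inv_inv] at h2
  · intro g hg hn hcop
    apply hn
    obtain ⟨μ, hμ⟩ := hsim hg
    have h1 := det_similarity hs hf.nondegenerate hμ
    rw [Fintype.card_fin, hσ, ← pow_succ'] at h1
    have hd0 : (g : Matrix (Fin 3) (Fin 3) E).det ≠ 0 := ((Matrix.isUnit_iff_isUnit_det _).1 g.isUnit).ne_zero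
    obtain ⟨c, hc⟩ := cube_of_coprime (d := Units.mk0 _ hd0) (e := μ) hcop (Units.ext (by
      rw [Units.val_pow_eq_pow_val, Units.val_pow_eq_pow_val, Units.val_mk0, h1]))
    exact ⟨c, congrArg Units.val hc⟩

end Uni

end Cfsg.Agent.H890.B3
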