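import Cfsg.Agent.H890.Y3Tools
import Cfsg.Agent.H906.Heis
import Cfsg.Agent.H906.TracePow
import Cfsg.Agent.H906.Reg

/-!
# Traces for `A₇` in characteristic five (helper890)
-/

set_option autoImplicit false
set_option linter.unusedSectionVars false

namespace Cfsg.Agent.H890.Y3

open Cfsg Cfsg.Geo Cfsg.Agent.H906 Equiv Equiv.Perm
open scoped MatrixGroups Matrix

variable {F : Type*} [Field F] {P : Subgroup (GL (Fin 3) F)}

theorem trace_smul_zero {Γ : Type*} [Group Γ] {Φ : (P ⧸ (scalars (Fin 3) F).subgroupOf P) ≃* Γ}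
    {e f : Γ} {c : Fˣ} (h : Br Φ e f c) (hc : c ≠ 1) {a : P} (ha : pr Φ a = e) :
    ((a : GL (Fin 3) F) : Matrix (Fin 3) (Fin 3) F).trace = 0 := by
  obtain ⟨b, hb⟩ := pr_surjective Φ f
  have h1 := h a b ha hb
  have h2 : ((a : GL (Fin 3) F) : Matrix (Fin 3) (Fin 3) F) =
      (c : F) • (((b : GL (Fin 3) F) * a * (b : GL (Fin 3) F)⁻¹ : GL (Fin 3) F) : Matrix (Fin 3) (Fin 3) F) := by
    have h3 := congrArg (fun M => M * (((b : GL (Fin 3) F)⁻¹ : GL (Fin 3) F) : Matrix (Fin 3) (Fin 3) F)) h1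
    simp only [Matrix.smul_mul, ← Units.val_mul, mul_inv_cancel_right] at h3
    exact h3
  have h4 := congrArg Matrix.trace h2
  rw [Matrix.trace_smul, trace_conj, smul_eq_mul] at h4
  have hc1 : (1 - (c : F)) ≠ 0 := fun h => hc (Units.ext (by rw [Units.val_one]; exact (sub_eq_zero.1 h).symm))
  have h5 : (1 - (c : F)) * ((a : GL (Fin 3) F) : Matrix (Fin 3) (Fin 3) F).trace = 0 := by
    linear_combination h4
  exact (mul_eq_zero.1 h5).resolve_left hc1

theorem trace_cube (M : Matrix (Fin 3) (Fin 3) F) (h : M.trace = 0) : (M ^ 3).trace = 3 * M.det := by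
  rw [Matrix.trace_fin_three] at h
  have h1 : (M ^ 3).trace = 3 * M.det + (M 0 0 + M 1 1 + M 2 2) *
      ((M * M).trace - (M 0 0 * M 1 1 - M 0 1 * M 1 0 + M 0 0 * M 2 2 - M 0 2 * M 2 0 + M 1 1 * M 2 2 - M 1 2 * M 2 1)) := by
    rw [Matrix.det_fin_three, pow_succ, sq]
    simp only [Matrix.trace_fin_three, Matrix.mul_apply, Fin.sum_univ_three]
    ring
  rw [h1, h, zero_mul, add_zero]

theorem cube_one (hperf : ⁅P, P⁆ = P) (h3 : (3 : F) ≠ 0) {Γ : Type*} [Group Γ]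
    {Φ : (P ⧸ (scalars (Fin 3) F).subgroupOf P) ≃* Γ}
    {e f : Γ} {c : Fˣ} (h : Br Φ e f c) (hc : c ≠ 1) {a : P} (ha : pr Φ a = e) (he : e ^ 3 = 1) :
    (a : GL (Fin 3) F) ^ 3 = 1 := by
  have h1 := trace_smul_zero h hc ha
  have h2 := trace_cube _ h1
  have hdet : Matrix.GeneralLinearGroup.det (a : GL (Fin 3) F) = 1 := le_specialLinear hperf a.2
  have hdet' : ((a : GL (Fin 3) F) : Matrix (Fin 3) (Fin 3) F).det = 1 := congrArg Units.val hdet
  have h4 : pr Φ (a ^ 3) = 1 := by rw [map_pow, ha, he]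
  obtain ⟨s, hs⟩ := (mem_scalars_iff _).1 ((pr_eq_one Φ).1 h4)
  have h5 : ((a : GL (Fin 3) F) : Matrix (Fin 3) (Fin 3) F) ^ 3 = (s : F) • (1 : Matrix (Fin 3) (Fin 3) F) := by
    rw [← Units.val_pow_eq_pow_val]
    exact hs
  rw [h5, hdet', Matrix.trace_smul, Matrix.trace_one, Fintype.card_fin, smul_eq_mul, mul_one] at h2
  have h6 : (s : F) = 1 := by
    have h7 : (3 : F) * ((s : F) - 1) = 0 := by push_cast at h2; linear_combination h2
    exact sub_eq_zero.1 ((mul_eq_zero.1 h7).resolve_left h3)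
  apply Units.ext
  rw [Units.val_pow_eq_pow_val, h5, h6, one_smul]
  rfl

/-- Lifting conjugacy up to scalars. -/
theorem lift_up_to (hperf : ⁅P, P⁆ = P) {Γ : Type*} [Group Γ]
    (Φ : (P ⧸ (scalars (Fin 3) F).subgroupOf P) ≃* Γ) {a b : P} {y : Γ}
    (h : y * pr Φ a * y⁻¹ = pr Φ b) : ∃ c z : P, c * a * c⁻¹ = z * b ∧ z ^ 3 = 1 ∧ ∀ g : P, g * z = z * g := by
  obtain ⟨c, rfl⟩ := pr_surjective Φ y
  refine ⟨c, c * a * c⁻¹ * b⁻¹, by group, ?_, ?_⟩
  · have h1 : pr Φ (c * a * c⁻¹ * b⁻¹) = 1 := by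
      rw [map_mul, map_inv, map_mul, map_mul, map_inv, h, mul_inv_cancel]
    have h2 := scalar_pow_three (le_specialLinear hperf) (c * a * c⁻¹ * b⁻¹).2 ((pr_eq_one Φ).1 h1)
    exact Subtype.ext h2
  · have h1 : pr Φ (c * a * c⁻¹ * b⁻¹) = 1 := by
      rw [map_mul, map_inv, map_mul, map_mul, map_inv, h, mul_inv_cancel]
    exact Subgroup.mem_center_iff.1 (scalars_le_center ((pr_eq_one Φ).1 h1))

variable {Φ : (P ⧸ (scalars (Fin 3) F).subgroupOf P) ≃* alternatingGroup (Fin 7)}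

/-- The lifts of two disjoint `3`-cycles do not commute. -/
theorem br_ne (hperf : ⁅P, P⁆ = P) (h3 : (3 : F) ≠ 0) : ∃ c : Fˣ, c ≠ 1 ∧ Br Φ r3 r3' c := by
  obtain ⟨c, hc⟩ := Br.exists_of_comm (Φ := Φ) r3_comm
  refine ⟨c, ?_, hc⟩
  rintro rfl
  have h1 : ∀ s ∈ ({r3, r3'} : Set (alternatingGroup (Fin 7))), ∀ t ∈ ({r3, r3'} : Set (alternatingGroup (Fin 7))),
      Br Φ s t 1 := by
    intro s hs t ht
    rcases hs with rfl | hs <;> rcases ht with rfl | ht
    · exact Br.self _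
    · rw [Set.mem_singleton_iff.1 ht]; exact hc
    · rw [Set.mem_singleton_iff.1 hs]
      have := hc.symm
      rwa [inv_one] at this
    · rw [Set.mem_singleton_iff.1 hs, Set.mem_singleton_iff.1 ht]; exact Br.self _
  have h2 := br_closure h1
  have hcomm : ∀ s ∈ Subgroup.closure ({r3, r3'} : Set (alternatingGroup (Fin 7))),
      ∀ t ∈ Subgroup.closure ({r3, r3'} : Set (alternatingGroup (Fin 7))), s * t = t * s := by
    intro s hs t ht
    obtain ⟨a, ha⟩ := pr_surjective Φ s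
    obtain ⟨b, hb⟩ := pr_surjective Φ t
    have h4 := (h2 s hs t ht).comm_of_one ha hb
    have h5 : a * b = b * a := Subtype.ext h4
    rw [← ha, ← hb, ← map_mul, h5, map_mul]
  have hcube : ∀ e ∈ Subgroup.closure ({r3, r3'} : Set (alternatingGroup (Fin 7))), e ^ 3 = 1 := by
    intro e he
    induction he using Subgroup.closure_induction with
    | mem x hx =>
      rcases hx with rfl | hx
      · exact r3_pow
      · rw [Set.mem_singleton_iff.1 hx]; exact r3'_pow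
    | one => exact one_pow 3
    | mul x y hx hy h h' => rw [(show Commute x y from hcomm x hx y hy).mul_pow, h, h', mul_one]
    | inv x _ h => rw [inv_pow, h, inv_one]
  have hr3 : r3 ∈ Subgroup.closure ({r3, r3'} : Set (alternatingGroup (Fin 7))) :=
    Subgroup.subset_closure (Or.inl rfl)
  have hr3' : r3' ∈ Subgroup.closure ({r3, r3'} : Set (alternatingGroup (Fin 7))) :=
    Subgroup.subset_closure (Or.inr rfl)
  have hg : ∀ e ∈ Subgroup.closure ({r3, r3'} : Set (alternatingGroup (Fin 7))),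
      g4 * e * g4⁻¹ ∈ Subgroup.closure ({r3, r3'} : Set (alternatingGroup (Fin 7))) := by
    have : Subgroup.closure ({r3, r3'} : Set (alternatingGroup (Fin 7))) ≤
        (Subgroup.closure ({r3, r3'} : Set (alternatingGroup (Fin 7)))).comap (MulAut.conj g4).toMonoidHom := by
      rw [Subgroup.closure_le]
      intro x hx
      change g4 * x * g4⁻¹ ∈ Subgroup.closure ({r3, r3'} : Set (alternatingGroup (Fin 7)))
      rcases hx with rfl | hx
      · rw [g4_r3]; exact hr3'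
      · rw [Set.mem_singleton_iff.1 hx, g4_r3']; exact inv_mem hr3
    exact fun e he => this he
  have hg' : ∀ e ∈ Subgroup.closure ({r3, r3'} : Set (alternatingGroup (Fin 7))),
      g4⁻¹ * e * g4 ∈ Subgroup.closure ({r3, r3'} : Set (alternatingGroup (Fin 7))) := by
    have : Subgroup.closure ({r3, r3'} : Set (alternatingGroup (Fin 7))) ≤
        (Subgroup.closure ({r3, r3'} : Set (alternatingGroup (Fin 7)))).comap (MulAut.conj g4⁻¹).toMonoidHom := by
      rw [Subgroup.closure_le]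
      intro x hx
      change g4⁻¹ * x * g4⁻¹⁻¹ ∈ Subgroup.closure ({r3, r3'} : Set (alternatingGroup (Fin 7)))
      rcases hx with rfl | hx
      · have h5 : g4⁻¹ * r3 * g4⁻¹⁻¹ = r3'⁻¹ := by
          have := congrArg (fun z => g4⁻¹ * z⁻¹ * g4) g4_r3'
          simp only [inv_inv, mul_inv_rev] at this
          rw [inv_inv, ← this]
          group
        rw [h5]; exact inv_mem hr3'
      · have h5 : g4⁻¹ * r3' * g4⁻¹⁻¹ = r3 := by
          rw [← g4_r3]; group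
        rw [Set.mem_singleton_iff.1 hx, h5]; exact hr3
    intro e he
    have h6 := this he
    change g4⁻¹ * e * g4⁻¹⁻¹ ∈ Subgroup.closure ({r3, r3'} : Set (alternatingGroup (Fin 7))) at h6
    rwa [inv_inv] at h6
  rcases sq_or_cube_br (le_specialLinear hperf) h2 (n := 3) (by exact_mod_cast h3) hcube hg hg' with h | h
  · exact g4_sq (h _ hr3)
  · exact g4_cu (h _ hr3)

/-- **Traces for `A₇` in characteristic five.** -/
theorem A7_trace [Finite F] [CharP F 5] (hperf : ⁅P, P⁆ = P)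
    (Φ : (P ⧸ (scalars (Fin 3) F).subgroupOf P) ≃* alternatingGroup (Fin 7))
    (g : GL (Fin 3) F) (hg : g ∈ P) :
    (g : Matrix (Fin 3) (Fin 3) F).trace ^ 5 = ((g⁻¹ : GL (Fin 3) F) : Matrix (Fin 3) (Fin 3) F).trace := by
  have h5p : Fact (Nat.Prime 5) := ⟨by norm_num⟩
  have h3 : (3 : F) ≠ 0 := by
    intro h
    have h4 : ((3 : ℕ) : F) = 0 := by exact_mod_cast h
    have h5 := (CharP.cast_eq_zero_iff F 5 3).1 h4
    omega
  refine trace_of_reg 5 5 (fun s hs hcop => ?_) g hg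
  rw [← trace_pow_char, ← Units.val_pow_eq_pow_val]
  have six : (s : GL (Fin 3) F) ^ 6 = 1 → ((s ^ 5 : GL (Fin 3) F) : Matrix (Fin 3) (Fin 3) F).trace =
      ((s⁻¹ : GL (Fin 3) F) : Matrix (Fin 3) (Fin 3) F).trace := by
    intro h
    rw [eq_inv_of_mul_eq_one_left (show s ^ 5 * s = 1 by rw [← pow_succ, h])]
  obtain ⟨σ, r, hr, hσ⟩ := reps (pr Φ ⟨s, hs⟩)
  have hz3 : ∀ z : P, pr (Φ.trans (MulAut.conjNormal σ)) z = 1 → z ^ 3 = 1 := fun z hz =>
    Subtype.ext (scalar_pow_three (le_specialLinear hperf) z.2 ((pr_eq_one _).1 hz))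
  have hΦ : pr (Φ.trans (MulAut.conjNormal σ)) ⟨s, hs⟩ = r := hσ
  clear hσ
  generalize Φ.trans (MulAut.conjNormal σ) = Ψ at hz3 hΦ
  obtain ⟨c, hc1, hc⟩ := br_ne (Φ := Ψ) hperf h3
  rcases hr with rfl | rfl | rfl | rfl | rfl | rfl | rfl | rfl
  · apply six
    have h6 := hz3 _ hΦ
    have h7 : (⟨s, hs⟩ : P) ^ 6 = 1 := by
      rw [show 6 = 3 * 2 by norm_num, pow_mul, h6, one_pow]
    exact congrArg Subtype.val h7
  · apply six
    have h6 := cube_one hperf h3 hc hc1 hΦ r3_pow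
    rw [show 6 = 3 * 2 by norm_num, pow_mul]
    change ((⟨s, hs⟩ : P) : GL (Fin 3) F) ^ 3 = 1 at h6
    change (s ^ 3) ^ 2 = 1
    rw [h6, one_pow]
  · apply six
    have h6 := hz3 ((⟨s, hs⟩ : P) ^ 2) (by rw [map_pow, hΦ, r22_pow])
    have h7 : (⟨s, hs⟩ : P) ^ 6 = 1 := by
      rw [show 6 = 2 * 3 by norm_num, pow_mul, h6]
    exact congrArg Subtype.val h7
  · apply six
    have hbr : Br Ψ r33 r3' c := by
      have h8 := hc.mul_left (Br.self (Φ := Ψ) r3')
      rwa [mul_one, ← r33_eq] at h8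
    have h6 := cube_one hperf h3 hbr hc1 hΦ r33_pow
    rw [show 6 = 3 * 2 by norm_num, pow_mul]
    change ((⟨s, hs⟩ : P) : GL (Fin 3) F) ^ 3 = 1 at h6
    change (s ^ 3) ^ 2 = 1
    rw [h6, one_pow]
  · -- order four
    obtain ⟨d, z, hd, hz, hzc⟩ := lift_up_to hperf Ψ (a := ⟨s, hs⟩) (b := (⟨s, hs⟩ : P)⁻¹) (y := y4)
      (by rw [map_inv, hΦ, y4_r42])
    have h12 := hz3 ((⟨s, hs⟩ : P) ^ 4) (by rw [map_pow, hΦ, r42_pow])
    generalize ha : (⟨s, hs⟩ : P) = a at *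
    have hsa : s = a := by rw [← ha]
    have h4 : d * a ^ 4 * d⁻¹ = z ^ 4 * a⁻¹ ^ 4 := by
      rw [← (show Commute z a⁻¹ from (hzc _).symm).mul_pow, ← hd, conj_pow]
    have hcen : d * a ^ 4 = a ^ 4 * d := by
      have h5 : pr Ψ (a ^ 4) = 1 := by rw [map_pow, hΦ, r42_pow]
      exact Subgroup.mem_center_iff.1 (scalars_le_center ((pr_eq_one Ψ).1 h5)) d
    have hz1 : z = a ^ 8 := by
      rw [hcen, mul_inv_cancel_right, show z ^ 4 = z by rw [pow_succ, hz, one_mul]] at h4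
      rw [eq_mul_inv_of_mul_eq (show z * a⁻¹ ^ 4 = a ^ 4 from h4.symm)]
      group
    have h7 : d * a ^ 5 * d⁻¹ = a⁻¹ := by
      have h8 : d * a ^ 5 * d⁻¹ = (a ^ 4) ^ 3 * (a ^ 4) ^ 3 * (a ^ 4) ^ 3 * a⁻¹ := by
        rw [← conj_pow, hd, hz1]
        have : a ^ 8 * a⁻¹ = a ^ 7 := by group
        rw [this]; group
      rw [h8, h12]; simp
    rw [hsa]
    have h9 := congrArg Subtype.val h7
    rw [← trace_conj d (a ^ 5 : GL (Fin 3) F)]
    congr 2
  · -- order six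
    apply six
    have hbr : Br Ψ (r322 ^ 2) r3' c⁻¹ := by
      rw [r322_sq]; exact hc.inv_left
    have h6 := cube_one hperf h3 hbr (fun h => hc1 (inv_eq_one.1 h)) (a := ⟨s, hs⟩ ^ 2)
      (by rw [map_pow, hΦ]) (by rw [r322_sq, inv_pow, r3_pow, inv_one])
    rw [show 6 = 2 * 3 by norm_num, pow_mul]
    exact h6
  · -- order seven
    obtain ⟨d, z, hd, hz, hzc⟩ := lift_up_to hperf Ψ (a := ⟨s, hs⟩) (b := (⟨s, hs⟩ : P) ^ 2) (y := y7)
      (by rw [map_pow, hΦ, y7_r7])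
    have h12 := hz3 ((⟨s, hs⟩ : P) ^ 7) (by rw [map_pow, hΦ, r7_pow])
    generalize ha : (⟨s, hs⟩ : P) = a at *
    have hsa : s = a := by rw [← ha]
    have h4 : d * a ^ 7 * d⁻¹ = z ^ 7 * (a ^ 2) ^ 7 := by
      rw [← (show Commute z (a ^ 2) from (hzc _).symm).mul_pow, ← hd, conj_pow]
    have hcen : d * a ^ 7 = a ^ 7 * d := by
      have h5 : pr Ψ (a ^ 7) = 1 := by rw [map_pow, hΦ, r7_pow]
      exact Subgroup.mem_center_iff.1 (scalars_le_center ((pr_eq_one Ψ).1 h5)) d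
    have hz1 : z = a⁻¹ ^ 7 := by
      rw [hcen, mul_inv_cancel_right, show z ^ 7 = z by
        rw [show 7 = 3 * 2 + 1 by norm_num, pow_succ, pow_mul, hz, one_pow, one_mul]] at h4
      rw [eq_mul_inv_of_mul_eq (show z * (a ^ 2) ^ 7 = a ^ 7 from h4.symm)]
      group
    have hk : ∀ k : ℤ, d * a ^ k * d⁻¹ = a ^ (-5 * k) := by
      intro k
      rw [← conj_zpow, hd, hz1]
      have : a⁻¹ ^ 7 * a ^ 2 = a ^ (-5 : ℤ) := by group
      rw [this, zpow_mul]
    have h7 : (d * d) * a ^ 5 * (d * d)⁻¹ = a⁻¹ := by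
      have h8 : (d * d) * a ^ 5 * (d * d)⁻¹ = d * (d * a ^ (5 : ℤ) * d⁻¹) * d⁻¹ := by
        rw [mul_inv_rev]
        group
      rw [h8, hk, hk]
      have : (-5 * (-5 * 5) : ℤ) = 7 * 3 * 6 + (-1) := by norm_num
      rw [this, zpow_add, zpow_mul, zpow_mul]
      have h13 : (a ^ (7 : ℤ)) ^ (3 : ℤ) = 1 := by exact_mod_cast h12
      rw [h13]; simp
    rw [hsa]
    have h9 := congrArg Subtype.val h7
    rw [← trace_conj (d * d : GL (Fin 3) F) (a ^ 5 : GL (Fin 3) F)]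
    congr 2
  · -- order five
    exfalso
    have h1 : orderOf r5 = 5 := orderOf_eq_prime r5_pow r5_ne
    have h2 := orderOf_quot_dvd Ψ ⟨s, hs⟩
    have h6 : Ψ (QuotientGroup.mk ⟨s, hs⟩) = r5 := hΦ
    rw [h6, h1] at h2
    have h7 := Nat.Coprime.eq_one_of_dvd (Nat.coprime_comm.1 hcop) h2
    omega

end Cfsg.Agent.H890.Y3
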