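import Cfsg.Agent.StdAlt.Six.Aut
import Cfsg.Agent.OddHalf.D5.SixAut.Theta
import Cfsg.Agent.H890.B3Act
import Cfsg.Agent.H890.Y3Seven

/-!
Extensions of `A₆` in dimension three (helper890).
-/

set_option autoImplicit false
set_option linter.unusedSectionVars false

namespace Cfsg.Agent.H890.B3

open Cfsg.Geo Cfsg.Agent.H907 Cfsg.Agent.H906 Cfsg.Agent.H890.Y1
open scoped Matrix MatrixGroups

section General

variable {F : Type*} [Field F] {P : Subgroup (GL (Fin 3) F)} {Γ : Type*} [Group Γ]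
  {Φ : (P ⧸ (scalars (Fin 3) F).subgroupOf P) ≃* Γ}

/-- Two commuting elements `a`, `b` of order three with `g : a ↦ b ↦ a⁻¹`: the lifts of `a` and `b`
do not commute. -/
theorem br_ne_of (hperf : ⁅P, P⁆ = P) (h3 : (3 : F) ≠ 0) {r3 r3' g4 : Γ} (hcomm' : r3 * r3' = r3' * r3)
    (r3_pow : r3 ^ 3 = 1) (r3'_pow : r3' ^ 3 = 1) (g4_r3 : g4 * r3 * g4⁻¹ = r3') (g4_r3' : g4 * r3' * g4⁻¹ = r3⁻¹)
    (g4_sq : g4 ^ 2 * r3 ≠ r3 * g4 ^ 2) (g4_cu : g4 ^ 3 * r3 ≠ r3 * g4 ^ 3) :
    ∃ c : Fˣ, c ≠ 1 ∧ Br Φ r3 r3' c := by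
  obtain ⟨c, hc⟩ := Br.exists_of_comm (Φ := Φ) hcomm'
  refine ⟨c, ?_, hc⟩
  rintro rfl
  have h1 : ∀ s ∈ ({r3, r3'} : Set Γ), ∀ t ∈ ({r3, r3'} : Set Γ), Br Φ s t 1 := by
    intro s hs t ht
    rcases hs with rfl | hs <;> rcases ht with rfl | ht
    · exact Br.self _
    · rw [Set.mem_singleton_iff.1 ht]; exact hc
    · rw [Set.mem_singleton_iff.1 hs]
      have := hc.symm
      rwa [inv_one] at this
    · rw [Set.mem_singleton_iff.1 hs, Set.mem_singleton_iff.1 ht]; exact Br.self _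
  have h2 := br_closure h1
  have hcomm : ∀ s ∈ Subgroup.closure ({r3, r3'} : Set Γ), ∀ t ∈ Subgroup.closure ({r3, r3'} : Set Γ),
      s * t = t * s := by
    intro s hs t ht
    obtain ⟨a, ha⟩ := pr_surjective Φ s
    obtain ⟨b, hb⟩ := pr_surjective Φ t
    have h4 := (h2 s hs t ht).comm_of_one ha hb
    have h5 : a * b = b * a := Subtype.ext h4
    rw [← ha, ← hb, ← map_mul, h5, map_mul]
  have hcube : ∀ e ∈ Subgroup.closure ({r3, r3'} : Set Γ), e ^ 3 = 1 := by
    intro e he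
    induction he using Subgroup.closure_induction with
    | mem x hx =>
      rcases hx with rfl | hx
      · exact r3_pow
      · rw [Set.mem_singleton_iff.1 hx]; exact r3'_pow
    | one => exact one_pow 3
    | mul x y hx hy h h' => rw [(show Commute x y from hcomm x hx y hy).mul_pow, h, h', mul_one]
    | inv x _ h => rw [inv_pow, h, inv_one]
  have hr3 : r3 ∈ Subgroup.closure ({r3, r3'} : Set Γ) := Subgroup.subset_closure (Or.inl rfl)
  have hr3' : r3' ∈ Subgroup.closure ({r3, r3'} : Set Γ) := Subgroup.subset_closure (Or.inr rfl)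
  have hg : ∀ e ∈ Subgroup.closure ({r3, r3'} : Set Γ), g4 * e * g4⁻¹ ∈ Subgroup.closure ({r3, r3'} : Set Γ) := by
    have : Subgroup.closure ({r3, r3'} : Set Γ) ≤
        (Subgroup.closure ({r3, r3'} : Set Γ)).comap (MulAut.conj g4).toMonoidHom := by
      rw [Subgroup.closure_le]
      intro x hx
      change g4 * x * g4⁻¹ ∈ Subgroup.closure ({r3, r3'} : Set Γ)
      rcases hx with rfl | hx
      · rw [g4_r3]; exact hr3'
      · rw [Set.mem_singleton_iff.1 hx, g4_r3']; exact inv_mem hr3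
    exact fun e he => this he
  have hg' : ∀ e ∈ Subgroup.closure ({r3, r3'} : Set Γ), g4⁻¹ * e * g4 ∈ Subgroup.closure ({r3, r3'} : Set Γ) := by
    have : Subgroup.closure ({r3, r3'} : Set Γ) ≤
        (Subgroup.closure ({r3, r3'} : Set Γ)).comap (MulAut.conj g4⁻¹).toMonoidHom := by
      rw [Subgroup.closure_le]
      intro x hx
      change g4⁻¹ * x * g4⁻¹⁻¹ ∈ Subgroup.closure ({r3, r3'} : Set Γ)
      rcases hx with rfl | hx
      · have h5 : g4⁻¹ * x * g4⁻¹⁻¹ = r3'⁻¹ := by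
          have := congrArg (fun z => g4⁻¹ * z⁻¹ * g4) g4_r3'
          simp only [inv_inv, mul_inv_rev] at this
          rw [inv_inv, ← this]
          group
        rw [h5]; exact inv_mem hr3'
      · have h5 : g4⁻¹ * r3' * g4⁻¹⁻¹ = r3 := by
          rw [← g4_r3]; group
        rw [Set.mem_singleton_iff.1 hx, h5]; exact hr3
    intro e he
    have h6 := this he
    change g4⁻¹ * e * g4⁻¹⁻¹ ∈ Subgroup.closure ({r3, r3'} : Set Γ) at h6
    rwa [inv_inv] at h6
  rcases sq_or_cube_br (le_specialLinear hperf) h2 (n := 3) (by exact_mod_cast h3) hcube hg hg' with h | h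
  · exact g4_sq (h _ hr3)
  · exact g4_cu (h _ hr3)

/-- A commutator scalar is not its own inverse. -/
theorem br_inv_false {e f : Γ} {c : Fˣ} (hc : c ≠ 1) (h : Br Φ e f c) (h' : Br Φ e f c⁻¹) : False := by
  have h1 := h.unique h'
  have h2 := h.pow_three
  have h3 : c ^ 2 = 1 := by
    rw [sq]
    nth_rewrite 1 [h1]
    exact inv_mul_cancel c
  apply hc
  have : c ^ 3 = c ^ 2 * c := pow_succ c 2
  rw [this, h3, one_mul] at h2
  exact h2

end General

section Six

open Equiv Equiv.Perm Cfsg.Agent.StdAlt.Six Cfsg.Agent.OddHalf.D5.SixAut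

def e6 : A6 := ⟨c[0, 1, 2], mem_alternatingGroup.2 (by decide)⟩
def f6 : A6 := ⟨c[3, 4, 5], mem_alternatingGroup.2 (by decide)⟩
def g6 : A6 := ⟨c[0, 3, 1, 4] * c[2, 5], mem_alternatingGroup.2 (by decide)⟩
def x5 : A6 := ⟨c[0, 1, 2, 3, 4], mem_alternatingGroup.2 (by decide)⟩
def k1 : A6 := ⟨c[1, 3, 5, 4, 2], mem_alternatingGroup.2 (by decide)⟩
def k5 : A6 := ⟨c[1, 5, 4], mem_alternatingGroup.2 (by decide)⟩
def s01 : Perm (Fin 6) := swap 0 1

/-- `θ` on `A₆`. -/
def thA : MulAut A6 where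
  toFun x := ⟨θ x, mem_alternatingGroup.2 (by rw [sign_θ]; exact x.2)⟩
  invFun x := ⟨θ x, mem_alternatingGroup.2 (by rw [sign_θ]; exact x.2)⟩
  left_inv x := Subtype.ext (θ_θ _)
  right_inv x := Subtype.ext (θ_θ _)
  map_mul' x y := Subtype.ext (map_mul θ _ _)

theorem thA_coe (x : A6) : (thA x : Perm (Fin 6)) = θ x := rfl

/-- Automorphisms of `A₆` not induced by permutations. -/
theorem eq_theta {α : MulAut A6} (h : ¬ NS α) :
    ∃ τ : Perm (Fin 6), ∀ x : A6, (α x : Perm (Fin 6)) = τ * θ x * τ⁻¹ := by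
  have h3 : (e6 : Perm (Fin 6)).IsThreeCycle := by
    rw [← three_iff]; decide +kernel
  have hne : α e6 ≠ 1 := fun h1 => by
    have h2 := α.injective (h1.trans (map_one α).symm)
    exact absurd h2 (by decide +kernel)
  have hcube : (α e6 : Perm (Fin 6)) * (α e6) * (α e6) = 1 := by
    have h1 : α e6 * α e6 * α e6 = 1 := by
      rw [← map_mul, ← map_mul]
      have : e6 * e6 * e6 = 1 := by decide +kernel
      rw [this, map_one]
    exact congrArg Subtype.val h1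
  rcases cube_cases _ hcube (fun h1 => hne (Subtype.ext h1)) with h1 | ⟨-, w, hw, hw'⟩
  · exact absurd (ns_of_three h3 ((three_iff _).1 h1)) h
  · have hα : (α e6 : Perm (Fin 6)) = w * t0 * w⁻¹ := by rw [hw']; group
    have h4 : ((thA * α) e6 : Perm (Fin 6)).IsThreeCycle := by
      rw [MulAut.mul_apply, thA_coe, hα, map_mul, map_mul, map_inv, ← three_iff, mv_conj]
      decide +kernel
    obtain ⟨σ, hσ⟩ := ns_of_three h3 h4
    refine ⟨θ σ, fun x => ?_⟩
    have h5 := congrArg θ (hσ x)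
    rw [MulAut.mul_apply, thA_coe, θ_θ, map_mul, map_mul, map_inv] at h5
    exact h5

theorem x5_order : orderOf x5 = 5 :=
  orderOf_eq_prime (hp := ⟨by norm_num⟩) (by decide +kernel) (by decide +kernel)

variable {F : Type*} [Field F] {Hh P : Subgroup (GL (Fin 3) F)} {H : Type*} [Group H] {π : Hh →* H}
  {Φ : (P ⧸ (scalars (Fin 3) F).subgroupOf P) ≃* A6}

theorem br_six (hC : PreCore Hh P) (h3 : (3 : F) ≠ 0) : ∃ c : Fˣ, c ≠ 1 ∧ Br Φ e6 f6 c :=
  br_ne_of hC.perfect h3 (g4 := g6) (by decide +kernel) (by decide +kernel) (by decide +kernel)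
    (by decide +kernel) (by decide +kernel) (by decide +kernel) (by decide +kernel)

/-- Automorphisms induced by permutations are inner. -/
theorem six_inner (hC : PreCore Hh P) (h3 : (3 : F) ≠ 0) {h : GL (Fin 3) F} (hh : h ∈ Hh) {α : MulAut A6}
    (hα : Induces Φ h α) (hns : NS α) : ∃ g, α = MulAut.conj g := by
  obtain ⟨σ, hσ⟩ := hns
  rcases Int.units_eq_one_or (sign σ) with hs | hs
  · exact ⟨⟨σ, hs⟩, MulEquiv.ext fun x => Subtype.ext (hσ x)⟩
  · exfalso
    have hmem : s01 * σ⁻¹ ∈ alternatingGroup (Fin 6) := by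
      rw [mem_alternatingGroup, map_mul, map_inv, hs]
      decide
    obtain ⟨k, hk⟩ := Cfsg.Agent.H906.pr_surjective Φ ⟨s01 * σ⁻¹, hmem⟩
    have h1 := (induces_conj (Φ := Φ) k).mul hα hC hh
    have h2 : ∀ x : A6, (((MulAut.conj (pr Φ k) * α : MulAut A6) x : A6) : Perm (Fin 6)) = s01 * x * s01⁻¹ := by
      intro x
      rw [MulAut.mul_apply, MulAut.conj_apply, hk]
      show s01 * σ⁻¹ * (α x : Perm (Fin 6)) * (s01 * σ⁻¹)⁻¹ = _
      rw [hσ]
      group
    obtain ⟨c, hc1, hc⟩ := br_six (Φ := Φ) hC h3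
    have h4 := h1.br hC (Hh.mul_mem (hC.le k.2) hh) hc
    have e1 : (MulAut.conj (pr Φ k) * α : MulAut A6) e6 = e6⁻¹ := by
      apply Subtype.ext
      rw [h2]
      decide +kernel
    have e2 : (MulAut.conj (pr Φ k) * α : MulAut A6) f6 = f6 := by
      apply Subtype.ext
      rw [h2]
      decide +kernel
    rw [e1, e2] at h4
    exact br_inv_false (fun h => hc1 (inv_eq_one.1 h)) hc.inv_left (by rw [inv_inv]; exact h4)

/-- The other automorphisms need characteristic five. -/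
theorem six_five (hC : PreCore Hh P) (h3 : (3 : F) ≠ 0) (h5 : (5 : F) ≠ 0) {h : GL (Fin 3) F} (hh : h ∈ Hh)
    {α : MulAut A6} (hα : Induces Φ h α) : NS α := by
  by_contra hns
  obtain ⟨τ, hτ⟩ := eq_theta hns
  rcases Int.units_eq_one_or (sign τ) with hs | hs
  · have hmem : (k1 : Perm (Fin 6)) * τ⁻¹ ∈ alternatingGroup (Fin 6) := by
      rw [mem_alternatingGroup, map_mul, map_inv, hs]
      decide
    obtain ⟨k, hk⟩ := Cfsg.Agent.H906.pr_surjective Φ ⟨k1 * τ⁻¹, hmem⟩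
    have h1 := (induces_conj (Φ := Φ) k).mul hα hC hh
    have h2 : ∀ x : A6, (((MulAut.conj (pr Φ k) * α : MulAut A6) x : A6) : Perm (Fin 6)) =
        (k1 : Perm (Fin 6)) * θ x * (k1 : Perm (Fin 6))⁻¹ := by
      intro x
      rw [MulAut.mul_apply, MulAut.conj_apply, hk]
      show k1 * τ⁻¹ * (α x : Perm (Fin 6)) * (k1 * τ⁻¹)⁻¹ = _
      rw [hτ]
      group
    obtain ⟨c, hc1, hc⟩ := br_six (Φ := Φ) hC h3
    have h4 := h1.br hC (Hh.mul_mem (hC.le k.2) hh) hc
    have e1 : (MulAut.conj (pr Φ k) * α : MulAut A6) e6 = e6 * f6 ^ 2 := by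
      apply Subtype.ext
      rw [h2]
      decide +kernel
    have e2 : (MulAut.conj (pr Φ k) * α : MulAut A6) f6 = e6 * f6 := by
      apply Subtype.ext
      rw [h2]
      decide +kernel
    rw [e1, e2] at h4
    have hee := Br.self (Φ := Φ) e6
    have hff := Br.self (Φ := Φ) f6
    have h6 : Br Φ (e6 * f6 ^ 2) (e6 * f6) c⁻¹ := by
      have h7 : Br Φ e6 (e6 * f6) c := by
        have := hee.mul_right hc
        rwa [one_mul] at this
      have h8 : Br Φ f6 (e6 * f6) c⁻¹ := by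
        have := hc.symm.mul_right hff
        rwa [mul_one] at this
      have h9 := h7.mul_left (h8.pow_left 2)
      have h10 : c * c⁻¹ ^ 2 = c⁻¹ := by rw [sq, ← mul_assoc, mul_inv_cancel, one_mul]
      rwa [h10] at h9
    exact br_inv_false hc1 h4 h6
  · have hmem : (k5 : Perm (Fin 6)) * s01 * τ⁻¹ ∈ alternatingGroup (Fin 6) := by
      rw [mem_alternatingGroup, map_mul, map_mul, map_inv, hs]
      decide
    obtain ⟨k, hk⟩ := Cfsg.Agent.H906.pr_surjective Φ ⟨k5 * s01 * τ⁻¹, hmem⟩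
    have h1 := (induces_conj (Φ := Φ) k).mul hα hC hh
    rcases lemmaR' hC (r := 5) (by norm_num) (by norm_num) (by exact_mod_cast h5) x5_order
      (Hh.mul_mem (hC.le k.2) hh) h1 (k := 2) (by
        apply Subtype.ext
        rw [MulAut.mul_apply, MulAut.conj_apply, hk]
        show k5 * s01 * τ⁻¹ * (α x5 : Perm (Fin 6)) * (k5 * s01 * τ⁻¹)⁻¹ = (x5 : Perm (Fin 6)) ^ 2
        rw [hτ]
        have h6 : (k5 : Perm (Fin 6)) * s01 * θ x5 * (k5 * s01)⁻¹ = (x5 : Perm (Fin 6)) ^ 2 := by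
          decide +kernel
        rw [← h6]
        group) with h2 | h2 <;>
    norm_num at h2

/-- `p ≠ 5`: the group is `A₆`. -/
theorem six_ne_five (hπ : Pres Hh π) (hC : PreCore Hh P) (h3 : (3 : F) ≠ 0) (h5 : (5 : F) ≠ 0)
    (Φ : (P ⧸ (scalars (Fin 3) F).subgroupOf P) ≃* A6) : Nonempty (H ≃* A6) :=
  equiv_of_inner hπ hC Φ fun _ hh _ hα => six_inner hC h3 hh hα (six_five hC h3 h5 hh hα)

theorem ns_mul_of_not {α β : MulAut A6} (hα : ¬ NS α) (hβ : ¬ NS β) : NS (α * β) := by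
  obtain ⟨τ, hτ⟩ := eq_theta hα
  obtain ⟨τ', hτ'⟩ := eq_theta hβ
  refine ⟨τ * θ τ', fun x => ?_⟩
  rw [MulAut.mul_apply, hτ, hτ', map_mul, map_mul, map_inv, θ_θ]
  group

/-- In general: index at most two. -/
theorem six_all (hπ : Pres Hh π) (hC : PreCore Hh P) (h3 : (3 : F) ≠ 0)
    (Φ : (P ⧸ (scalars (Fin 3) F).subgroupOf P) ≃* A6) :
    Nonempty (H ≃* A6) ∨ ∃ L : Subgroup H, L.index = 2 ∧ Nonempty (L ≃* A6) := by
  have hiff : ∀ h : Hh, ∀ α : MulAut A6, Induces Φ (h : GL (Fin 3) F) α → (π h ∈ coreSub π hC ↔ NS α) := by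
    intro h α hα
    rw [mem_coreSub hπ hC]
    constructor
    · rintro ⟨k, hk, hs⟩
      have h1 := (hπ.ker (⟨k, hC.le hk⟩⁻¹ * h)).2 hs
      have h2 : Induces Φ (k : GL (Fin 3) F) (MulAut.conj (pr Φ ⟨k, hk⟩)) := induces_conj (⟨k, hk⟩ : P)
      have h3 : Induces Φ (k⁻¹ * (h : GL (Fin 3) F)) 1 := by
        intro a b hab
        obtain ⟨s, hs'⟩ := (mem_scalars_iff _).1 hs
        have : (b : GL (Fin 3) F) = a := by
          rw [hab, mul_inv_eq_iff_eq_mul]
          apply Units.ext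
          rw [Units.val_mul (k⁻¹ * (h : GL (Fin 3) F)), Units.val_mul (a : GL (Fin 3) F), hs', Matrix.smul_mul,
            Matrix.mul_smul, Matrix.one_mul, Matrix.mul_one]
        rw [Subtype.ext this]
        rfl
      have h4 := h2.mul h3 hC (Hh.mul_mem (Hh.inv_mem (hC.le hk)) h.2)
      rw [mul_inv_cancel_left, mul_one] at h4
      rw [hα.unique h4 hC h.2]
      exact NS.conj _
    · intro hns
      obtain ⟨g, rfl⟩ := six_inner hC h3 h.2 hα hns
      obtain ⟨k, -, hk⟩ := hα.of_inner hC h.2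
      exact ⟨k, k.2, hk⟩
  by_cases htop : coreSub π hC = ⊤
  · left
    refine equiv_of_coreSub_top hπ hC Φ fun h hh => ?_
    rw [← mem_coreSub hπ hC ⟨h, hh⟩, htop]
    exact Subgroup.mem_top _
  · right
    obtain ⟨e⟩ := coreSub_equiv hπ hC
    refine ⟨coreSub π hC, ?_, ⟨e.trans Φ⟩⟩
    obtain ⟨a, ha⟩ : ∃ a, a ∉ coreSub π hC := by
      by_contra hcon
      push Not at hcon
      exact htop ((Subgroup.eq_top_iff' _).2 hcon)
    rw [Subgroup.index_eq_two_iff]
    refine ⟨a, fun b => ?_⟩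
    obtain ⟨a', rfl⟩ := hπ.surj a
    obtain ⟨b', rfl⟩ := hπ.surj b
    obtain ⟨α, hα⟩ := exists_induces Φ hC a'.2
    obtain ⟨β, hβ⟩ := exists_induces Φ hC b'.2
    have h1 := hβ.mul hα hC a'.2
    have h2 : π b' * π a' ∈ coreSub π hC ↔ NS (β * α) := by
      rw [← map_mul]
      exact hiff (b' * a') _ h1
    rw [hiff a' α hα] at ha
    rw [h2, hiff b' β hβ]
    by_cases hb : NS β
    · right
      refine ⟨hb, fun h3 => ha ?_⟩
      have h4 := hb.inv.mul h3
      rwa [inv_mul_cancel_left] at h4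
    · exact Or.inl ⟨ns_mul_of_not hb ha, hb⟩

end Six

end Cfsg.Agent.H890.B3
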