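import Mathlib

/-!
# The 126 lines of the Mitchell group (helper890)

`F⁶`, `ω ∈ F` with `ω² + ω + 1 = 0`, `3 ≠ 0`: the lines spanned by `eᵢ - ωᵏ eⱼ` (45) and by `(ω^{a₀}, …, ω^{a₅})`,
`Σ aᵢ ≡ 0 mod 3` (81). A matrix over `ℤ[ω]` (up to a scalar) maps lines to lines as soon as a finite check succeeds.
-/

set_option autoImplicit false
set_option linter.unusedSectionVars false

namespace Cfsg.Agent.H890.K6

/-- Eisenstein integers `a + b ω` -/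
abbrev E := ℤ × ℤ

def mE (x y : E) : E := (x.1 * y.1 - x.2 * y.2, x.1 * y.2 + x.2 * y.1 - x.2 * y.2)

def nE (x : E) : ℤ := x.1 * x.1 - x.1 * x.2 + x.2 * x.2

def nz (x : E) : Bool := nE x == 1 || nE x == 3 || nE x == 9

/-- `ω ^ k` -/
def pwE (k : ℕ) : E := if k % 3 = 0 then (1, 0) else if k % 3 = 1 then (0, 1) else (-1, -1)

def negE (x : E) : E := (-x.1, -x.2)

def pairs : List (ℕ × ℕ) := [(0, 1), (0, 2), (0, 3), (0, 4), (0, 5), (1, 2), (1, 3), (1, 4), (1, 5), (2, 3), (2, 4),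
  (2, 5), (3, 4), (3, 5), (4, 5)]

/-- the coordinates of the 126 lines -/
def ln (n s : ℕ) : E :=
  if n < 45 then
    (if s = (pairs.getD (n / 3) (0, 0)).1 then (1, 0)
      else if s = (pairs.getD (n / 3) (0, 0)).2 then negE (pwE (n % 3)) else (0, 0))
  else
    (if s = 0 then (1, 0)
      else if s = 1 then pwE ((n - 45) % 3)
      else if s = 2 then pwE ((n - 45) / 3 % 3)
      else if s = 3 then pwE ((n - 45) / 9 % 3)
      else if s = 4 then pwE ((n - 45) / 27 % 3)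
      else pwE (2 * ((n - 45) % 3 + (n - 45) / 3 % 3 + (n - 45) / 9 % 3 + (n - 45) / 27 % 3)))

def addE (x y : E) : E := (x.1 + y.1, x.2 + y.2)

/-- row times vector -/
def dotE (M : ℕ → ℕ → E) (v : ℕ → E) (r : ℕ) : E :=
  addE (addE (addE (addE (addE (mE (M r 0) (v 0)) (mE (M r 1) (v 1))) (mE (M r 2) (v 2))) (mE (M r 3) (v 3)))
    (mE (M r 4) (v 4))) (mE (M r 5) (v 5))

def chk (M : ℕ → ℕ → E) (tab : List (E × ℕ)) : Bool :=
  (List.range 126).all fun n =>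
    decide ((tab.getD n ((0, 0), 0)).2 < 126) && nz (tab.getD n ((0, 0), 0)).1 &&
      (List.range 6).all fun r => dotE M (ln n) r == mE (tab.getD n ((0, 0), 0)).1 (ln (tab.getD n ((0, 0), 0)).2 r)

def ME_A (r s : ℕ) : E := if r = s then pwE (r / 2) else (0, 0)
def ME_B (r s : ℕ) : E := if r / 2 = (s / 2 + 1) % 3 ∧ r % 2 = s % 2 then (1, 0) else (0, 0)
def ME_K (r s : ℕ) : E :=
  if r / 2 = 0 ∨ s / 2 = 0 then (if r = s then (1, 0) else (0, 0))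
  else if r / 2 = s / 2 then (if r % 2 = 0 ∧ s % 2 = 1 then (0, 1) else if r % 2 = 1 ∧ s % 2 = 0 then (-1, -1) else (0, 0))
  else (0, 0)
def ME_G (r s : ℕ) : E :=
  if r % 2 = 0 ∧ s % 2 = 1 then negE (pwE (2 * (r / 2) * (s / 2)))
  else if r % 2 = 1 ∧ s % 2 = 0 then pwE (2 * (r / 2) * (s / 2)) else (0, 0)
def ME_D (r s : ℕ) : E := if r = s then (if r = 0 then (0, 1) else if r = 1 then (-1, -1) else (1, 0)) else (0, 0)

def tabA : List (E × ℕ) :=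
  [((1, 0), 0), ((1, 0), 1), ((1, 0), 2), ((1, 0), 4), ((1, 0), 5), ((1, 0), 3), ((1, 0), 7), ((1, 0), 8),
   ((1, 0), 6), ((1, 0), 11), ((1, 0), 9), ((1, 0), 10), ((1, 0), 14), ((1, 0), 12), ((1, 0), 13), ((1, 0), 16),
   ((1, 0), 17), ((1, 0), 15), ((1, 0), 19), ((1, 0), 20), ((1, 0), 18), ((1, 0), 23), ((1, 0), 21), ((1, 0), 22),
   ((1, 0), 26), ((1, 0), 24), ((1, 0), 25), ((0, 1), 27), ((0, 1), 28), ((0, 1), 29), ((0, 1), 31), ((0, 1), 32),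
   ((0, 1), 30), ((0, 1), 34), ((0, 1), 35), ((0, 1), 33), ((0, 1), 37), ((0, 1), 38), ((0, 1), 36), ((0, 1), 40),
   ((0, 1), 41), ((0, 1), 39), ((-1, -1), 42), ((-1, -1), 43), ((-1, -1), 44), ((1, 0), 111), ((1, 0), 112),
   ((1, 0), 113), ((1, 0), 114), ((1, 0), 115), ((1, 0), 116), ((1, 0), 108), ((1, 0), 109), ((1, 0), 110),
   ((1, 0), 120), ((1, 0), 121), ((1, 0), 122), ((1, 0), 123), ((1, 0), 124), ((1, 0), 125), ((1, 0), 117),
   ((1, 0), 118), ((1, 0), 119), ((1, 0), 102), ((1, 0), 103), ((1, 0), 104), ((1, 0), 105), ((1, 0), 106),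
   ((1, 0), 107), ((1, 0), 99), ((1, 0), 100), ((1, 0), 101), ((1, 0), 57), ((1, 0), 58), ((1, 0), 59),
   ((1, 0), 60), ((1, 0), 61), ((1, 0), 62), ((1, 0), 54), ((1, 0), 55), ((1, 0), 56), ((1, 0), 66), ((1, 0), 67),
   ((1, 0), 68), ((1, 0), 69), ((1, 0), 70), ((1, 0), 71), ((1, 0), 63), ((1, 0), 64), ((1, 0), 65), ((1, 0), 48),
   ((1, 0), 49), ((1, 0), 50), ((1, 0), 51), ((1, 0), 52), ((1, 0), 53), ((1, 0), 45), ((1, 0), 46), ((1, 0), 47),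
   ((1, 0), 84), ((1, 0), 85), ((1, 0), 86), ((1, 0), 87), ((1, 0), 88), ((1, 0), 89), ((1, 0), 81), ((1, 0), 82),
   ((1, 0), 83), ((1, 0), 93), ((1, 0), 94), ((1, 0), 95), ((1, 0), 96), ((1, 0), 97), ((1, 0), 98), ((1, 0), 90),
   ((1, 0), 91), ((1, 0), 92), ((1, 0), 75), ((1, 0), 76), ((1, 0), 77), ((1, 0), 78), ((1, 0), 79), ((1, 0), 80),
   ((1, 0), 72), ((1, 0), 73), ((1, 0), 74)]

def tabB : List (E × ℕ) :=
  [((1, 0), 27), ((1, 0), 28), ((1, 0), 29), ((1, 0), 30), ((1, 0), 31), ((1, 0), 32), ((1, 0), 33), ((1, 0), 34),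
   ((1, 0), 35), ((-1, 0), 3), ((0, -1), 5), ((1, 1), 4), ((-1, 0), 15), ((0, -1), 17), ((1, 1), 16),
   ((1, 0), 36), ((1, 0), 37), ((1, 0), 38), ((1, 0), 39), ((1, 0), 40), ((1, 0), 41), ((-1, 0), 6), ((0, -1), 8),
   ((1, 1), 7), ((-1, 0), 18), ((0, -1), 20), ((1, 1), 19), ((1, 0), 42), ((1, 0), 43), ((1, 0), 44),
   ((-1, 0), 9), ((0, -1), 11), ((1, 1), 10), ((-1, 0), 21), ((0, -1), 23), ((1, 1), 22), ((-1, 0), 12),
   ((0, -1), 14), ((1, 1), 13), ((-1, 0), 24), ((0, -1), 26), ((1, 1), 25), ((1, 0), 0), ((1, 0), 1), ((1, 0), 2),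
   ((1, 0), 45), ((1, 0), 56), ((1, 0), 64), ((1, 0), 74), ((1, 0), 82), ((1, 0), 90), ((1, 0), 100),
   ((1, 0), 108), ((1, 0), 119), ((1, 0), 47), ((1, 0), 55), ((1, 0), 63), ((1, 0), 73), ((1, 0), 81),
   ((1, 0), 92), ((1, 0), 99), ((1, 0), 110), ((1, 0), 118), ((1, 0), 46), ((1, 0), 54), ((1, 0), 65),
   ((1, 0), 72), ((1, 0), 83), ((1, 0), 91), ((1, 0), 101), ((1, 0), 109), ((1, 0), 117), ((0, 1), 124),
   ((0, 1), 105), ((0, 1), 116), ((0, 1), 69), ((0, 1), 53), ((0, 1), 61), ((0, 1), 98), ((0, 1), 79),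
   ((0, 1), 87), ((0, 1), 123), ((0, 1), 107), ((0, 1), 115), ((0, 1), 71), ((0, 1), 52), ((0, 1), 60),
   ((0, 1), 97), ((0, 1), 78), ((0, 1), 89), ((0, 1), 125), ((0, 1), 106), ((0, 1), 114), ((0, 1), 70),
   ((0, 1), 51), ((0, 1), 62), ((0, 1), 96), ((0, 1), 80), ((0, 1), 88), ((-1, -1), 86), ((-1, -1), 94),
   ((-1, -1), 75), ((-1, -1), 112), ((-1, -1), 120), ((-1, -1), 104), ((-1, -1), 57), ((-1, -1), 68),
   ((-1, -1), 49), ((-1, -1), 85), ((-1, -1), 93), ((-1, -1), 77), ((-1, -1), 111), ((-1, -1), 122),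
   ((-1, -1), 103), ((-1, -1), 59), ((-1, -1), 67), ((-1, -1), 48), ((-1, -1), 84), ((-1, -1), 95),
   ((-1, -1), 76), ((-1, -1), 113), ((-1, -1), 121), ((-1, -1), 102), ((-1, -1), 58), ((-1, -1), 66),
   ((-1, -1), 50)]

def tabK : List (E × ℕ) :=
  [((1, 0), 0), ((1, 0), 1), ((1, 0), 2), ((1, 0), 8), ((1, 0), 6), ((1, 0), 7), ((1, 0), 4), ((1, 0), 5),
   ((1, 0), 3), ((1, 0), 14), ((1, 0), 12), ((1, 0), 13), ((1, 0), 10), ((1, 0), 11), ((1, 0), 9), ((1, 0), 20),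
   ((1, 0), 18), ((1, 0), 19), ((1, 0), 16), ((1, 0), 17), ((1, 0), 15), ((1, 0), 26), ((1, 0), 24), ((1, 0), 25),
   ((1, 0), 22), ((1, 0), 23), ((1, 0), 21), ((0, -1), 28), ((1, 1), 27), ((-1, 0), 29), ((-1, -1), 39),
   ((-1, -1), 40), ((-1, -1), 41), ((-1, -1), 38), ((-1, -1), 36), ((-1, -1), 37), ((0, 1), 34), ((0, 1), 35),
   ((0, 1), 33), ((0, 1), 30), ((0, 1), 31), ((0, 1), 32), ((0, -1), 43), ((1, 1), 42), ((-1, 0), 44),
   ((1, 0), 93), ((1, 0), 67), ((1, 0), 122), ((1, 0), 48), ((1, 0), 103), ((1, 0), 77), ((1, 0), 111),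
   ((1, 0), 85), ((1, 0), 59), ((1, 0), 69), ((1, 0), 124), ((1, 0), 98), ((1, 0), 105), ((1, 0), 79),
   ((1, 0), 53), ((1, 0), 87), ((1, 0), 61), ((1, 0), 116), ((1, 0), 117), ((1, 0), 91), ((1, 0), 65),
   ((1, 0), 72), ((1, 0), 46), ((1, 0), 101), ((1, 0), 54), ((1, 0), 109), ((1, 0), 83), ((1, 0), 66),
   ((1, 0), 121), ((1, 0), 95), ((1, 0), 102), ((1, 0), 76), ((1, 0), 50), ((1, 0), 84), ((1, 0), 58),
   ((1, 0), 113), ((1, 0), 123), ((1, 0), 97), ((1, 0), 71), ((1, 0), 78), ((1, 0), 52), ((1, 0), 107),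
   ((1, 0), 60), ((1, 0), 115), ((1, 0), 89), ((1, 0), 90), ((1, 0), 64), ((1, 0), 119), ((1, 0), 45),
   ((1, 0), 100), ((1, 0), 74), ((1, 0), 108), ((1, 0), 82), ((1, 0), 56), ((1, 0), 120), ((1, 0), 94),
   ((1, 0), 68), ((1, 0), 75), ((1, 0), 49), ((1, 0), 104), ((1, 0), 57), ((1, 0), 112), ((1, 0), 86),
   ((1, 0), 96), ((1, 0), 70), ((1, 0), 125), ((1, 0), 51), ((1, 0), 106), ((1, 0), 80), ((1, 0), 114),
   ((1, 0), 88), ((1, 0), 62), ((1, 0), 63), ((1, 0), 118), ((1, 0), 92), ((1, 0), 99), ((1, 0), 73),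
   ((1, 0), 47), ((1, 0), 81), ((1, 0), 55), ((1, 0), 110)]

def tabG : List (E × ℕ) :=
  [((1, 0), 45), ((0, 1), 65), ((-1, -1), 55), ((2, 1), 40), ((1, -1), 26), ((2, 1), 19), ((1, 0), 78),
   ((0, 1), 98), ((-1, -1), 88), ((1, -1), 41), ((1, -1), 20), ((2, 1), 25), ((1, 0), 102), ((0, 1), 122),
   ((-1, -1), 112), ((-1, 0), 63), ((-1, 0), 46), ((-1, 0), 56), ((-2, -1), 31), ((-1, 1), 11), ((-2, -1), 4),
   ((-1, 0), 54), ((-1, 0), 64), ((-1, 0), 47), ((-1, 1), 32), ((-1, 1), 5), ((-2, -1), 10), ((1, 0), 96),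
   ((0, 1), 89), ((-1, -1), 79), ((-1, -2), 39), ((1, -1), 24), ((2, 1), 18), ((1, 0), 120), ((0, 1), 113),
   ((-1, -1), 103), ((-1, 0), 87), ((-1, 0), 97), ((-1, 0), 80), ((1, 2), 30), ((-1, 1), 9), ((-2, -1), 3),
   ((1, 0), 111), ((0, 1), 104), ((-1, -1), 121), ((-3, 0), 0), ((3, 0), 22), ((3, 0), 17), ((-1, 1), 92),
   ((-1, -2), 58), ((-1, 1), 125), ((-2, -1), 70), ((-2, -1), 94), ((1, 2), 101), ((3, 0), 15), ((0, -3), 2),
   ((3, 0), 23), ((-1, -2), 115), ((-1, -2), 82), ((2, 1), 48), ((-2, -1), 118), ((1, -1), 60), ((1, -1), 84),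
   ((3, 0), 21), ((3, 0), 16), ((3, 3), 1), ((-1, 1), 68), ((2, 1), 105), ((2, 1), 72), ((1, 2), 77),
   ((1, -1), 108), ((1, 2), 53), ((-1, 1), 83), ((-1, -2), 49), ((-1, 1), 116), ((-2, -1), 62), ((-2, -1), 86),
   ((1, 2), 117), ((-3, 0), 12), ((0, -3), 44), ((3, 3), 34), ((-1, -2), 106), ((-1, -2), 73), ((2, 1), 66),
   ((-2, -1), 110), ((1, -1), 52), ((1, -1), 76), ((-3, 0), 33), ((0, -3), 14), ((3, 3), 43), ((-1, 1), 59),
   ((2, 1), 123), ((2, 1), 90), ((1, 2), 93), ((1, -1), 100), ((1, 2), 69), ((-3, 0), 42), ((0, -3), 35),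
   ((3, 3), 13), ((-2, -1), 61), ((-2, -1), 85), ((1, 2), 119), ((-3, 0), 6), ((3, 0), 37), ((3, 3), 28),
   ((-1, 1), 91), ((-1, -2), 57), ((-1, 1), 124), ((-2, -1), 109), ((1, -1), 51), ((1, -1), 75), ((-3, 0), 27),
   ((0, -3), 8), ((3, 0), 38), ((-1, -2), 114), ((-1, -2), 81), ((2, 1), 50), ((1, 2), 95), ((1, -1), 99),
   ((1, 2), 71), ((3, 0), 36), ((0, -3), 29), ((3, 3), 7), ((-1, 1), 67), ((2, 1), 107), ((2, 1), 74)]

def tabD : List (E × ℕ) :=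
  [((0, 1), 1), ((0, 1), 2), ((0, 1), 0), ((0, 1), 5), ((0, 1), 3), ((0, 1), 4), ((0, 1), 8), ((0, 1), 6),
   ((0, 1), 7), ((0, 1), 11), ((0, 1), 9), ((0, 1), 10), ((0, 1), 14), ((0, 1), 12), ((0, 1), 13), ((-1, -1), 16),
   ((-1, -1), 17), ((-1, -1), 15), ((-1, -1), 19), ((-1, -1), 20), ((-1, -1), 18), ((-1, -1), 22), ((-1, -1), 23),
   ((-1, -1), 21), ((-1, -1), 25), ((-1, -1), 26), ((-1, -1), 24), ((1, 0), 27), ((1, 0), 28), ((1, 0), 29),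
   ((1, 0), 30), ((1, 0), 31), ((1, 0), 32), ((1, 0), 33), ((1, 0), 34), ((1, 0), 35), ((1, 0), 36), ((1, 0), 37),
   ((1, 0), 38), ((1, 0), 39), ((1, 0), 40), ((1, 0), 41), ((1, 0), 42), ((1, 0), 43), ((1, 0), 44),
   ((0, 1), 124), ((0, 1), 125), ((0, 1), 123), ((0, 1), 118), ((0, 1), 119), ((0, 1), 117), ((0, 1), 121),
   ((0, 1), 122), ((0, 1), 120), ((0, 1), 106), ((0, 1), 107), ((0, 1), 105), ((0, 1), 100), ((0, 1), 101),
   ((0, 1), 99), ((0, 1), 103), ((0, 1), 104), ((0, 1), 102), ((0, 1), 115), ((0, 1), 116), ((0, 1), 114),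
   ((0, 1), 109), ((0, 1), 110), ((0, 1), 108), ((0, 1), 112), ((0, 1), 113), ((0, 1), 111), ((0, 1), 70),
   ((0, 1), 71), ((0, 1), 69), ((0, 1), 64), ((0, 1), 65), ((0, 1), 63), ((0, 1), 67), ((0, 1), 68), ((0, 1), 66),
   ((0, 1), 52), ((0, 1), 53), ((0, 1), 51), ((0, 1), 46), ((0, 1), 47), ((0, 1), 45), ((0, 1), 49), ((0, 1), 50),
   ((0, 1), 48), ((0, 1), 61), ((0, 1), 62), ((0, 1), 60), ((0, 1), 55), ((0, 1), 56), ((0, 1), 54), ((0, 1), 58),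
   ((0, 1), 59), ((0, 1), 57), ((0, 1), 97), ((0, 1), 98), ((0, 1), 96), ((0, 1), 91), ((0, 1), 92), ((0, 1), 90),
   ((0, 1), 94), ((0, 1), 95), ((0, 1), 93), ((0, 1), 79), ((0, 1), 80), ((0, 1), 78), ((0, 1), 73), ((0, 1), 74),
   ((0, 1), 72), ((0, 1), 76), ((0, 1), 77), ((0, 1), 75), ((0, 1), 88), ((0, 1), 89), ((0, 1), 87), ((0, 1), 82),
   ((0, 1), 83), ((0, 1), 81), ((0, 1), 85), ((0, 1), 86), ((0, 1), 84)]

theorem chk_A : chk ME_A tabA = true := by decide +kernel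
theorem chk_B : chk ME_B tabB = true := by decide +kernel
theorem chk_K : chk ME_K tabK = true := by decide +kernel
theorem chk_G : chk ME_G tabG = true := by decide +kernel
theorem chk_D : chk ME_D tabD = true := by decide +kernel

theorem units_ln : ((List.range 126).all fun n => (List.range 6).all fun s => ln n s == (0, 0) || nE (ln n s) == 1) = true := by
  decide +kernel

theorem no_ln : ((List.range 126).all fun n =>
    !(ln n 0 != (0, 0) && ln n 1 != (0, 0) && ln n 2 != (0, 0) && ln n 4 == (0, 0))) = true := by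
  decide +kernel

section eval

variable {F : Type*} [Field F] {ω : F}

/-- evaluation at `ω` -/
def ev (ω : F) (x : E) : F := (x.1 : F) + (x.2 : F) * ω

theorem ev_add (x y : E) : ev ω (addE x y) = ev ω x + ev ω y := by
  simp only [ev, addE]; push_cast; ring

theorem ev_zero : ev ω (0, 0) = 0 := by simp [ev]

theorem ev_mul (hω : ω ^ 2 + ω + 1 = 0) (x y : E) : ev ω (mE x y) = ev ω x * ev ω y := by
  simp only [ev, mE]; push_cast
  linear_combination (-(x.2 : F) * (y.2 : F)) * hω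

theorem ev_norm (hω : ω ^ 2 + ω + 1 = 0) (x : E) : ev ω x * ev ω (x.1 - x.2, -x.2) = (nE x : F) := by
  simp only [ev, nE]; push_cast
  linear_combination (-(x.2 : F) * (x.2 : F)) * hω

theorem ev_ne_zero (hω : ω ^ 2 + ω + 1 = 0) (h3 : (3 : F) ≠ 0) {x : E} (h : nz x = true) : ev ω x ≠ 0 := by
  have h1 : nE x = 1 ∨ nE x = 3 ∨ nE x = 9 := by
    simpa [nz, or_assoc] using h
  intro h0
  have h2 := ev_norm hω x
  rw [h0, zero_mul] at h2
  rcases h1 with h1 | h1 | h1 <;> rw [h1] at h2 <;> push_cast at h2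
  · exact zero_ne_one h2
  · exact h3 h2.symm
  · apply h3
    have h4 : (3 : F) * 3 = 0 := by rw [h2]; norm_num
    rcases mul_eq_zero.1 h4 with h | h <;> exact h

/-- `v` spans one of the 126 lines -/
def IsLine (ω : F) (v : Fin 6 → F) : Prop := ∃ n < 126, ∃ c : F, c ≠ 0 ∧ ∀ s : Fin 6, v s = c * ev ω (ln n s)

theorem ev_dot (hω : ω ^ 2 + ω + 1 = 0) (M : ℕ → ℕ → E) (v : ℕ → E) (r : ℕ) :
    ev ω (dotE M v r) = ∑ s : Fin 6, ev ω (M r s) * ev ω (v s) := by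
  rw [Fin.sum_univ_six]
  simp only [dotE, ev_add, ev_mul hω]
  rfl

theorem isLine_mulVec (hω : ω ^ 2 + ω + 1 = 0) (h3 : (3 : F) ≠ 0) {M : ℕ → ℕ → E} {tab : List (E × ℕ)}
    (h : chk M tab = true) {g : Matrix (Fin 6) (Fin 6) F} {θ : F} (hθ : θ ≠ 0)
    (hg : ∀ r s : Fin 6, θ * g r s = ev ω (M r s)) {v : Fin 6 → F} (hv : IsLine ω v) : IsLine ω (g.mulVec v) := by
  obtain ⟨n, hn, c, hc, hv⟩ := hv
  have h1 := List.all_eq_true.1 h n (List.mem_range.2 hn)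
  simp only [Bool.and_eq_true, decide_eq_true_eq, List.all_eq_true, List.mem_range, beq_iff_eq] at h1
  obtain ⟨⟨h2, h4⟩, h5⟩ := h1
  refine ⟨_, h2, θ⁻¹ * (c * ev ω (tab.getD n ((0, 0), 0)).1), mul_ne_zero (inv_ne_zero hθ)
    (mul_ne_zero hc (ev_ne_zero hω h3 h4)), fun s => ?_⟩
  have h6 := congrArg (ev ω) (h5 s s.2)
  rw [ev_dot hω, ev_mul hω] at h6
  rw [mul_assoc, mul_assoc, ← h6, Matrix.mulVec, dotProduct, eq_inv_mul_iff_mul_eq₀ hθ, Finset.mul_sum, Finset.mul_sum]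
  apply Finset.sum_congr rfl
  intro x _
  rw [← hg, hv]
  ring

end eval

end Cfsg.Agent.H890.K6
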