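import Cfsg.Agent.H890.SpCore

/-!
S5712 (helper890), second case: a hyperbolic line with at least three points in `A`.
Then `A` contains all nonzero vectors, and for `|F| > 2` the group `L` contains all transvections.
-/

set_option autoImplicit false

namespace Cfsg.Agent.H890.SpCore

variable {F V : Type*} [Field F] [AddCommGroup V] [Module F V]

namespace Ctx

variable (S : Ctx F V)

/-- Coefficients of a vector in the hyperbolic plane `⟨a, b⟩` plus its orthogonal space. -/
theorem coef_eq {a b w : V} (hab : S.B a b = 1) (haw : S.B a w = 0) (hbw : S.B b w = 0)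
    (hw : w ≠ 0) {x y z x' y' z' : F}
    (h : x • a + y • b + z • w = x' • a + y' • b + z' • w) : x = x' ∧ y = y' ∧ z = z' := by
  have hba : S.B b a = 1 := by rw [S.symm, hab]
  have h1 := congrArg (S.B b) h
  have h2 := congrArg (S.B a) h
  simp only [S.add_right, S.smul_right, S.alt, hab, hba, haw, hbw] at h1 h2
  have hx : x = x' := by linear_combination h1
  have hy : y = y' := by linear_combination h2
  subst hx hy
  have h3 : z • w = z' • w := add_left_cancel h
  have h4 : (z - z') • w = 0 := by rw [sub_smul, h3, sub_self]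
  rcases smul_eq_zero.1 h4 with h5 | h5
  · exact ⟨rfl, rfl, sub_eq_zero.1 h5⟩
  · exact absurd h5 hw

/-- **Step 1**: a hyperbolic line with three points of `A` gives a perpendicular pair in `A`. -/
theorem exists_perp_pair [Finite F] {a b w : V} {t : F} (ha : S.A a) (hb : S.A b)
    (hb' : S.A (b + t • a)) (hab : S.B a b = 1) (ht : t ≠ 0) (hw : w ≠ 0)
    (haw : S.B a w = 0) (hbw : S.B b w = 0) :
    ∃ p r, S.A p ∧ S.A r ∧ S.B p r = 0 ∧ ∀ l : F, p ≠ l • r := by
  have hba : S.B b a = 1 := by rw [S.symm, hab]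
  have hwa : S.B w a = 0 := by rw [S.symm, haw]
  have hwb : S.B w b = 0 := by rw [S.symm, hbw]
  by_cases hD : ∃ m : F, m ≠ 0 ∧ S.Has a (m • w) 0
  · obtain ⟨m, hm, hH⟩ := hD
    have h1 := hb.move S hH
    rw [hba, S.smul_right, hbw] at h1
    have e : b + (1 : F) • m • w + (m * 0) • a + (0 * 1 : F) • a = b + m • w := by module
    rw [e] at h1
    refine ⟨b + m • w, b, h1, hb, ?_, ?_⟩
    · rw [S.add_left, S.smul_left, S.alt, hwb]; ring
    · intro l hl
      have h2 : (0 : F) • a + (1 : F) • b + m • w = (0 : F) • a + l • b + (0 : F) • w := by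
        have : (0 : F) • a + (1 : F) • b + m • w = b + m • w := by module
        rw [this, hl]; module
      exact hm (S.coef_eq hab haw hbw hw h2).2.2
  · push Not at hD
    obtain ⟨d, hd⟩ := hb.2 w hbw
    have h1 := ha.move S hd
    rw [hab, haw] at h1
    have e : a + (1 : F) • w + (0 : F) • b + (d * 1) • b = (1 : F) • a + d • b + (1 : F) • w := by
      module
    rw [e] at h1
    by_cases hd0 : d = 0
    · subst hd0
      refine ⟨_, a, h1, ha, ?_, ?_⟩
      · simp only [S.add_left, S.smul_left, S.alt, hwa]; ring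
      · intro l hl
        have h2 : (1 : F) • a + (0 : F) • b + (1 : F) • w = l • a + (0 : F) • b + (0 : F) • w := by
          rw [hl]; module
        exact one_ne_zero (S.coef_eq hab haw hbw hw h2).2.2
    · choose φ hφ using fun m : F => ha.2 (m • w) (by rw [S.smul_right, haw, mul_zero])
      have hinj : Function.Injective φ := by
        intro m m' hmm
        have h2 := (hφ m).mul S (by rw [S.smul_right, haw, mul_zero])
          (by rw [S.smul_right, haw, mul_zero]) (hφ m')
        rw [hmm, S.add_self, S.smul_left, S.smul_right, S.alt, mul_zero, mul_zero, add_zero,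
          ← add_smul] at h2
        by_contra hne
        exact hD _ (fun h0 => hne (S.eq_of_add_zero h0)) h2
      have hsurj : Function.Surjective φ := Finite.surjective_of_injective hinj
      obtain ⟨m, hm⟩ := hsurj d⁻¹
      obtain ⟨m', hm'⟩ := hsurj (d⁻¹ + t)
      have k1 := hb.move S (hφ m)
      rw [hba, S.smul_right, hbw, hm] at k1
      have e1 : b + (1 : F) • m • w + (m * 0) • a + (d⁻¹ * 1 : F) • a =
        d⁻¹ • a + (1 : F) • b + m • w := by module
      rw [e1] at k1
      have k2 := hb'.move S (hφ m')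
      rw [S.add_left, S.add_left, S.smul_left, S.smul_left, hba, S.alt, S.smul_right, S.smul_right,
        hbw, haw, hm'] at k2
      have e2 : b + t • a + (1 + t * 0 : F) • m' • w + (m' * 0 + t * (m' * 0)) • a +
          ((d⁻¹ + t) * (1 + t * 0) : F) • a =
        d⁻¹ • a + (1 : F) • b + m' • w + (t + t) • a := by module
      rw [e2, S.add_self, zero_smul, add_zero] at k2
      have hperp : ∀ μ : F, S.B ((1 : F) • a + d • b + (1 : F) • w) (d⁻¹ • a + (1 : F) • b + μ • w)
          = 0 := by
        intro μ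
        simp only [S.add_left, S.add_right, S.smul_left, S.smul_right, S.alt, hab, hba, haw, hwa,
          hbw, hwb]
        have h5 := mul_inv_cancel₀ hd0
        linear_combination h5 + S.two
      by_cases hi1 : ∀ l : F, (1 : F) • a + d • b + (1 : F) • w ≠ l • (d⁻¹ • a + (1 : F) • b + m • w)
      · exact ⟨_, _, h1, k1, hperp m, hi1⟩
      by_cases hi2 : ∀ l : F, (1 : F) • a + d • b + (1 : F) • w ≠ l • (d⁻¹ • a + (1 : F) • b + m' • w)
      · exact ⟨_, _, h1, k2, hperp m', hi2⟩
      exfalso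
      push Not at hi1 hi2
      obtain ⟨l, hl⟩ := hi1
      obtain ⟨l', hl'⟩ := hi2
      have c1 : (1 : F) • a + d • b + (1 : F) • w = (l * d⁻¹) • a + l • b + (l * m) • w := by
        rw [hl]; module
      have c2 : (1 : F) • a + d • b + (1 : F) • w = (l' * d⁻¹) • a + l' • b + (l' * m') • w := by
        rw [hl']; module
      obtain ⟨-, e4, e5⟩ := S.coef_eq hab haw hbw hw c1
      obtain ⟨-, e6, e7⟩ := S.coef_eq hab haw hbw hw c2
      rw [← e4] at e5
      rw [← e6] at e7
      have e8 : m = m' := mul_left_cancel₀ hd0 (by rw [← e5, ← e7])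
      rw [e8, hm'] at hm
      apply ht
      linear_combination hm

/-- The elementary elements on a perpendicular pair. -/
theorem exists_elem {a b : V} (ha : S.A a) (hab : S.B a b = 0)
    (hind : ∀ l : F, b ≠ l • a) (l : F) : ∃ x ∈ S.L, x a = a ∧ x b = b + l • a := by
  obtain ⟨w, hw1, hw2⟩ := S.exists_eq_two ha.1 hind 0 l
  obtain ⟨c, x, hx, hxv⟩ := ha.2 w hw1
  refine ⟨x, hx, ?_, ?_⟩
  · rw [hxv, S.alt, hw1]; module
  · have hba : S.B b a = 0 := by rw [S.symm, hab]
    rw [hxv, hba, hw2]; module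

/-- Weyl elements on a perpendicular pair. -/
theorem exists_weyl {a b : V} (ha : S.A a) (hb : S.A b) (hab : S.B a b = 0)
    (hind : ∀ l : F, a ≠ l • b) {l : F} (hl : l ≠ 0) :
    ∃ g ∈ S.L, g a = l⁻¹ • b ∧ g b = l • a := by
  have hba : S.B b a = 0 := by rw [S.symm, hab]
  have hind' := ind_symm hb.1 hind
  obtain ⟨x, hx, hxa, hxb⟩ := S.exists_elem ha hab hind' l
  obtain ⟨y, hy, hyb, hya⟩ := S.exists_elem hb hba hind l⁻¹
  refine ⟨x * y * x, S.L.mul_mem (S.L.mul_mem hx hy) hx, ?_, ?_⟩
  · show x (y (x a)) = _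
    rw [hxa, hya, map_add, map_smul, hxa, hxb, smul_add, smul_smul, inv_mul_cancel₀ hl, one_smul]
    have : a + (l⁻¹ • b + a) = (a + a) + l⁻¹ • b := by abel
    rw [this, S.vadd_self, zero_add]
  · show x (y (x b)) = _
    rw [hxb, map_add, map_smul, hyb, hya, smul_add, smul_smul, mul_inv_cancel₀ hl, one_smul]
    have : b + (l • a + b) = (b + b) + l • a := by abel
    rw [this, S.vadd_self, zero_add, map_smul, hxa]

/-- Torus elements on a perpendicular pair. -/
theorem exists_torus {a b : V} (ha : S.A a) (hb : S.A b) (hab : S.B a b = 0)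
    (hind : ∀ l : F, a ≠ l • b) {l : F} (hl : l ≠ 0) :
    ∃ g ∈ S.L, g a = l • a ∧ g b = l⁻¹ • b := by
  obtain ⟨g, hg, hga, hgb⟩ := S.exists_weyl ha hb hab hind hl
  obtain ⟨h, hh, hha, hhb⟩ := S.exists_weyl ha hb hab hind (one_ne_zero (α := F))
  rw [inv_one, one_smul] at hha
  rw [one_smul] at hhb
  refine ⟨g * h, S.L.mul_mem hg hh, ?_, ?_⟩
  · show g (h a) = _
    rw [hha, hgb]
  · show g (h b) = _
    rw [hhb, hga]

include S in
theorem exists_sq [Finite F] (x : F) : ∃ y : F, y ^ 2 = x := by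
  have : Fintype F := Fintype.ofFinite F
  have : CharP F 2 := CharTwo.of_one_ne_zero_of_two_eq_zero one_ne_zero S.two
  obtain ⟨y, hy⟩ := FiniteField.isSquare_of_char_two (ringChar.eq F 2) x
  exact ⟨y, by rw [hy, pow_two]⟩

theorem Has.torus {a b : V} (ha : S.A a) (hb : S.A b) (hab : S.B a b = 0)
    (hind : ∀ l : F, a ≠ l • b) {l : F} (hl : l ≠ 0) {w : V} {c : F} {m : F}
    (h : S.Has a (m • b) c) (hw : w = m • b) : S.Has a w (l ^ 2 * c) := by
  obtain ⟨g, hg, hga, hgb⟩ := S.exists_torus ha hb hab hind hl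
  have h1 := h.conj S hg
  have e : l • m • l⁻¹ • b = w := by
    rw [hw, smul_smul, smul_smul, mul_right_comm, mul_inv_cancel₀ hl, one_mul]
  rwa [hga, map_smul, hgb, Has.smul_iff, e] at h1

/-- **Step 4a**: one transvection at `a` gives all of them. -/
theorem Has.all [Finite F] {a b : V} (ha : S.A a) (hb : S.A b) (hab : S.B a b = 0)
    (hind : ∀ l : F, a ≠ l • b) {s : F} (hs : s ≠ 0) (h : S.Has a 0 s) (s' : F) :
    S.Has a 0 s' := by
  by_cases hs' : s' = 0
  · rw [hs']; exact Has.zero S a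
  obtain ⟨l, hl⟩ := S.exists_sq (s' * s⁻¹)
  have hl0 : l ≠ 0 := by
    rintro rfl
    rw [zero_pow two_ne_zero] at hl
    exact mul_ne_zero hs' (inv_ne_zero hs) hl.symm
  have h1 := Has.torus S ha hb hab hind hl0 (m := 0) (w := 0) (c := s) (by rwa [zero_smul])
    (by rw [zero_smul])
  rwa [hl, mul_assoc, inv_mul_cancel₀ hs, mul_one] at h1

/-- **Step 4b**: without transvections at `a`, `c` vanishes on the perpendicular vectors of `A`. -/
theorem Has.eq_zero {a b : V} (ha : S.A a) (hb : S.A b) (hab : S.B a b = 0)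
    (hind : ∀ l : F, a ≠ l • b) {l : F} (hl0 : l ≠ 0) (hl1 : l ≠ 1)
    (hT : ∀ s, S.Has a 0 s → s = 0) {m c : F} (h : S.Has a (m • b) c) : c = 0 := by
  have h1 := Has.torus S ha hb hab hind hl0 h rfl
  have h2 := hT _ (h.diff S (by rw [S.smul_right, hab, mul_zero]) h1)
  have h3 : (1 + l) ^ 2 * c = 0 := by linear_combination h2 + (l * c) * S.two
  rcases mul_eq_zero.1 h3 with h4 | h4
  · exfalso
    have h5 : 1 + l = 0 := pow_eq_zero_iff two_ne_zero |>.1 h4
    exact hl1 (S.eq_of_add_zero h5).symm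
  · exact h4

/-- **Step 5**: if `A` has perpendicular pairs, every nonzero `a` has a perpendicular independent
vector in `A`. -/
theorem exists_perp_of {p r a : V} (hp : S.A p) (hr : S.A r) (hpr : S.B p r = 0)
    (hind : ∀ l : F, p ≠ l • r) :
    ∃ x, S.A x ∧ S.B a x = 0 ∧ ∀ l : F, x ≠ l • a := by
  have hrp : S.B r p = 0 := by rw [S.symm, hpr]
  by_cases h0 : S.B a p = 0 ∧ S.B a r = 0
  · obtain ⟨h1, h2⟩ := h0
    by_cases hpa : ∀ l : F, p ≠ l • a
    · exact ⟨p, hp, h1, hpa⟩
    · push Not at hpa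
      obtain ⟨l, hl⟩ := hpa
      refine ⟨r, hr, h2, fun m hm => ?_⟩
      have hm0 : m ≠ 0 := by
        rintro rfl
        exact hr.1 (by rw [hm, zero_smul])
      apply hind (l * m⁻¹)
      rw [hm, smul_smul, mul_assoc, inv_mul_cancel₀ hm0, mul_one, hl]
  · have hne : S.B a r • p + S.B a p • r ≠ 0 := by
      intro h
      by_cases h1 : S.B a r = 0
      · rw [h1, zero_smul, zero_add] at h
        rcases smul_eq_zero.1 h with h2 | h2
        · exact h0 ⟨h2, h1⟩
        · exact hr.1 h2
      · apply hind ((S.B a r)⁻¹ * S.B a p)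
        have h2 := S.veq_of_add_zero h
        rw [mul_smul, ← h2, smul_smul, inv_mul_cancel₀ h1, one_smul]
    refine ⟨_, hp.span S hr hpr hind hne, ?_, ?_⟩
    · rw [S.add_right, S.smul_right, S.smul_right]
      linear_combination (S.B a r * S.B a p) * S.two
    · intro l hl
      have e1 : S.B p (S.B a r • p + S.B a p • r) = 0 := by
        rw [S.add_right, S.smul_right, S.smul_right, S.alt, hpr]; ring
      have e2 : S.B r (S.B a r • p + S.B a p • r) = 0 := by
        rw [S.add_right, S.smul_right, S.smul_right, S.alt, hrp]; ring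
      rw [hl, S.smul_right, S.symm p a] at e1
      rw [hl, S.smul_right, S.symm r a] at e2
      have hl0 : l ≠ 0 := by
        rintro rfl
        exact hne (by rw [hl, zero_smul])
      exact h0 ⟨(mul_eq_zero.1 e1).resolve_left hl0, (mul_eq_zero.1 e2).resolve_left hl0⟩

/-- **Step 5b**: a vector of `A` perpendicular to both members of a hyperbolic pair. -/
theorem exists_perp_two {p r a b : V} (hp : S.A p) (hr : S.A r) (hpr : S.B p r = 0)
    (hind : ∀ l : F, p ≠ l • r) (ha : S.A a) (hab : S.B a b = 1) :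
    ∃ y, S.A y ∧ S.B a y = 0 ∧ S.B b y = 0 ∧ ∀ l : F, y ≠ l • a := by
  obtain ⟨x, hx, hax, hxa⟩ := S.exists_perp_of (a := a) hp hr hpr hind
  have hba : S.B b a = 1 := by rw [S.symm, hab]
  have hxa' : S.B x a = 0 := by rw [S.symm, hax]
  refine ⟨x + S.B b x • a, hx.add_of_perp S ha hxa' hxa _, ?_, ?_, ?_⟩
  · rw [S.add_right, S.smul_right, S.alt, hax]; ring
  · rw [S.add_right, S.smul_right, hba]
    linear_combination (S.B b x) * S.two
  · intro l hl
    apply hxa (l + S.B b x)
    rw [add_smul, ← hl, add_assoc, S.vadd_self, add_zero]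

/-- **Steps 6 and 7**: for `|F| > 2`, all transvections with centre in `A` are in `L`. -/
theorem all_transvections [Finite F] {a b w : V} {t l : F} (ha : S.A a) (hb : S.A b)
    (hb' : S.A (b + t • a)) (hab : S.B a b = 1) (ht : t ≠ 0) (hw : w ≠ 0)
    (haw : S.B a w = 0) (hbw : S.B b w = 0) (hl0 : l ≠ 0) (hl1 : l ≠ 1) :
    ∀ x, S.A x → ∀ s, S.Has x 0 s := by
  obtain ⟨p, r, hp, hr, hpr, hind⟩ := S.exists_perp_pair ha hb hb' hab ht hw haw hbw
  obtain ⟨y, hy, hay, hby, hya⟩ := S.exists_perp_two hp hr hpr hind ha hab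
  have hya' : S.B y a = 0 := by rw [S.symm, hay]
  have hyb' : S.B y b = 0 := by rw [S.symm, hby]
  have hyb : ∀ l : F, y ≠ l • b := by
    intro l hl
    have h1 : S.B a y = l := by rw [hl, S.smul_right, hab, mul_one]
    rw [hay] at h1
    apply hy.1
    rw [hl, ← h1, zero_smul]
  have hbb' : S.B y (b + t • a) = 0 := by
    rw [S.add_right, S.smul_right, hya', hyb']; ring
  have hyb2 : ∀ l : F, y ≠ l • (b + t • a) := by
    intro l hl
    have h1 : S.B a y = l := by
      rw [hl, S.smul_right, S.add_right, S.smul_right, S.alt, hab]; ring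
    rw [hay] at h1
    apply hy.1
    rw [hl, ← h1, zero_smul]
  -- transvections at `y`
  have hyall : ∀ s, S.Has y 0 s := by
    by_cases hT : ∀ s, S.Has y 0 s → s = 0
    · exfalso
      obtain ⟨c1, hc1⟩ := hy.2 ((1 : F) • b) (by rw [S.smul_right, hyb']; ring)
      obtain ⟨c2, hc2⟩ := hy.2 ((1 : F) • (b + t • a)) (by rw [S.smul_right, hbb']; ring)
      obtain ⟨c3, hc3⟩ := hy.2 (t • a) (by rw [S.smul_right, hya']; ring)
      have z1 := Has.eq_zero S hy hb hyb' hyb hl0 hl1 hT hc1
      have z2 := Has.eq_zero S hy hb' hbb' hyb2 hl0 hl1 hT hc2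
      have z3 := Has.eq_zero S hy ha hya' hya hl0 hl1 hT hc3
      subst z1 z2 z3
      have h4 := hc1.mul S (by rw [S.smul_right, hyb']; ring) (by rw [S.smul_right, hbb']; ring) hc2
      have e4 : (1 : F) • b + (1 : F) • (b + t • a) = t • a + (b + b) := by module
      have hba : S.B b a = 1 := by rw [S.symm, hab]
      rw [e4, S.vadd_self, add_zero, S.smul_left, S.smul_right, S.add_right, S.alt,
        S.smul_right, hba] at h4
      have h5 := hT _ (hc3.diff S (by rw [S.smul_right, hya']; ring) h4)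
      apply ht
      linear_combination h5
    · push Not at hT
      obtain ⟨s, hs, hs0⟩ := hT
      exact Has.all S hy ha hya' hya hs0 hs
  -- move to any vector
  intro x hx s
  by_cases hxy : ∃ m : F, x = m • y
  · obtain ⟨m, rfl⟩ := hxy
    rw [Has.smul_iff, smul_zero]
    exact hyall _
  push Not at hxy
  -- a vector of `⟨a, y⟩` perpendicular to `x`
  have key : ∀ z, S.A z → S.B x z = 0 → (∀ l : F, x ≠ l • z) → (∀ s, S.Has z 0 s) →
      S.Has x 0 s := by
    intro z hz hxz hind2 hzall
    obtain ⟨g, hg, hga, hgb⟩ := S.exists_weyl hx hz hxz hind2 (one_ne_zero (α := F))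
    rw [one_smul] at hgb
    have := (hzall s).conj S hg
    rwa [hgb, map_zero] at this
  by_cases hxy0 : S.B x y = 0
  · exact key y hy hxy0 hxy hyall
  -- `z = a + m y`
  have haall : ∀ s, S.Has a 0 s := by
    intro s
    obtain ⟨g, hg, hga, hgb⟩ := S.exists_weyl hy ha hya' hya (one_ne_zero (α := F))
    rw [inv_one, one_smul] at hga
    have := (hyall s).conj S hg
    rwa [hga, map_zero] at this
  have hay2 := ind_symm ha.1 hya
  have hz : S.A (a + ((S.B x a) * (S.B x y)⁻¹) • y) := ha.add_of_perp S hy hay hay2 _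
  have hxz : S.B x (a + ((S.B x a) * (S.B x y)⁻¹) • y) = 0 := by
    rw [S.add_right, S.smul_right, mul_assoc, inv_mul_cancel₀ hxy0]
    linear_combination (S.B x a) * S.two
  have hzy : S.B (a + ((S.B x a) * (S.B x y)⁻¹) • y) y = 0 := by
    rw [S.add_left, S.smul_left, hay, S.alt]; ring
  have hzyind : ∀ l : F, a + ((S.B x a) * (S.B x y)⁻¹) • y ≠ l • y := by
    intro l hl
    apply hay2 (l - (S.B x a) * (S.B x y)⁻¹)
    rw [sub_smul, ← hl, add_sub_cancel_right]
  have hzall : ∀ s, S.Has (a + ((S.B x a) * (S.B x y)⁻¹) • y) 0 s := by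
    intro s
    obtain ⟨g, hg, hga, hgb⟩ := S.exists_weyl hz hy hzy hzyind (one_ne_zero (α := F))
    rw [one_smul] at hgb
    have := (hyall s).conj S hg
    rwa [hgb, map_zero] at this
  by_cases hxz2 : ∀ l : F, x ≠ l • (a + ((S.B x a) * (S.B x y)⁻¹) • y)
  · exact key _ hz hxz hxz2 hzall
  · push Not at hxz2
    obtain ⟨l, hl⟩ := hxz2
    rw [hl, Has.smul_iff, smul_zero]
    exact hzall _

end Ctx

end Cfsg.Agent.H890.SpCore
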