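import Cfsg.Agent.H890.SpCaseTwo

/-!
S5712 (helper890): in the second case `A` consists of all nonzero vectors, and if `L` contains all
transvections it is the whole isometry group.
-/

set_option autoImplicit false

namespace Cfsg.Agent.H890.SpCore

variable {F V : Type*} [Field F] [AddCommGroup V] [Module F V]

namespace Ctx

variable (S : Ctx F V)

theorem A_all {a b : V} (ha : S.A a) (hab : S.B a b = 1)
    (hKa : ∀ v, S.B a v = 1 → S.A v) (hKb : ∀ v, S.B b v = 1 → S.A v) :
    ∀ v, v ≠ 0 → S.A v := by
  have hba : S.B b a = 1 := by rw [S.symm, hab]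
  have hKa' : ∀ v, S.B a v ≠ 0 → S.A v := by
    intro v hv
    have h1 := hKa ((S.B a v)⁻¹ • v) (by rw [S.smul_right, inv_mul_cancel₀ hv])
    rwa [A.smul_iff S (inv_ne_zero hv)] at h1
  have hKb' : ∀ v, S.B b v ≠ 0 → S.A v := by
    intro v hv
    have h1 := hKb ((S.B b v)⁻¹ • v) (by rw [S.smul_right, inv_mul_cancel₀ hv])
    rwa [A.smul_iff S (inv_ne_zero hv)] at h1
  intro v hv
  by_cases h1 : S.B a v = 0
  swap
  · exact hKa' v h1
  by_cases h2 : S.B b v = 0
  swap
  · exact hKb' v h2
  have h3 : S.A (v + a) := hKb' _ (by rw [S.add_right, h2, hba, zero_add]; exact one_ne_zero)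
  have h4 : S.B (v + a) a = 0 := by rw [S.add_left, S.alt, S.symm, h1, add_zero]
  have h5 : ∀ l : F, v + a ≠ l • a := by
    intro l hl
    have h6 : S.B b (v + a) = l := by rw [hl, S.smul_right, hba, mul_one]
    rw [S.add_right, h2, hba, zero_add] at h6
    apply hv
    rw [← h6, one_smul] at hl
    exact left_eq_add.1 (by rw [add_comm]; exact hl.symm)
  have h6 := h3.add_of_perp S ha h4 h5 1
  rwa [one_smul, add_assoc, S.vadd_self, add_zero] at h6

/-- **`|F| > 2`, second case: `L` contains all transvections.** -/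
theorem all_transvections' [Finite F] {a b w : V} {t l : F} (ha : S.A a) (hb : S.A b)
    (hb' : S.A (b + t • a)) (hab : S.B a b = 1) (ht : t ≠ 0) (hw : w ≠ 0)
    (haw : S.B a w = 0) (hbw : S.B b w = 0) (hl0 : l ≠ 0) (hl1 : l ≠ 1) :
    ∀ x s, S.Has x 0 s := by
  have hall := S.all_transvections ha hb hb' hab ht hw haw hbw hl0 hl1
  have hba : S.B b a = 1 := by rw [S.symm, hab]
  have hQ : ∀ x, S.A x → ∀ w, S.B x w = 0 → ∀ c, S.Has x w c := by
    intro x hx w hw c
    obtain ⟨c', hc'⟩ := hx.2 w hw
    have h1 := hc'.mul S hw (by rw [map_zero]) (hall x hx (c + c'))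
    rw [add_zero, map_zero, add_zero] at h1
    have e : c' + (c + c') = c := by linear_combination c' * S.two
    rwa [e] at h1
  have hK : ∀ a b : V, S.A a → S.A b → S.B a b = 1 → ∀ v, S.B a v = 1 → S.A v := by
    intro a b ha hb hab v hv
    have hba : S.B b a = 1 := by rw [S.symm, hab]
    have h1 := hb.move S (hQ a ha (v + b) (by rw [S.add_right, hv, hab, S.add_self]) (S.B b (v + b)))
    rw [hba] at h1
    have e : b + (1 : F) • (v + b) + S.B b (v + b) • a + (S.B b (v + b) * 1) • a
        = v + (b + b) + (S.B b (v + b) • a + S.B b (v + b) • a) := by module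
    rwa [e, S.vadd_self, S.vadd_self, add_zero, add_zero] at h1
  have hA := S.A_all ha hab (hK a b ha hb hab) (hK b a hb ha hba)
  intro x s
  by_cases hx : x = 0
  · subst hx
    refine ⟨1, S.L.one_mem, fun v => ?_⟩
    show v = _
    simp
  · exact hall x (hA x hx) s

/-- **`|F| = 2`, second case: `A` consists of all nonzero vectors.** -/
theorem A_all_two (h2 : ∀ x : F, x = 0 ∨ x = 1) {a b : V} (ha : S.A a) (hb : S.A b)
    (hb' : S.A (b + a)) (hab : S.B a b = 1) : ∀ v, v ≠ 0 → S.A v := by
  have hba : S.B b a = 1 := by rw [S.symm, hab]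
  have hK : ∀ a b : V, S.A a → S.A b → S.A (b + a) → S.B a b = 1 → ∀ v, S.B a v = 1 → S.A v := by
    intro a b ha hb hb' hab v hv
    have hba : S.B b a = 1 := by rw [S.symm, hab]
    have hw : S.B a (v + b) = 0 := by rw [S.add_right, hv, hab, S.add_self]
    obtain ⟨c, hc⟩ := ha.2 (v + b) hw
    rcases h2 (S.B b (v + b) + c) with h | h
    · have h1 := hb.move S hc
      rw [hba] at h1
      have e : b + (1 : F) • (v + b) + S.B b (v + b) • a + (c * 1) • a
        = v + (b + b) + (S.B b (v + b) + c) • a := by module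
      rwa [e, S.vadd_self, h, zero_smul, add_zero, add_zero] at h1
    · have h1 := hb'.move S hc
      rw [S.add_left, S.add_left, hba, S.alt, hw] at h1
      have e : b + a + (1 + 0 : F) • (v + b) + (S.B b (v + b) + 0) • a + (c * (1 + 0)) • a
        = v + (b + b) + (1 + (S.B b (v + b) + c)) • a := by module
      rwa [e, S.vadd_self, h, S.add_self, zero_smul, add_zero, add_zero] at h1
  have hb2 : S.A (a + b) := by rwa [add_comm]
  exact S.A_all ha hab (hK a b ha hb hb' hab) (hK b a hb ha hb2 hba)

/-! ### Generation by transvections -/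

/-- the fixed space -/
def fix (g : V ≃ₗ[F] V) : Submodule F V := LinearMap.ker (g.toLinearMap - LinearMap.id)

theorem mem_fix {g : V ≃ₗ[F] V} {v : V} : v ∈ fix g ↔ g v = v := by
  rw [fix, LinearMap.mem_ker, LinearMap.sub_apply, LinearMap.id_apply, sub_eq_zero]
  rfl

theorem exists_transvection {u : V} {s : F} (h : S.Has u 0 s) :
    ∃ t ∈ S.L, ∀ v, t v = v + (s * S.B v u) • u := by
  obtain ⟨t, ht, htv⟩ := h
  refine ⟨t, ht, fun v => ?_⟩
  rw [htv, map_zero]
  module

theorem gen_step {g : V ≃ₗ[F] V} (hg : ∀ u v, S.B (g u) (g v) = S.B u v)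
    (hall : ∀ x s, S.Has x 0 s) {x : V} (hx : S.B x (g x) ≠ 0) :
    ∃ t ∈ S.L, fix g < fix (t * g) := by
  obtain ⟨t, ht, htv⟩ := S.exists_transvection (hall (g x + x) (S.B x (g x))⁻¹)
  refine ⟨t, ht, lt_of_le_of_ne ?_ ?_⟩
  · intro y hy
    rw [mem_fix] at hy ⊢
    show t (g y) = y
    rw [hy, htv]
    have h1 : S.B y (g x + x) = 0 := by
      rw [S.add_right]
      nth_rewrite 1 [← hy]
      rw [hg, S.add_self]
    rw [h1, mul_zero, zero_smul, add_zero]
  · intro h
    have h1 : x ∈ fix (t * g) := by
      rw [mem_fix]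
      show t (g x) = x
      rw [htv, S.add_right, S.alt, zero_add, S.symm (g x) x, inv_mul_cancel₀ hx, one_smul,
        ← add_assoc, S.vadd_self, zero_add]
    rw [← h, mem_fix] at h1
    rw [h1, S.alt] at hx
    exact hx rfl

/-- **If `L` contains all transvections then it contains all isometries.** -/
theorem mem_of_transvections [FiniteDimensional F V] (hall : ∀ x s, S.Has x 0 s) :
    ∀ g : V ≃ₗ[F] V, (∀ u v, S.B (g u) (g v) = S.B u v) → g ∈ S.L := by
  have key : ∀ (n : ℕ) (g : V ≃ₗ[F] V), (∀ u v, S.B (g u) (g v) = S.B u v) →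
      Module.finrank F V - Module.finrank F (fix g) = n → g ∈ S.L := by
    intro n
    induction n using Nat.strong_induction_on with
    | _ n ih =>
      intro g hg hn
      -- enough to enlarge the fixed space
      have step : ∀ t ∈ S.L, fix g < fix (t * g) → g ∈ S.L := by
        intro t ht hlt
        have hlt' := Submodule.finrank_lt_finrank_of_lt hlt
        have hle := Submodule.finrank_le (fix (t * g))
        have hmem := ih _ (by omega) (t * g) (fun u v => by
          show S.B (t (g u)) (t (g v)) = _
          rw [S.inv t ht, hg]) rfl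
        have : g = t⁻¹ * (t * g) := by group
        rw [this]
        exact S.L.mul_mem (S.L.inv_mem ht) hmem
      by_cases h1 : ∃ x, S.B x (g x) ≠ 0
      · obtain ⟨x, hx⟩ := h1
        obtain ⟨t, ht, hlt⟩ := S.gen_step hg hall hx
        exact step t ht hlt
      · push Not at h1
        by_cases hone : ∀ w, g w = w
        · have : g = 1 := by ext w; exact hone w
          rw [this]
          exact S.L.one_mem
        push Not at hone
        obtain ⟨y, hy⟩ := hone
        have hu : g y + y ≠ 0 := fun h => hy (S.veq_of_add_zero h)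
        obtain ⟨x', hx'⟩ := S.exists_ne hu
        obtain ⟨x, rfl⟩ := g.surjective x'
        rw [S.symm] at hx'
        obtain ⟨t, ht, htv⟩ := S.exists_transvection (hall (g y + y) 1)
        have e1 : S.B x (g y) = S.B (g x) y := by
          have := h1 (x + y)
          rw [map_add g, S.add_left, S.add_right, S.add_right, h1, h1] at this
          rw [S.symm (g x) y]
          exact S.eq_of_add_zero (by linear_combination this)
        have e2 : S.B x (g y + y) = S.B (g x) (g y + y) := by
          rw [S.add_right, S.add_right, hg, e1, add_comm]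
        have hfix : fix g ≤ fix (t * g) := by
          intro z hz
          rw [mem_fix] at hz ⊢
          show t (g z) = z
          rw [hz, htv]
          have h3 : S.B z (g y + y) = 0 := by
            rw [S.add_right]
            nth_rewrite 1 [← hz]
            rw [hg, S.add_self]
          rw [h3, mul_zero, zero_smul, add_zero]
        have hg' : ∀ u v, S.B ((t * g) u) ((t * g) v) = S.B u v := fun u v => by
          show S.B (t (g u)) (t (g v)) = _
          rw [S.inv t ht, hg]
        have h4 : S.B x ((t * g) x) ≠ 0 := by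
          show S.B x (t (g x)) ≠ 0
          rw [htv, S.add_right, S.smul_right, h1, zero_add, one_mul, e2]
          exact mul_ne_zero hx' hx'
        obtain ⟨t', ht', hlt⟩ := S.gen_step hg' hall h4
        have h5 := step (t' * t) (S.L.mul_mem ht' ht)
        rw [mul_assoc] at h5
        exact h5 (lt_of_le_of_lt hfix hlt)
  exact fun g hg => key _ g hg rfl

end Ctx

end Cfsg.Agent.H890.SpCore
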