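import Cfsg.Agent.H890.SpGen
import Cfsg.Agent.H890.SpCaseOne
import Cfsg.Agent.H890.SpIndex

/-!
S5712 (helper890): coordinate free main theorem, up to the case `|F| = 2`, `dim V = 4`.
-/

set_option autoImplicit false

namespace Cfsg.Agent.H890.SpCore

open QuadraticMap Cfsg.Agent.LieClassical.OrthCore Module Cfsg.Agent.H890.SpParity

variable {F V : Type*} [Field F] [AddCommGroup V] [Module F V]

namespace Ctx

variable (S : Ctx F V)

/-- two functionals -/
def fun2 (x y : V) : V →ₗ[F] F × F := (S.B x).prod (S.B y)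

theorem fun2_apply (x y v : V) : S.fun2 x y v = (S.B x v, S.B y v) := rfl

theorem exists_perp2 [FiniteDimensional F V] (hdim : 3 ≤ finrank F V) (x y : V) :
    ∃ w, w ≠ 0 ∧ S.B x w = 0 ∧ S.B y w = 0 := by
  have h1 : finrank F (F × F) < finrank F V := by
    rw [Module.finrank_prod, Module.finrank_self]; omega
  have h2 := LinearMap.ker_ne_bot_of_finrank_lt (f := S.fun2 x y) h1
  obtain ⟨w, hw, hw0⟩ := Submodule.exists_mem_ne_zero_of_ne_bot h2
  rw [LinearMap.mem_ker, fun2_apply, Prod.mk_eq_zero] at hw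
  exact ⟨w, hw0, hw⟩

theorem finrank_span_pair_le (x y : V) : finrank F (Submodule.span F ({x, y} : Set V)) ≤ 2 := by
  have h6 := finrank_range_le_card (R := F) (M := V) (![x, y])
  rw [Fintype.card_fin] at h6
  have e : Set.range ![x, y] = {x, y} := by simp [Set.pair_comm]
  rwa [e] at h6

theorem exists_perp2_notMem [FiniteDimensional F V] (hdim : 5 ≤ finrank F V) (x y : V) :
    ∃ w, w ∉ Submodule.span F ({x, y} : Set V) ∧ S.B x w = 0 ∧ S.B y w = 0 := by
  have h1 : ¬ LinearMap.ker (S.fun2 x y) ≤ Submodule.span F {x, y} := by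
    intro hle
    have h2 := Submodule.finrank_mono hle
    have h3 := LinearMap.finrank_range_add_finrank_ker (S.fun2 x y)
    have h4 : finrank F (LinearMap.range (S.fun2 x y)) ≤ finrank F (F × F) := Submodule.finrank_le _
    rw [Module.finrank_prod, Module.finrank_self] at h4
    have h5 := finrank_span_pair_le (F := F) x y
    omega
  obtain ⟨w, hw, hw'⟩ := SetLike.not_le_iff_exists.1 h1
  rw [LinearMap.mem_ker, fun2_apply, Prod.mk_eq_zero] at hw
  exact ⟨w, hw', hw⟩

/-- Transvections spread over `A = V ∖ 0`. -/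
theorem transvection_spread [FiniteDimensional F V] (hdim : 3 ≤ finrank F V)
    (h2 : ∀ x : F, x = 0 ∨ x = 1) (hA : ∀ v, v ≠ 0 → S.A v) {x : V} (hx : x ≠ 0)
    (hx1 : S.Has x 0 1) : ∀ y s, S.Has y 0 s := by
  have key : ∀ x z, x ≠ 0 → z ≠ 0 → S.B x z = 0 → (∀ l : F, x ≠ l • z) → S.Has z 0 1 →
      S.Has x 0 1 := by
    intro x z hx hz hxz hind hz1
    obtain ⟨g, hg, hga, hgb⟩ := S.exists_weyl (hA x hx) (hA z hz) hxz hind (one_ne_zero (α := F))
    rw [one_smul] at hgb
    have := hz1.conj S hg
    rwa [hgb, map_zero] at this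
  have main : ∀ y, y ≠ 0 → S.Has y 0 1 := by
    intro y hy
    by_cases hxy : y = x
    · rwa [hxy]
    have hind : ∀ u v : V, u ≠ 0 → u ≠ v → ∀ l : F, u ≠ l • v := by
      intro u v hu huv l hl
      rcases h2 l with h | h
      · rw [h, zero_smul] at hl; exact hu hl
      · rw [h, one_smul] at hl; exact huv hl
    by_cases h0 : S.B y x = 0
    · exact key y x hy hx h0 (hind y x hy hxy) hx1
    · obtain ⟨w, hw, hxw, hyw⟩ := S.exists_perp2 hdim x y
      have hwx : w ≠ x := by
        rintro rfl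
        exact h0 hyw
      have hwy : y ≠ w := by
        rintro rfl
        rw [S.symm] at hxw
        exact h0 hxw
      have h1 := key w x hw hx (by rw [S.symm]; exact hxw) (hind w x hw hwx) hx1
      exact key y w hy hw hyw (hind y w hy hwy) h1
  intro y s
  by_cases hy : y = 0
  · subst hy
    refine ⟨1, S.L.one_mem, fun v => ?_⟩
    show v = _
    simp
  rcases h2 s with h | h
  · rw [h]; exact Has.zero S y
  · rw [h]; exact main y hy

/-- In dimension at least five, `A = V ∖ 0` forces transvections. -/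
theorem transvection_of_dim [FiniteDimensional F V] (hdim : 5 ≤ finrank F V)
    (hA : ∀ v, v ≠ 0 → S.A v) : ∃ x s, x ≠ 0 ∧ s ≠ 0 ∧ S.Has x 0 s := by
  by_contra hcon
  push Not at hcon
  have huniq : ∀ {a w : V} {c c' : F}, a ≠ 0 → S.B a w = 0 → S.Has a w c → S.Has a w c' →
      c = c' := by
    intro a w c c' ha hw hc hc'
    by_contra hne
    exact hcon a (c + c') ha (fun h0 => hne (S.eq_of_add_zero h0)) (hc.diff S hw hc')
  -- `c = 0` for independent perpendicular pairs
  have hzero : ∀ a c0 : V, a ≠ 0 → c0 ≠ 0 → S.B a c0 = 0 → S.Has a c0 0 := by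
    intro a c0 ha hc0 hac
    obtain ⟨b, hb, hab, hcb⟩ := S.exists_perp2_notMem hdim a c0
    obtain ⟨w, hw1, hw2⟩ := exists_sep S.B (fun x hx => S.nd x (fun y => by
      rw [S.symm]; exact hx y)) _ hb
    have haw : S.B a w = 0 := hw1 a (Submodule.subset_span (by simp))
    have hcw : S.B c0 w = 0 := hw1 c0 (Submodule.subset_span (by simp))
    obtain ⟨s, hs⟩ := (hA a ha).2 b hab
    obtain ⟨c, x, hx, hxv⟩ := (hA c0 hc0).2 w hcw
    have e1 : x a = a := by
      rw [hxv, hac, haw]; module
    have e2 : x b = b + c0 := by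
      rw [hxv, S.symm b c0, hcb, hw2]; module
    have h3 := hs.conj S hx
    rw [e1, e2] at h3
    have h4 := hs.mul S hab (by rw [S.add_right, hab, hac, add_zero]) h3
    have e3 : b + (b + c0) = c0 + (b + b) := by abel
    rw [e3, S.vadd_self, add_zero, S.add_self, S.add_right, S.alt, S.symm b c0, hcb, add_zero,
      add_zero] at h4
    exact h4
  -- contradiction
  have hV : ∃ a : V, a ≠ 0 := by
    have : 0 < finrank F V := by omega
    have := Module.finrank_pos_iff.1 this
    exact _root_.exists_ne 0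
  obtain ⟨a, ha⟩ := hV
  obtain ⟨w, hw, haw, -⟩ := S.exists_perp2_notMem hdim a a
  have hwa : ∀ l : F, w ≠ l • a := by
    rintro l rfl
    exact hw (Submodule.smul_mem _ _ (Submodule.subset_span (by simp)))
  obtain ⟨w', hw1, hw2⟩ := S.exists_eq_two ha hwa 0 1
  have hw0 : w ≠ 0 := by
    rintro rfl
    exact hw (Submodule.zero_mem _)
  have hw'0 : w' ≠ 0 := by
    rintro rfl
    rw [map_zero] at hw2
    exact zero_ne_one hw2
  have hww : w + w' ≠ 0 := by
    intro h
    have := S.veq_of_add_zero h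
    rw [this, S.alt] at hw2
    exact zero_ne_one hw2
  have h1 := (hzero a w ha hw0 haw).mul S haw hw1 (hzero a w' ha hw'0 hw1)
  rw [hw2] at h1
  have hp : S.B a (w + w') = 0 := by rw [S.add_right, haw, hw1, add_zero]
  have h2 := huniq ha hp h1 (hzero a (w + w') ha hww hp)
  rw [add_zero, zero_add] at h2
  exact one_ne_zero h2

/-- **The main trichotomy.** -/
theorem trichotomy [Finite F] [FiniteDimensional F V] {a : V} (ha : S.A a)
    (hirr : ∀ W : Submodule F V, (∀ g ∈ S.L, ∀ w ∈ W, g w ∈ W) → W = ⊥ ∨ W = ⊤)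
    (hdim : 4 ≤ finrank F V) :
    (∀ g : V ≃ₗ[F] V, (∀ u v, S.B (g u) (g v) = S.B u v) → g ∈ S.L) ∨
    (∃ Q : QuadraticForm F V, (∀ u v, polar Q u v = S.B u v) ∧
      (S.L = O Q ∨ ∀ g, g ∈ S.L ↔ (g ∈ O Q ∧ Even (finrank F (SpParity.fix g) + finrank F V)))) ∨
    (finrank F V = 4 ∧ (∀ x : F, x = 0 ∨ x = 1) ∧ (∀ v, v ≠ 0 → S.A v) ∧
      ∀ x s, x ≠ 0 → S.Has x 0 s → s = 0) := by
  -- a second vector of `A`
  obtain ⟨b, hb, hab⟩ : ∃ b, S.A b ∧ S.B a b = 1 := by
    by_contra hcon
    push Not at hcon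
    have hperp : ∀ g ∈ S.L, S.B a (g a) = 0 := by
      intro g hg
      by_contra h0
      apply hcon ((S.B a (g a))⁻¹ • g a) ((ha.map S hg).smul S (inv_ne_zero h0))
      rw [S.smul_right, inv_mul_cancel₀ h0]
    have h1 := hirr (Submodule.span F {v | ∃ g ∈ S.L, v = g a}) (by
      intro g hg w hw
      induction hw using Submodule.span_induction with
      | mem x hx =>
        obtain ⟨g', hg', rfl⟩ := hx
        exact Submodule.subset_span ⟨g * g', S.L.mul_mem hg hg', rfl⟩
      | zero => rw [map_zero]; exact Submodule.zero_mem _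
      | add x y _ _ hx hy => rw [map_add]; exact Submodule.add_mem _ hx hy
      | smul c x _ hx => rw [map_smul]; exact Submodule.smul_mem _ _ hx)
    rcases h1 with h1 | h1
    · have : a ∈ Submodule.span F {v | ∃ g ∈ S.L, v = g a} :=
        Submodule.subset_span ⟨1, S.L.one_mem, rfl⟩
      rw [h1, Submodule.mem_bot] at this
      exact ha.1 this
    · apply ha.1
      apply S.nd
      intro y
      have hy : y ∈ Submodule.span F {v | ∃ g ∈ S.L, v = g a} := by
        rw [h1]; exact Submodule.mem_top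
      induction hy using Submodule.span_induction with
      | mem x hx =>
        obtain ⟨g', hg', rfl⟩ := hx
        exact hperp g' hg'
      | zero => rw [map_zero]
      | add x y _ _ hx hy => rw [S.add_right, hx, hy, add_zero]
      | smul c x _ hx => rw [S.smul_right, hx, mul_zero]
  by_cases hone : ∀ (x y : V) (t : F), S.A x → S.A y → S.B x y = 1 → S.A (y + t • x) → t = 0
  · -- first case
    right; left
    have hC : S.CaseOne a b := ⟨ha, hb, hab, hone⟩
    obtain ⟨Q, hQ1, hQ2, hQ3, hQa, hQb⟩ := hC.result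
    obtain ⟨w, hw, haw, hbw⟩ := S.exists_perp2 (by omega) a b
    have hH : Hyp2 Q a b :=
      { two := S.two
        sq := S.exists_sq
        nd := fun x hx => S.nd x (fun y => by rw [← hQ1]; exact hx y)
        ha := hQa
        hb := hQb
        hab := by rw [hQ1, hab]
        more := ⟨w, hw, by rw [hQ1, haw], by rw [hQ1, hbw]⟩ }
    exact ⟨Q, hQ1, hH.between S.L hQ2 hQ3⟩
  · push Not at hone
    obtain ⟨x, y, t, hx, hy, hxy, hyt, ht⟩ := hone
    obtain ⟨w, hw, hxw, hyw⟩ := S.exists_perp2 (by omega) x y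
    by_cases hl : ∃ l : F, l ≠ 0 ∧ l ≠ 1
    · obtain ⟨l, hl0, hl1⟩ := hl
      left
      exact S.mem_of_transvections
        (S.all_transvections' hx hy hyt hxy ht hw hxw hyw hl0 hl1)
    · push Not at hl
      have h2 : ∀ x : F, x = 0 ∨ x = 1 := fun x => by
        by_cases h : x = 0
        · exact Or.inl h
        · exact Or.inr (hl x h)
      have ht1 : t = 1 := hl t ht
      rw [ht1, one_smul] at hyt
      have hA := S.A_all_two h2 hx hy hyt hxy
      by_cases hT : ∃ x s, x ≠ 0 ∧ s ≠ 0 ∧ S.Has x 0 s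
      · obtain ⟨x', s, hx', hs, hxs⟩ := hT
        rw [hl s hs] at hxs
        left
        exact S.mem_of_transvections (S.transvection_spread (by omega) h2 hA hx' hxs)
      · right; right
        have hdim4 : finrank F V = 4 := by
          by_contra hne
          exact hT (S.transvection_of_dim (by omega) hA)
        refine ⟨hdim4, h2, hA, fun x s hx hs => ?_⟩
        by_contra hs0
        exact hT ⟨x, s, hx, hs0, hs⟩

end Ctx

end Cfsg.Agent.H890.SpCore
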