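import Cfsg.Agent.H890.SpMain

/-!
S5712 (helper890): the case `|F| = 2`, `dim V = 4`: the order of `L`.
-/

set_option autoImplicit false

namespace Cfsg.Agent.H890.SpCore

open Module

variable {F V : Type*} [Field F] [AddCommGroup V] [Module F V]

namespace Ctx

variable (S : Ctx F V)

/-- `O₂` of the stabiliser of `a`. -/
def Qa (a : V) : Subgroup (V ≃ₗ[F] V) where
  carrier := {g | ∃ w c, S.B a w = 0 ∧ ∀ v, g v = v + S.B v a • w + S.B v w • a + (c * S.B v a) • a}
  mul_mem' {x y} hx hy := by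
    obtain ⟨w, c, haw, hxv⟩ := hx
    obtain ⟨w', c', haw', hyv⟩ := hy
    refine ⟨w + w', c + c' + S.B w w', by rw [S.add_right, haw, haw', add_zero], fun v => ?_⟩
    show x (y v) = _
    have hwa : S.B w a = 0 := by rw [S.symm, haw]
    have hwa' : S.B w' a = 0 := by rw [S.symm, haw']
    have hs : S.B w' w = S.B w w' := S.symm _ _
    rw [hxv, hyv]
    simp only [S.add_left, S.add_right, S.smul_left, S.alt, haw, hwa', hs]
    module
  one_mem' := ⟨0, 0, by rw [map_zero], fun v => by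
    show v = _
    simp⟩
  inv_mem' {x} hx := by
    obtain ⟨w, c, haw, hxv⟩ := hx
    refine ⟨w, c, haw, fun v => ?_⟩
    obtain ⟨v, rfl⟩ := x.surjective v
    have h1 : x⁻¹ (x v) = v := x.symm_apply_apply v
    have hwa : S.B w a = 0 := by rw [S.symm, haw]
    rw [h1, hxv]
    simp only [S.add_left, S.smul_left, S.alt, haw, hwa]
    have e : v = v + ((S.B v a • w + S.B v a • w) + (S.B v w • a + S.B v w • a) +
        ((c * S.B v a) • a + (c * S.B v a) • a)) := by
      rw [S.vadd_self (S.B v a • w), S.vadd_self (S.B v w • a), S.vadd_self ((c * S.B v a) • a)]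
      simp
    conv_lhs => rw [e]
    module

theorem mem_Qa {a : V} {g : V ≃ₗ[F] V} : g ∈ S.Qa a ↔
    ∃ w c, S.B a w = 0 ∧ ∀ v, g v = v + S.B v a • w + S.B v w • a + (c * S.B v a) • a := Iff.rfl

theorem Qa_sq {a : V} {g : V ≃ₗ[F] V} (hg : g ∈ S.Qa a) : g * g = 1 := by
  obtain ⟨w, c, haw, hxv⟩ := hg
  have hwa : S.B w a = 0 := by rw [S.symm, haw]
  ext v
  show g (g v) = v
  rw [hxv, hxv]
  simp only [S.add_left, S.smul_left, S.alt, haw, hwa]
  have e : ∀ x y z : V, v + (x + x) + (y + y) + (z + z) = v := by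
    intro x y z
    rw [S.vadd_self, S.vadd_self, S.vadd_self]; simp
  conv_rhs => rw [← e (S.B v a • w) (S.B v w • a) ((c * S.B v a) • a)]
  module

theorem Qa_fix {a : V} {g : V ≃ₗ[F] V} (hg : g ∈ S.Qa a) : g a = a := by
  obtain ⟨w, c, haw, hxv⟩ := hg
  rw [hxv, S.alt, haw]
  module

/-- stabiliser of a vector in `L`, inside `L` -/
def stabL (a : V) : Subgroup S.L where
  carrier := {g | (g : V ≃ₗ[F] V) a = a}
  mul_mem' {x y} hx hy := by
    show x.1 (y.1 a) = a
    rw [show y.1 a = a from hy]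
    exact hx
  one_mem' := rfl
  inv_mem' {x} hx := by
    have h : x.1 a = a := hx
    show x.1.symm a = a
    rw [LinearEquiv.symm_apply_eq]
    exact h.symm

theorem mem_stabL {a : V} {g : S.L} : g ∈ S.stabL a ↔ (g : V ≃ₗ[F] V) a = a := Iff.rfl

variable [FiniteDimensional F V]

/-- `L` is transitive on nonzero vectors when `A = V ∖ 0` and `|F| = 2`. -/
theorem trans_two (hdim : 3 ≤ finrank F V) (h2 : ∀ x : F, x = 0 ∨ x = 1)
    (hA : ∀ v, v ≠ 0 → S.A v) {x y : V} (hx : x ≠ 0) (hy : y ≠ 0) : ∃ g ∈ S.L, g x = y := by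
  have hind : ∀ u v : V, u ≠ 0 → u ≠ v → ∀ l : F, u ≠ l • v := by
    intro u v hu huv l hl
    rcases h2 l with h | h
    · rw [h, zero_smul] at hl; exact hu hl
    · rw [h, one_smul] at hl; exact huv hl
  have key : ∀ x y : V, x ≠ 0 → y ≠ 0 → S.B x y = 0 → ∃ g ∈ S.L, g x = y := by
    intro x y hx hy hxy
    by_cases hne : x = y
    · exact ⟨1, S.L.one_mem, hne⟩
    obtain ⟨g, hg, hga, -⟩ := S.exists_weyl (hA x hx) (hA y hy) hxy (hind x y hx hne)
      (one_ne_zero (α := F))
    rw [inv_one, one_smul] at hga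
    exact ⟨g, hg, hga⟩
  obtain ⟨w, hw, hxw, hyw⟩ := S.exists_perp2 hdim x y
  obtain ⟨g, hg, hga⟩ := key x w hx hw hxw
  obtain ⟨g', hg', hga'⟩ := key w y hw hy (by rw [S.symm]; exact hyw)
  exact ⟨g' * g, S.L.mul_mem hg' hg, by show g' (g x) = y; rw [hga, hga']⟩

omit [FiniteDimensional F V] in
theorem card_F (h2 : ∀ x : F, x = 0 ∨ x = 1) : Nat.card F = 2 := by
  classical
  rw [Nat.card_eq_two_iff]
  refine ⟨0, 1, zero_ne_one, ?_⟩
  ext x
  simpa using h2 x

variable [Finite F]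

theorem card_L (hdim : finrank F V = 4) (h2 : ∀ x : F, x = 0 ∨ x = 1)
    (hA : ∀ v, v ≠ 0 → S.A v) {a : V} (ha : a ≠ 0) :
    Nat.card S.L = 15 * Nat.card (S.stabL a) := by
  have : Finite V := Module.finite_of_finite F
  have : Finite (V ≃ₗ[F] V) := Finite.of_injective (fun g : V ≃ₗ[F] V => (g : V → V))
    (fun g h hgh => LinearEquiv.ext (congrFun hgh))
  have hV : Nat.card V = 16 := by
    rw [Module.natCard_eq_pow_finrank (K := F), hdim, card_F h2]; norm_num
  have hindex : (S.stabL a).index = 15 := by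
    -- the quotient is in bijection with the nonzero vectors
    let f : S.L → {v : V // v ≠ 0} := fun g => ⟨(g : V ≃ₗ[F] V) a, fun h => ha
      ((LinearEquiv.map_eq_zero_iff _).1 h)⟩
    have h1 : ∀ g h : S.L, f g = f h ↔ g⁻¹ * h ∈ S.stabL a := by
      intro g h
      rw [mem_stabL]
      show _ ↔ (g : V ≃ₗ[F] V).symm ((h : V ≃ₗ[F] V) a) = a
      rw [LinearEquiv.symm_apply_eq, Subtype.ext_iff]
      exact eq_comm
    have hsurj : Function.Surjective f := by
      rintro ⟨v, hv⟩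
      obtain ⟨g, hg, hgv⟩ := S.trans_two (by omega) h2 hA ha hv
      exact ⟨⟨g, hg⟩, Subtype.ext hgv⟩
    let F' : (S.L ⧸ S.stabL a) → {v : V // v ≠ 0} := Quotient.lift f (fun g h hgh =>
      (h1 g h).2 (QuotientGroup.leftRel_apply.1 hgh))
    have hF : Function.Bijective F' := by
      constructor
      · intro x y
        induction x using QuotientGroup.induction_on with
        | H x =>
          induction y using QuotientGroup.induction_on with
          | H y =>
            intro h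
            exact QuotientGroup.eq.2 ((h1 x y).1 h)
      · intro v
        obtain ⟨g, hg⟩ := hsurj v
        exact ⟨(g : S.L ⧸ S.stabL a), hg⟩
    have h3 : (S.stabL a).index = Nat.card {v : V // v ≠ 0} :=
      Nat.card_congr (Equiv.ofBijective F' hF)
    rw [h3]
    classical
    have := Fintype.ofFinite V
    rw [Nat.card_eq_fintype_card, Fintype.card_subtype_compl, Fintype.card_subtype_eq,
      ← Nat.card_eq_fintype_card, hV]
  rw [← (S.stabL a).index_mul_card, hindex]

/-- `X_a` inside `L` -/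
def XL (a : V) : Subgroup S.L := (S.Qa a).subgroupOf S.L

omit [FiniteDimensional F V] [Finite F] in
theorem XL_le (a : V) : S.XL a ≤ S.stabL a := by
  intro g hg
  exact S.Qa_fix (Subgroup.mem_subgroupOf.1 hg)

omit [Finite F] in
theorem exists_perp_ind (hdim : 3 ≤ finrank F V) {a : V} (ha : a ≠ 0) :
    ∃ w, (∀ l : F, w ≠ l • a) ∧ S.B a w = 0 := by
  obtain ⟨b, hb⟩ := S.exists_eq ha 1
  obtain ⟨w, hw, haw, hbw⟩ := S.exists_perp2 hdim a b
  refine ⟨w, ?_, haw⟩
  rintro l rfl
  rw [S.smul_right, S.symm b a, hb, mul_one] at hbw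
  exact hw (by rw [hbw, zero_smul])

theorem four_dvd_card_XL (hdim : finrank F V = 4) (hA : ∀ v, v ≠ 0 → S.A v) {a : V} (ha : a ≠ 0) :
    4 ∣ Nat.card (S.XL a) := by
  have : Finite V := Module.finite_of_finite F
  have : Finite (V ≃ₗ[F] V) := Finite.of_injective (fun g : V ≃ₗ[F] V => (g : V → V))
    (fun g h hgh => LinearEquiv.ext (congrFun hgh))
  have hp : IsPGroup 2 (S.XL a) := by
    intro g
    refine ⟨1, ?_⟩
    rw [pow_one, pow_two]
    apply Subtype.ext
    apply Subtype.ext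
    exact S.Qa_sq (Subgroup.mem_subgroupOf.1 g.2)
  obtain ⟨k, hk⟩ := (IsPGroup.iff_card (p := 2) (G := S.XL a)).1 hp
  -- two elements
  obtain ⟨w1, hw1, haw1⟩ := S.exists_perp_ind (by omega) ha
  obtain ⟨w2, haw2, hw12⟩ := S.exists_eq_two ha hw1 0 1
  obtain ⟨c1, x1, hx1, hx1v⟩ := (hA a ha).2 w1 haw1
  obtain ⟨c2, x2, hx2, hx2v⟩ := (hA a ha).2 w2 haw2
  have hw21 : S.B w2 w1 = 1 := by rw [S.symm, hw12]
  have e1 : x1 w2 = w2 + a := by
    rw [hx1v, S.symm w2 a, haw2, hw21]; module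
  have e2 : x2 w2 = w2 := by
    rw [hx2v, S.symm w2 a, haw2, S.alt]; module
  have e3 : x2 w1 = w1 + a := by
    rw [hx2v, S.symm w1 a, haw1, hw12]; module
  let y1 : S.XL a := ⟨⟨x1, hx1⟩, Subgroup.mem_subgroupOf.2 ⟨w1, c1, haw1, hx1v⟩⟩
  let y2 : S.XL a := ⟨⟨x2, hx2⟩, Subgroup.mem_subgroupOf.2 ⟨w2, c2, haw2, hx2v⟩⟩
  have n1 : y1 ≠ 1 := by
    intro h
    have h3 : x1 = 1 := congrArg (fun z : S.XL a => (z.1.1 : V ≃ₗ[F] V)) h
    rw [h3] at e1
    exact ha (left_eq_add.1 e1)
  have n2 : y2 ≠ 1 := by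
    intro h
    have h3 : x2 = 1 := congrArg (fun z : S.XL a => (z.1.1 : V ≃ₗ[F] V)) h
    rw [h3] at e3
    exact ha (left_eq_add.1 e3)
  have n3 : y1 ≠ y2 := by
    intro h
    have h3 : x1 = x2 := congrArg (fun z : S.XL a => (z.1.1 : V ≃ₗ[F] V)) h
    rw [h3, e2] at e1
    exact ha (left_eq_add.1 e1)
  have hk2 : 2 < 2 ^ k := by
    rw [← hk]
    classical
    have := Fintype.ofFinite (S.XL a)
    rw [Nat.card_eq_fintype_card, Fintype.two_lt_card_iff]
    exact ⟨1, y1, y2, n1.symm, n2.symm, n3⟩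
  have hk3 : 2 ≤ k := by
    by_contra h
    have : k ≤ 1 := by omega
    have : 2 ^ k ≤ 2 ^ 1 := Nat.pow_le_pow_right (by norm_num) this
    omega
  rw [hk]
  exact (by norm_num : (4 : ℕ) ∣ 2 ^ 2).trans (pow_dvd_pow 2 hk3)

theorem sixty_dvd (hdim : finrank F V = 4) (h2 : ∀ x : F, x = 0 ∨ x = 1)
    (hA : ∀ v, v ≠ 0 → S.A v) : 60 ∣ Nat.card S.L := by
  have hV : ∃ a : V, a ≠ 0 := by
    have : 0 < finrank F V := by omega
    have := Module.finrank_pos_iff.1 this
    exact _root_.exists_ne 0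
  obtain ⟨a, ha⟩ := hV
  rw [S.card_L hdim h2 hA ha]
  have h4 := (S.four_dvd_card_XL hdim hA ha).trans (Subgroup.card_dvd_of_le (S.XL_le a))
  obtain ⟨k, hk⟩ := h4
  exact ⟨k, by rw [hk]; ring⟩

theorem card_ne_sixty (hdim : finrank F V = 4) (h2 : ∀ x : F, x = 0 ∨ x = 1)
    (hA : ∀ v, v ≠ 0 → S.A v) : Nat.card S.L ≠ 60 := by
  intro h60
  have : Finite V := Module.finite_of_finite F
  have : Finite (V ≃ₗ[F] V) := Finite.of_injective (fun g : V ≃ₗ[F] V => (g : V → V))
    (fun g h hgh => LinearEquiv.ext (congrFun hgh))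
  -- stabilisers are the groups `X_a`
  have hstab : ∀ a : V, a ≠ 0 → S.stabL a = S.XL a := by
    intro a ha
    have h1 := S.card_L hdim h2 hA ha
    rw [h60] at h1
    have h3 : Nat.card (S.stabL a) = 4 := by omega
    have h4 := S.four_dvd_card_XL hdim hA ha
    have h5 : Nat.card (S.XL a) ≤ 4 := by
      rw [← h3]
      exact Nat.le_of_dvd Nat.card_pos (Subgroup.card_dvd_of_le (S.XL_le a))
    have h6 : Nat.card (S.XL a) = 4 := by
      have := Nat.card_pos (α := S.XL a)
      exact le_antisymm h5 (Nat.le_of_dvd this h4)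
    exact (Subgroup.eq_of_le_of_card_ge (S.XL_le a) (by rw [h3, h6])).symm
  have hV : ∃ a : V, a ≠ 0 := by
    have : 0 < finrank F V := by omega
    have := Module.finrank_pos_iff.1 this
    exact _root_.exists_ne 0
  obtain ⟨a, ha⟩ := hV
  -- an element with `c = 1`
  obtain ⟨w, hwa, haw, hH⟩ : ∃ w, (∀ l : F, w ≠ l • a) ∧ S.B a w = 0 ∧ S.Has a w 1 := by
    obtain ⟨w1, hw1, haw1⟩ := S.exists_perp_ind (by omega) ha
    obtain ⟨w2, haw2, hw12⟩ := S.exists_eq_two ha hw1 0 1
    obtain ⟨c1, hc1⟩ := (hA a ha).2 w1 haw1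
    obtain ⟨c2, hc2⟩ := (hA a ha).2 w2 haw2
    rcases h2 c1 with h | h
    · rcases h2 c2 with h' | h'
      · refine ⟨w1 + w2, ?_, by rw [S.add_right, haw1, haw2, add_zero], ?_⟩
        · intro l hl
          have : S.B w1 (w1 + w2) = 0 := by
            rw [hl, S.smul_right, S.symm w1 a, haw1, mul_zero]
          rw [S.add_right, S.alt, hw12, zero_add] at this
          exact one_ne_zero this
        · have h3 := hc1.mul S haw1 haw2 hc2
          rwa [h, h', hw12, add_zero, zero_add] at h3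
      · refine ⟨w2, ?_, haw2, by rwa [h'] at hc2⟩
        rintro l rfl
        rw [S.smul_right, S.symm w1 a, haw1, mul_zero] at hw12
        exact zero_ne_one hw12
    · exact ⟨w1, hw1, haw1, by rwa [h] at hc1⟩
  have hw0 : w ≠ 0 := by
    have := hwa 0
    rwa [zero_smul] at this
  obtain ⟨z, hz, hzv⟩ := hH
  have hzw : z w = w := by
    rw [hzv, S.symm w a, haw, S.alt]; module
  have h3 : (⟨z, hz⟩ : S.L) ∈ S.XL w := by
    rw [← hstab w hw0]
    exact hzw
  obtain ⟨w', c', hw', hzv'⟩ := Subgroup.mem_subgroupOf.1 h3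
  obtain ⟨v, hv1, hv2⟩ := S.exists_eq_two ha hwa 1 0
  have h4 : z v = v + (w + a) := by
    rw [hzv, S.symm v a, hv1, S.symm v w, hv2]; module
  have h5 : z v = v + S.B v w' • w := by
    have := hzv' v
    rw [S.symm v w, hv2] at this
    rw [show z v = _ from this]
    module
  rw [h4] at h5
  have h6 : w + a = S.B v w' • w := add_left_cancel h5
  rcases h2 (S.B v w') with h | h
  · rw [h, zero_smul] at h6
    apply hwa 1
    rw [one_smul]
    exact S.veq_of_add_zero h6
  · rw [h, one_smul] at h6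
    exact ha (left_eq_add.1 h6.symm)

omit [FiniteDimensional F V] [Finite F] in
/-- A transvection is an isometry not in `L`. -/
theorem exists_not_mem {a : V} (ha : ∀ s, S.Has a 0 s → s = 0) :
    ∃ g : V ≃ₗ[F] V, (∀ u v, S.B (g u) (g v) = S.B u v) ∧ g ∉ S.L := by
  let f : V →ₗ[F] V := LinearMap.id + (LinearMap.flip S.B a).smulRight a
  have hf : ∀ v, f v = v + S.B v a • a := fun v => rfl
  have hff : ∀ v, f (f v) = v := by
    intro v
    rw [hf, hf, S.add_left, S.smul_left, S.alt, mul_zero, add_zero, add_assoc, S.vadd_self,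
      add_zero]
  let g : V ≃ₗ[F] V := LinearEquiv.ofLinearMap f f (LinearMap.ext hff) (LinearMap.ext hff)
  have hg : ∀ v, g v = v + S.B v a • a := hf
  refine ⟨g, fun u v => ?_, fun h => ?_⟩
  · rw [hg, hg]
    simp only [S.add_left, S.add_right, S.smul_left, S.smul_right, S.alt]
    rw [S.symm a v]
    linear_combination (S.B u a * S.B v a) * S.two
  · have h1 := ha 1 ⟨g, h, fun v => by rw [hg, map_zero]; module⟩
    exact one_ne_zero h1

end Ctx

end Cfsg.Agent.H890.SpCore
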