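import Cfsg.Agent.H890.SpTwoCore

/-!
S5712 (helper890): a subgroup `X` of `Qa a` of order `q^(2n-2)` without transvections gives `A a`.
-/

set_option autoImplicit false

namespace Cfsg.Agent.H890.SpCore

open Module

variable {F V : Type*} [Field F] [AddCommGroup V] [Module F V]

namespace Ctx

variable (S : Ctx F V)

theorem card_ker_fun2 [Finite F] [FiniteDimensional F V] {a b : V} (hab : S.B a b = 1) :
    Nat.card (LinearMap.ker (S.fun2 a b)) = Nat.card F ^ (finrank F V - 2) := by
  have hsurj : Function.Surjective (S.fun2 a b) := by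
    rintro ⟨x, y⟩
    refine ⟨y • a + x • b, ?_⟩
    have hba : S.B b a = 1 := by rw [S.symm, hab]
    rw [fun2_apply, Prod.mk.injEq]
    simp only [S.add_right, S.smul_right, S.alt, hab, hba]
    constructor <;> ring
  have h3 := LinearMap.finrank_range_add_finrank_ker (S.fun2 a b)
  rw [LinearMap.range_eq_top.2 hsurj, finrank_top, Module.finrank_prod, Module.finrank_self] at h3
  rw [Module.natCard_eq_pow_finrank (K := F)]
  congr 1
  omega

theorem A_of_X [Finite F] [FiniteDimensional F V] {a : V} (ha : a ≠ 0) (X : Subgroup (V ≃ₗ[F] V))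
    (hXL : X ≤ S.L) (hXQ : ∀ x ∈ X, x ∈ S.Qa a)
    (hcard : Nat.card X = Nat.card F ^ (finrank F V - 2))
    (hntv : ∀ x ∈ X, ∀ c : F, (∀ v, x v = v + (c * S.B v a) • a) → c = 0) : S.A a := by
  have : Finite V := Module.finite_of_finite F
  obtain ⟨b, hab⟩ := S.exists_eq ha 1
  have hba : S.B b a = 1 := by rw [S.symm, hab]
  -- the projection
  have hπ : ∀ w, S.B a w = 0 → w + S.B b w • a ∈ LinearMap.ker (S.fun2 a b) := by
    intro w hw
    rw [LinearMap.mem_ker, fun2_apply, Prod.mk_eq_zero]
    simp only [S.add_right, S.smul_right, S.alt, hba, hw]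
    constructor
    · ring
    · linear_combination (S.B b w) * S.two
  have hx : ∀ x ∈ X, ∀ w c, S.B a w = 0 →
      (∀ v, x v = v + S.B v a • w + S.B v w • a + (c * S.B v a) • a) →
      x b + b + S.B b (x b) • a = w + S.B b w • a := by
    intro x _ w c hw hxv
    rw [hxv b, hba]
    simp only [S.add_right, S.smul_right, S.alt, hba]
    have e : b + (1 : F) • w + S.B b w • a + (c * 1) • a + b +
        (0 + 1 * S.B b w + S.B b w * 1 + c * 1 * 1) • a =
        w + S.B b w • a + ((b + b) + ((S.B b w • a + S.B b w • a) + (c • a + c • a))) := by module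
    rw [e, S.vadd_self, S.vadd_self, S.vadd_self, add_zero, add_zero, add_zero]
  let Ψ : X → LinearMap.ker (S.fun2 a b) := fun x => ⟨x.1 b + b + S.B b (x.1 b) • a, by
    obtain ⟨w, c, hw, hxv⟩ := hXQ x.1 x.2
    rw [hx x.1 x.2 w c hw hxv]
    exact hπ w hw⟩
  have hinj : Function.Injective Ψ := by
    intro x y hxy
    obtain ⟨w, c, hw, hxv⟩ := hXQ x.1 x.2
    obtain ⟨w', c', hw', hyv⟩ := hXQ y.1 y.2
    have h1 : x.1 b + b + S.B b (x.1 b) • a = y.1 b + b + S.B b (y.1 b) • a :=
      congrArg Subtype.val hxy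
    rw [hx x.1 x.2 w c hw hxv, hx y.1 y.2 w' c' hw' hyv] at h1
    have h2 : w = w' + (S.B b w + S.B b w') • a := by
      have e : w = (w + S.B b w • a) + S.B b w • a := by
        rw [add_assoc, S.vadd_self, add_zero]
      rw [e, h1]
      have hc : S.B b (w' + S.B b w' • a + S.B b w • a) = S.B b w := by
        simp only [S.add_right, S.smul_right, hba]
        linear_combination (S.B b w') * S.two
      rw [hc]
      module
    have hxyX : x.1 * y.1 ∈ X := X.mul_mem x.2 y.2
    have h3 : ∀ v, (x.1 * y.1) v = v + ((c + c' + S.B w w') * S.B v a) • a := by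
      intro v
      show x.1 (y.1 v) = _
      have hwa : S.B w a = 0 := by rw [S.symm, hw]
      have hwa' : S.B w' a = 0 := by rw [S.symm, hw']
      have hs : S.B w' w = S.B w w' := S.symm _ _
      rw [hxv, hyv]
      simp only [S.add_left, S.smul_left, S.alt, hw, hwa', hs]
      have hvw : S.B v w = S.B v w' + (S.B b w + S.B b w') * S.B v a := by
        conv_lhs => rw [h2]
        rw [S.add_right, S.smul_right]
      rw [hvw]
      nth_rewrite 1 [h2]
      have e : ∀ x : F, x • a + x • a = 0 := fun x => S.vadd_self _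
      have e' : ∀ (x : F) (w : V), x • w + x • w = 0 := fun x w => S.vadd_self _
      have key := e' (S.B v a) w'
      have key2 := e (S.B v w')
      have key3 := e ((S.B b w + S.B b w') * S.B v a)
      calc _ = v + ((c + c' + S.B w w') * S.B v a) • a + ((S.B v a • w' + S.B v a • w') +
            ((S.B v w' • a + S.B v w' • a) +
            (((S.B b w + S.B b w') * S.B v a) • a + ((S.B b w + S.B b w') * S.B v a) • a))) := by
              module
        _ = _ := by rw [key, key2, key3]; simp
    have h4 := hntv _ hxyX _ h3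
    have h5 : x.1 * y.1 = 1 := by
      ext v
      rw [h3, h4, zero_mul, zero_smul, add_zero]
      rfl
    have h6 : y.1 * y.1 = 1 := S.Qa_sq (hXQ y.1 y.2)
    exact Subtype.ext (mul_right_cancel (h5.trans h6.symm))
  have hsurj : Function.Surjective Ψ := by
    have hb : Function.Bijective Ψ := by
      refine (Nat.bijective_iff_injective_and_card _).2 ⟨hinj, ?_⟩
      rw [hcard, S.card_ker_fun2 hab]
    exact hb.2
  refine ⟨ha, fun w hw => ?_⟩
  obtain ⟨x, hxw⟩ := hsurj ⟨w + S.B b w • a, hπ w hw⟩
  obtain ⟨w', c, hw', hxv⟩ := hXQ x.1 x.2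
  have h1 : x.1 b + b + S.B b (x.1 b) • a = w + S.B b w • a := congrArg Subtype.val hxw
  rw [hx x.1 x.2 w' c hw' hxv] at h1
  have h2 : w = w' + (S.B b w' + S.B b w) • a := by
    have e : w = (w + S.B b w • a) + S.B b w • a := by
      rw [add_assoc, S.vadd_self, add_zero]
    rw [e, ← h1]
    have hc : S.B b (w' + S.B b w' • a + S.B b w • a) = S.B b w := by
      simp only [S.add_right, S.smul_right, hba]
      linear_combination (S.B b w') * S.two
    rw [hc]
    module
  have h3 : S.Has a w' c := ⟨x.1, hXL x.2, hxv⟩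
  have h4 := h3.add_smul S (S.B b w' + S.B b w)
  rw [← h2] at h4
  exact ⟨c, h4⟩

end Ctx

end Cfsg.Agent.H890.SpCore
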